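import Cfsg.Agent.H231.ALMod
import Cfsg.Agent.H231.QsSec

/-!
# Asymmetric L-lemma: chief factors of `H` inside `O_p(H)` and the passage to `H / W`
-/

set_option autoImplicit false
set_option linter.unusedSectionVars false

namespace Cfsg.Agent.H231.AL

open Cfsg Subgroup
open scoped commutatorElement
open Cfsg.Agent.H230 (resOf resOf_le mem_resOf_of_coprime resOf_eq_closure)
open Cfsg.Agent.H229 (cj mem_cj cj_mono cj_le_of_norm mem_norm cj_comm cj_centralizer cj_inf cj_sup cj_inv_cj cj_cj_inv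
  le_norm_iff_comm_le le_norm_iff mem_sup_of_norm cj_le_iff le_cj_iff cj_eq_bot le_centralizer_comm centralizer_le_norm
  norm_le_norm_centralizer ncl cj_le_ncl le_ncl ncl_le_iff le_norm_ncl ncl_le card_cj cj_eq_of_le ChP
  isPGroup_pCoreOf pCoreOf_le le_norm_pCoreOf le_pCoreOf cj_normalizer)

variable {G : Type*} [Group G]

/-- chief factor of `H` inside `O_p(H)` -/
structure Chief (p : ℕ) (H V W : Subgroup G) : Prop where
  le : V ≤ pCoreOf p H
  nV : H ≤ normalizer (V : Set G)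
  nW : H ≤ normalizer (W : Set G)
  lt : W < V
  min : ∀ Z : Subgroup G, H ≤ normalizer (Z : Set G) → W ≤ Z → Z ≤ V → Z = W ∨ Z = V

theorem comm_eq_one {p : ℕ} {n x : G} (hc : Commute ⁅n, x⁆ x) (hx : (orderOf x).Coprime p)
    (hp : ∃ k : ℕ, ⁅n, x⁆ ^ p ^ k = 1) : ⁅n, x⁆ = 1 := by
  set c := ⁅n, x⁆ with hcdef
  have h1 : n * x * n⁻¹ = c * x := by rw [hcdef, commutatorElement_def]; group
  have h2 : c ^ orderOf x = 1 := by
    have h3 : (n * x * n⁻¹) ^ orderOf x = 1 := by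
      rw [conj_pow, pow_orderOf_eq_one]; group
    rwa [h1, hc.mul_pow, pow_orderOf_eq_one, mul_one] at h3
  obtain ⟨k, hk⟩ := hp
  rw [← orderOf_eq_one_iff]
  exact Nat.dvd_one.1 ((hx.pow_right k).symm ▸ Nat.dvd_gcd (orderOf_dvd_of_pow_eq_one hk) (orderOf_dvd_of_pow_eq_one h2))

/-- a group stabilizing `N ≥ N₂ ≥ 1`: `O^p` centralizes the `p`-group `N`. -/
theorem resOf_cen_of_chain {p : ℕ} [Finite G] [Fact p.Prime] {D N N₂ : Subgroup G} (hN : IsPGroup p ↥N)
    (h1 : ⁅N, D⁆ ≤ N₂) (h12 : N₂ ≤ N) (h2 : resOf p D ≤ centralizer (N₂ : Set G)) :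
    resOf p D ≤ centralizer (N : Set G) := by
  rw [resOf_eq_closure, closure_le]
  rintro x ⟨hx, hxo⟩
  have hxR : x ∈ resOf p D := mem_resOf_of_coprime hx hxo
  refine mem_centralizer_iff.2 fun n hn => ?_
  have h3 : ⁅n, x⁆ ∈ N₂ := h1 (commutator_mem_commutator hn hx)
  have h4 : ⁅n, x⁆ = 1 := by
    apply comm_eq_one _ hxo
    · obtain ⟨k, hk⟩ := hN ⟨_, h12 h3⟩
      exact ⟨k, by simpa using congrArg Subtype.val hk⟩
    · exact mem_centralizer_iff.1 (h2 hxR) _ h3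
  exact commutatorElement_eq_one_iff_mul_comm.1 h4

theorem isPGroup_of_resOf_eq_bot {p : ℕ} [Finite G] [Fact p.Prime] {D : Subgroup G} (h : resOf p D = ⊥) :
    IsPGroup p ↥D := by
  intro x
  obtain ⟨k, hk⟩ := H229.pow_mem_resOf (p := p) x.2
  rw [h, mem_bot] at hk
  exact ⟨k, Subtype.ext (by simpa using hk)⟩

theorem resOf_eq_bot {p : ℕ} [Finite G] [Fact p.Prime] {D : Subgroup G} (h : IsPGroup p ↥(resOf p D)) :
    resOf p D = ⊥ := by
  rw [eq_bot_iff, resOf_eq_closure, closure_le]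
  rintro x ⟨hx, hxo⟩
  obtain ⟨k, hk⟩ := h ⟨x, mem_resOf_of_coprime hx hxo⟩
  have h1 : x ^ p ^ k = 1 := by simpa using congrArg Subtype.val hk
  have h2 : orderOf x = 1 :=
    Nat.dvd_one.1 ((hxo.pow_right k) ▸ Nat.dvd_gcd dvd_rfl (orderOf_dvd_of_pow_eq_one h1))
  rw [orderOf_eq_one_iff] at h2
  rw [h2]; exact one_mem _

/-- a subgroup of `H` centralizing all chief factors of `H` inside `O_p(H)` lies in `O_p(H)` (`H` of characteristic
`p`). -/
theorem le_pCoreOf_of_chief {p : ℕ} [Finite G] [Fact p.Prime] {H D : Subgroup G} (hH : ChP p H) (hD : D ≤ H)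
    (h : ∀ V W : Subgroup G, Chief p H V W → ⁅V, D⁆ ≤ W) : D ≤ pCoreOf p H := by
  set D' := ncl H D with hD'
  have hD'H : D' ≤ H := H229.ncl_le_self hD
  have h1 : ∀ V W : Subgroup G, Chief p H V W → ⁅V, D'⁆ ≤ W := by
    intro V W hVW
    apply commutator_iSup_le
    · rintro ⟨x, hx⟩
      show cj x D ≤ _
      exact ((cj_mono hD).trans (cj_le_of_norm (le_normalizer hx))).trans hVW.nW
    · rintro ⟨x, hx⟩
      show ⁅V, cj x D⁆ ≤ _
      rw [← mem_norm.1 (hVW.nV hx), ← cj_comm]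
      exact (cj_mono (h V W hVW)).trans (cj_le_of_norm (hVW.nW hx))
  have key : ∀ n : ℕ, ∀ N : Subgroup G, Nat.card N = n → H ≤ normalizer (N : Set G) → N ≤ pCoreOf p H →
      resOf p D' ≤ centralizer (N : Set G) := by
    intro n
    induction n using Nat.strong_induction_on with
    | _ n ih =>
      intro N hn hNn hNK
      by_cases hN : N = ⊥
      · rw [hN]
        intro x _
        rw [mem_centralizer_iff]
        rintro y hy
        rw [SetLike.mem_coe, mem_bot] at hy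
        rw [hy]; simp
      · let 𝒮 : Set (Subgroup G) := {Z | H ≤ normalizer (Z : Set G) ∧ Z < N}
        have hne : 𝒮.Nonempty := ⟨⊥, by
          refine ⟨fun x _ => ?_, bot_lt_iff_ne_bot.2 hN⟩
          rw [mem_norm]; exact H229.cj_bot x⟩
        obtain ⟨N₂, hN₂⟩ := (Set.toFinite 𝒮).exists_maximal hne
        obtain ⟨⟨hN1, hN2⟩, hmax⟩ := hN₂
        have hch : Chief p H N N₂ := by
          refine ⟨hNK, hNn, hN1, hN2, fun Z hZ h2 h3 => ?_⟩
          by_cases hZN : Z = N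
          · exact Or.inr hZN
          · exact Or.inl (le_antisymm (hmax ⟨hZ, lt_of_le_of_ne h3 hZN⟩ h2) h2)
        have h3 := h1 _ _ hch
        have hlt : Nat.card N₂ < n := by
          rw [← hn]
          exact Set.ncard_lt_ncard (s := (N₂ : Set G)) (t := (N : Set G)) hN2 (Set.toFinite _)
        have h4 := ih _ hlt N₂ rfl hN1 (hN2.le.trans hNK)
        exact resOf_cen_of_chain ((isPGroup_pCoreOf p H).to_le hNK) h3 hN2.le h4
  have h2 := key _ (pCoreOf p H) rfl (le_norm_pCoreOf p H) le_rfl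
  have h3 : resOf p D' ≤ pCoreOf p H := (le_inf ((resOf_le p _).trans hD'H) h2).trans hH
  have h4 : IsPGroup p ↥D' :=
    isPGroup_of_resOf_eq_bot (resOf_eq_bot ((isPGroup_pCoreOf p H).to_le h3))
  exact (le_ncl H D).trans (le_pCoreOf hD'H (le_norm_ncl H D) h4)

/-! ### passage to the quotient -/

section im

variable [Finite G] {E : Subgroup G} {N : Subgroup E} [N.Normal]

theorem im_sup {A B : Subgroup G} (hA : A ≤ E) (hB : B ≤ E) : im N (A ⊔ B) = im N A ⊔ im N B := by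
  unfold im
  rw [subgroupOf_sup hA hB, Subgroup.map_sup]

theorem im_self : im N E = ⊤ := by
  unfold im
  rw [subgroupOf_self, ← MonoidHom.range_eq_map, MonoidHom.range_eq_top]
  exact QuotientGroup.mk'_surjective N

theorem im_bot : im N (⊥ : Subgroup G) = ⊥ := by
  unfold im
  rw [bot_subgroupOf, Subgroup.map_bot]

theorem im_cj {g : G} (hg : g ∈ E) (B : Subgroup G) :
    im N (cj g B) = cj (QuotientGroup.mk' N ⟨g, hg⟩) (im N B) := by
  have h1 : (cj g B).subgroupOf E = cj (⟨g, hg⟩ : ↥E) (B.subgroupOf E) := by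
    ext x
    rw [mem_subgroupOf, mem_cj, mem_cj, mem_subgroupOf]
    rfl
  unfold im
  rw [h1]
  ext x
  rw [mem_cj]
  constructor
  · rintro ⟨y, hy, rfl⟩
    refine ⟨_, mem_cj.1 hy, ?_⟩
    simp only [map_mul, map_inv]
  · rintro ⟨y, hy, h2⟩
    refine ⟨⟨g, hg⟩ * y * ⟨g, hg⟩⁻¹, H229.conj_mem_cj hy, ?_⟩
    rw [map_mul, map_mul, map_inv, h2]
    group

theorem im_cen {A B : Subgroup G} (hA : A ≤ E) (hB : B ≤ E) (h : A ≤ centralizer (B : Set G)) :
    im N A ≤ centralizer (im N B : Set (E ⧸ N)) := by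
  rw [← commutator_eq_bot_iff_le_centralizer] at h ⊢
  rw [← im_commutator hA hB, h, im_bot]

theorem im_norm {A B : Subgroup G} (hA : A ≤ E) (hB : B ≤ E) (h : A ≤ normalizer (B : Set G)) :
    im N A ≤ normalizer (im N B : Set (E ⧸ N)) := by
  rw [le_norm_iff_comm_le] at h ⊢
  rw [← im_commutator hA hB]
  exact im_mono h

/-- preimage -/
def pre (Z : Subgroup (E ⧸ N)) : Subgroup G := (Z.comap (QuotientGroup.mk' N)).map E.subtype

theorem pre_le (Z : Subgroup (E ⧸ N)) : pre Z ≤ E := Subgroup.map_subtype_le _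

theorem im_pre (Z : Subgroup (E ⧸ N)) : im N (pre Z) = Z := by
  unfold im pre
  have e : ((Z.comap (QuotientGroup.mk' N)).map E.subtype).subgroupOf E = Z.comap (QuotientGroup.mk' N) :=
    Subgroup.comap_map_eq_self_of_injective E.subtype_injective _
  rw [e, Subgroup.map_comap_eq_self_of_surjective (QuotientGroup.mk'_surjective N)]

theorem le_pre_iff {B : Subgroup G} (hB : B ≤ E) {Z : Subgroup (E ⧸ N)} : B ≤ pre Z ↔ im N B ≤ Z := by
  constructor
  · intro h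
    rw [← im_pre Z]; exact im_mono h
  · intro h x hx
    exact ⟨⟨x, hB hx⟩, h ⟨⟨x, hB hx⟩, hx, rfl⟩, rfl⟩

theorem pre_norm {Z : Subgroup (E ⧸ N)} {A : Subgroup G} (hA : A ≤ E)
    (h : im N A ≤ normalizer (Z : Set (E ⧸ N))) : A ≤ normalizer (pre Z : Set G) := by
  rw [le_norm_iff_comm_le] at h ⊢
  rw [le_pre_iff (commutator_le_of_le hA (pre_le Z)), im_commutator hA (pre_le Z), im_pre]
  exact h

theorem im_ncl_le {P Y : Subgroup G} (hP : P ≤ E) (hY : Y ≤ P) : im N (ncl P Y) ≤ ncl (im N P) (im N Y) := by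
  rw [← le_pre_iff ((H229.ncl_le_self hY).trans hP)]
  apply ncl_le
  · exact pre_norm hP (le_norm_ncl _ _)
  · rw [le_pre_iff (hY.trans hP)]
    exact le_ncl _ _

end im

/-- data in `G` -/
structure GData (p : ℕ) (H A Y L : Subgroup G) (g : G) : Prop where
  pA : IsPGroup p ↥A
  AH : A ≤ H
  YA : Y ≤ A
  AY : A ≤ centralizer (Y : Set G)
  KY : ⁅pCoreOf p H, Y⁆ ≤ Y
  gH : g ∈ H
  L_eq : Y ⊔ cj g Y = L
  gen1 : cj g Y ⊔ A = H
  gen2 : Y ⊔ cj g A = H

theorem eq_bot_of_comm_self {p : ℕ} [Finite G] [Fact p.Prime] {V : Subgroup G} (hV : IsPGroup p ↥V)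
    (h : ⁅V, V⁆ = V) : V = ⊥ := by
  by_contra hne
  have hnil : Group.IsNilpotent ↥V := hV.isNilpotent
  have hnt : Nontrivial ↥V := (Subgroup.nontrivial_iff_ne_bot V).2 hne
  have h1 : commutator ↥V < ⊤ := Group.IsSolvable.commutator_lt_top_of_nontrivial ↥V
  apply h1.ne
  apply Subgroup.map_injective V.subtype_injective
  rw [_root_.commutator_def, Subgroup.map_commutator, ← MonoidHom.range_eq_map, range_subtype, h]

namespace GData

variable {p : ℕ} [Finite G] [Fact p.Prime] {H A Y L : Subgroup G} {g : G} (h : GData p H A Y L g)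

include h

theorem YH : Y ≤ H := h.YA.trans h.AH

theorem cjH : cj g H = H := mem_norm.1 (le_normalizer h.gH)

theorem cjYH : cj g Y ≤ H := by rw [← h.cjH]; exact cj_mono h.YH

theorem LH : L ≤ H := by rw [← h.L_eq]; exact sup_le h.YH h.cjYH

theorem imYL {N : Subgroup H} [N.Normal] :
    im N Y ⊔ cj (QuotientGroup.mk' N ⟨g, h.gH⟩) (im N Y) = im N L := by
  rw [← im_cj, ← im_sup h.YH h.cjYH, h.L_eq]

theorem mdata {V W : Subgroup G} (hV : Chief p H V W) (hnc : ¬ ⁅V, H⁆ ≤ W)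
    [hN : (W.subgroupOf H).Normal] :
    MData (im (W.subgroupOf H) V) (im (W.subgroupOf H) Y) (im (W.subgroupOf H) A)
      (QuotientGroup.mk' (W.subgroupOf H) ⟨g, h.gH⟩) := by
  have hVH : V ≤ H := hV.le.trans (pCoreOf_le p H)
  have hWH : W ≤ H := hV.lt.le.trans hVH
  have hmapW : (W.subgroupOf H).map H.subtype = W := Subgroup.map_subgroupOf_eq_of_le hWH
  have hnorm : (im (W.subgroupOf H) V).Normal := im_normal hVH hV.nV
  have hmin : ∀ Z : Subgroup (H ⧸ W.subgroupOf H), Z.Normal → Z ≤ im (W.subgroupOf H) V →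
      Z = ⊥ ∨ Z = im (W.subgroupOf H) V := by
    intro Z hZ hZV
    have h1 : H ≤ normalizer (pre Z : Set G) :=
      pre_norm le_rfl (le_top.trans (top_le_of_normal hZ))
    have h2 : W ≤ pre Z := by
      rw [le_pre_iff hWH, (im_eq_bot_iff hWH).2 hmapW.ge]; exact bot_le
    have h3 : pre Z ≤ V := by
      rw [← im_pre Z, im_le_iff (pre_le Z) hVH, hmapW, sup_eq_left.2 hV.lt.le] at hZV
      exact hZV
    rcases hV.min _ h1 h2 h3 with h4 | h4
    · left
      rw [← im_pre Z, h4, im_eq_bot_iff hWH, hmapW]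
    · right
      rw [← im_pre Z, h4]
  have hp : IsPGroup p ↥(im (W.subgroupOf H) V) := im_isPGroup ((isPGroup_pCoreOf p H).to_le hV.le)
  refine ⟨hnorm, ?_, hmin, ?_, im_mono h.YA, im_cen h.AH h.YH h.AY, ?_, ?_, ?_⟩
  · rcases hmin ⁅im (W.subgroupOf H) V, im (W.subgroupOf H) V⁆ inferInstance (commutator_le_left _ _) with h1 | h1
    · exact commutator_eq_bot_iff_le_centralizer.1 h1
    · rw [eq_bot_of_comm_self hp h1]; exact bot_le
  · intro h1
    apply hnc
    rw [← hmapW, ← im_eq_bot_iff (commutator_le_of_le hVH le_rfl), im_commutator hVH le_rfl,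
      commutator_eq_bot_iff_le_centralizer]
    exact h1.trans (center_le_centralizer _)
  · rw [← im_commutator hVH h.YH]
    apply im_cen h.AH (commutator_le_of_le hVH h.YH)
    refine h.AY.trans (cen_anti ?_)
    exact (commutator_mono hV.le le_rfl).trans h.KY
  · rw [← im_cj, ← im_sup h.cjYH h.AH, h.gen1, im_self]
  · rw [← im_cj, ← im_sup h.YH, h.gen2, im_self]
    rw [← h.cjH]; exact cj_mono h.AH

theorem normalW {V W : Subgroup G} (hV : Chief p H V W) : (W.subgroupOf H).Normal :=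
  (normal_subgroupOf_iff_le_normalizer (hV.lt.le.trans (hV.le.trans (pCoreOf_le p H)))).2 hV.nW

theorem comm_le_iff {V W B : Subgroup G} (hV : Chief p H V W) (hB : B ≤ H) [hN : (W.subgroupOf H).Normal] :
    ⁅im (W.subgroupOf H) V, im (W.subgroupOf H) B⁆ = ⊥ ↔ ⁅V, B⁆ ≤ W := by
  have hVH : V ≤ H := hV.le.trans (pCoreOf_le p H)
  have hWH : W ≤ H := hV.lt.le.trans hVH
  rw [← im_commutator hVH hB, im_eq_bot_iff (commutator_le_of_le hVH hB), Subgroup.map_subgroupOf_eq_of_le hWH]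

theorem pV {V W : Subgroup G} (hV : Chief p H V W) [hN : (W.subgroupOf H).Normal] :
    IsPGroup p ↥(im (W.subgroupOf H) V) := im_isPGroup ((isPGroup_pCoreOf p H).to_le hV.le)

/-- `⟨L₀, A⟩ < H`. -/
theorem sup_lt {V W : Subgroup G} (hV : Chief p H V W) (hnc : ¬ ⁅V, H⁆ ≤ W) {L₀ R : Subgroup G}
    (hR : IsPGroup p ↥R) (hYR : Y ≤ R) (hL : L₀ ≤ L) (hLR : L₀ ≤ normalizer (R : Set G)) (hRL : R ≤ L) :
    L₀ ⊔ A < H := by
  have hN := h.normalW hV
  refine lt_of_le_of_ne (sup_le (hL.trans h.LH) h.AH) fun h1 => ?_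
  have h2 := h.mdata hV hnc
  refine h2.sup_ne_top (h.pV hV) (im_isPGroup h.pA) (R := im _ R) (L₀ := im _ L₀) (im_isPGroup hR) (im_mono hYR)
    ?_ ?_ ?_ ?_
  · rw [h.imYL]; exact im_mono hL
  · exact im_norm (hL.trans h.LH) (hRL.trans h.LH) hLR
  · rw [h.imYL]; exact im_mono hRL
  · rw [← im_sup (hL.trans h.LH) h.AH, h1, im_self]

/-- (c) -/
theorem not_comm_le {V W : Subgroup G} (hV : Chief p H V W) (hnc : ¬ ⁅V, H⁆ ≤ W) {R : Subgroup G}
    (hRH : R ≤ H) (hR : L ≤ R ⊔ Y) : ¬ ⁅V, R⁆ ≤ W := by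
  have hN := h.normalW hV
  rw [← h.comm_le_iff hV hRH]
  have h2 := h.mdata hV hnc
  refine h2.not_cen (h.pV hV) (im_isPGroup h.pA) ?_
  rw [h.imYL, ← im_sup hRH h.YH]
  exact im_mono hR

/-- (d) -/
theorem comm_le_of {V W : Subgroup G} (hV : Chief p H V W) (hnc : ¬ ⁅V, H⁆ ≤ W) {D : Subgroup G}
    (hD : D ≤ Y) (hDn : D ≤ normalizer (cj g Y : Set G)) : ⁅V, D⁆ ≤ W := by
  have hN := h.normalW hV
  rw [← h.comm_le_iff hV (hD.trans h.YH)]
  refine (h.mdata hV hnc).cen_of (im_mono hD) ?_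
  rw [← im_cj]
  exact im_norm (hD.trans h.YH) h.cjYH hDn

/-- `[V, [⟨Y^P⟩, A]] ≤ W`, `P = ⟨L₀, A⟩`. -/
theorem comm_comm_le {V W : Subgroup G} (hV : Chief p H V W) (hnc : ¬ ⁅V, H⁆ ≤ W) {L₀ : Subgroup G}
    (hL : L₀ ≤ L) (hWA : ncl (L₀ ⊔ A) Y ≤ A) : ⁅V, ⁅ncl (L₀ ⊔ A) Y, A⁆⁆ ≤ W := by
  have hN := h.normalW hV
  have hWH := hWA.trans h.AH
  have hPH : L₀ ⊔ A ≤ H := sup_le (hL.trans h.LH) h.AH
  rw [← h.comm_le_iff hV (commutator_le_of_le hWH h.AH), im_commutator hWH h.AH]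
  refine (h.mdata hV hnc).comm_comm_eq_bot (L₀ := im _ L₀) ?_ (im_mono (le_ncl _ _)) (im_mono hWA) ?_ ?_
  · rw [h.imYL]; exact im_mono hL
  · exact im_norm (hL.trans h.LH) hWH (le_sup_left.trans (le_norm_ncl _ _))
  · refine (im_ncl_le hPH (h.YA.trans le_sup_right)).trans ?_
    rw [im_sup (hL.trans h.LH) h.AH]

end GData

end Cfsg.Agent.H231.AL
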