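import Cfsg.Agent.H231.ALChief
import Cfsg.Agent.H990.PIrr
import Cfsg.Agent.H568.Sn

/-!
# The asymmetric L-lemma
-/

set_option autoImplicit false
set_option linter.unusedSectionVars false

namespace Cfsg.Agent.H231.AL

open Cfsg Subgroup
open scoped commutatorElement
open Cfsg.Agent.H230 (resOf resOf_le mem_resOf_of_coprime resOf_eq_closure resOf_mono IsSylowOf exists_isSylowOf_ge
  le_normalizer_resOf)
open Cfsg.Agent.H229 (cj mem_cj cj_mono cj_le_of_norm mem_norm cj_comm cj_centralizer cj_inf cj_sup cj_inv_cj cj_cj_inv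
  le_norm_iff_comm_le le_norm_iff mem_sup_of_norm cj_le_iff le_cj_iff cj_eq_bot le_centralizer_comm centralizer_le_norm
  norm_le_norm_centralizer ncl cj_le_ncl le_ncl ncl_le_iff le_norm_ncl ncl_le card_cj cj_eq_of_le ChP
  isPGroup_pCoreOf pCoreOf_le le_norm_pCoreOf le_pCoreOf cj_normalizer cj_mul pCoreOf_inf_le cj_mem_self
  pCoreOf_le_pCoreOf ncl_le_self)

theorem exists_min {X : Type*} [Group X] [Finite X] {p : ℕ} [Fact p.Prime] {Y : Subgroup X} (hYp : IsPGroup p ↥Y)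
    (hY : ¬ Y ≤ pCore p X) (hmin : ∀ K : Subgroup X, K ≠ ⊤ → Y ≤ K → Y ≤ pCoreOf p K) : IsMinimalOver Y := by
  obtain ⟨M, hM, hYM, hu⟩ := Solvable.Zipper.zipper Y (fun K hK hYK => by
    have h1 := hmin K hK.ne hYK
    refine H568.Sn.subnormal_of_le_normal (p := p) (N := pCore p ↥K) (Lib.Cores.pCore_normal p)
      (Lib.Cores.pCore_isPGroup p) ?_
    intro x hx
    obtain ⟨y, hy, hyx⟩ := h1 (mem_subgroupOf.1 hx)
    rwa [← Subtype.ext hyx]) (fun hs => hY (PLocal.SubnormalCore.le_pCore_of_isSubnormal hs hYp))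
  refine ⟨?_, M, ⟨hM, hYM⟩, fun K hK => hu K hK.1 hK.2⟩
  by_contra hne
  apply hY
  have h1 := hmin _ hne subset_normalClosure
  have h2 : pCoreOf p (normalClosure (Y : Set X)) ≤ pCoreOf p (⊤ : Subgroup X) :=
    pCoreOf_le_pCoreOf le_top (top_le_of_normal normalClosure_normal)
  have h3 : pCoreOf p (⊤ : Subgroup X) ≤ pCore p X :=
    Lib.Cores.le_pCore (normal_of_top_le (le_norm_pCoreOf p ⊤)) (isPGroup_pCoreOf p ⊤)
  exact h1.trans (h2.trans h3)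

variable {G : Type*} [Group G]

theorem comm_norm_of {K P B : Subgroup G} (h1 : ⁅K, B⁆ ≤ P) (h2 : P ≤ K) : B ≤ normalizer (P : Set G) := by
  rw [le_norm_iff_comm_le, commutator_comm]
  exact (commutator_mono h2 le_rfl).trans h1

/-- Frattini argument for a weakly closed `p`-subgroup. -/
theorem frattini_wc {p : ℕ} [Finite G] [Fact p.Prime] {A P : Subgroup G} (hA : IsPGroup p ↥A) (hAP : A ≤ P)
    (wc : ∀ R : Subgroup G, IsPGroup p ↥R → A ≤ R → ∀ g : G, cj g A ≤ R → cj g A = A) {x : G} (hx : x ∈ P) :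
    ∃ y ∈ ncl P A, ∃ n ∈ normalizer (A : Set G), x = y * n := by
  obtain ⟨T, hT, hAT⟩ := exists_isSylowOf_ge (p := p) (le_ncl P A) hA
  have h1 : IsSylowOf p (cj x T) (cj x (ncl P A)) := hT.map_equiv (MulAut.conj x)
  rw [mem_norm.1 (le_norm_ncl P A hx)] at h1
  obtain ⟨c, hc, hcT⟩ := h1.exists_conj hT
  have h2 : cj (c * x) A ≤ T := by
    rw [cj_mul, ← hcT]
    exact cj_mono (cj_mono hAT)
  have h3 := wc T hT.isPGroup hAT _ h2
  exact ⟨c⁻¹, inv_mem hc, c * x, mem_norm.2 h3, by group⟩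

theorem ncl_ncl_wc {p : ℕ} [Finite G] [Fact p.Prime] {A P : Subgroup G} (hA : IsPGroup p ↥A) (hAP : A ≤ P)
    (wc : ∀ R : Subgroup G, IsPGroup p ↥R → A ≤ R → ∀ g : G, cj g A ≤ R → cj g A = A) :
    ncl (ncl P A) A = ncl P A := by
  apply le_antisymm (ncl_le_self (le_ncl P A))
  rw [ncl_le_iff]
  intro x hx
  obtain ⟨y, hy, n, hn, rfl⟩ := frattini_wc hA hAP wc hx
  rw [cj_mul, mem_norm.1 hn]
  exact cj_le_ncl hy

/-- the hypotheses of the asymmetric L-lemma -/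
structure Hyp (p : ℕ) (A Y H L : Subgroup G) : Prop where
  pA : IsPGroup p ↥A
  YA : Y ≤ A
  AY : A ≤ centralizer (Y : Set G)
  nrm : ∀ R : Subgroup G, IsPGroup p ↥R → A ≤ R → R ≤ normalizer (Y : Set G)
  inf : ∀ R : Subgroup G, IsPGroup p ↥R → A ≤ R → R ⊓ centralizer (Y : Set G) ≤ A
  nA : normalizer (A : Set G) ≤ normalizer (Y : Set G)
  wc : ∀ R : Subgroup G, IsPGroup p ↥R → A ≤ R → ∀ g : G, cj g A ≤ R → cj g A = A
  asym : ¬ IsSymmetricIn Y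
  chp : ChP p H
  AH : A ≤ H
  YO : ¬ Y ≤ pCoreOf p H
  minH : ∀ P : Subgroup G, A ≤ P → P < H → Y ≤ pCoreOf p P
  LH : L ≤ H
  YL : Y ≤ L
  YLO : ¬ Y ≤ pCoreOf p L
  minL : ∀ L' : Subgroup G, L' ≤ L → Y ≤ L' → ¬ Y ≤ pCoreOf p L' → L' = L

namespace Hyp

variable {p : ℕ} [Finite G] [Fact p.Prime] {A Y H L : Subgroup G} (h : Hyp p A Y H L)

include h

theorem YY : Y ≤ centralizer (Y : Set G) := h.YA.trans h.AY

theorem pY : IsPGroup p ↥Y := h.pA.to_le h.YA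

theorem core_norm {P : Subgroup G} (hAP : A ≤ P) : pCoreOf p P ≤ normalizer (Y : Set G) :=
  le_sup_left.trans (h.nrm (pCoreOf p P ⊔ A)
    (H229.isPGroup_sup_of_norm (isPGroup_pCoreOf p P) h.pA (hAP.trans (le_norm_pCoreOf p P))) le_sup_right)

theorem core_inf {P : Subgroup G} (hAP : A ≤ P) : pCoreOf p P ⊓ centralizer (Y : Set G) ≤ A :=
  (inf_le_inf_right _ le_sup_left).trans (h.inf (pCoreOf p P ⊔ A)
    (H229.isPGroup_sup_of_norm (isPGroup_pCoreOf p P) h.pA (hAP.trans (le_norm_pCoreOf p P))) le_sup_right)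

theorem LA : L ⊔ A = H := by
  by_contra hne
  have hlt : L ⊔ A < H := lt_of_le_of_ne (sup_le h.LH h.AH) hne
  exact h.YLO ((le_inf (h.minH _ le_sup_right hlt) h.YL).trans (pCoreOf_inf_le le_sup_left))

theorem minOver : IsMinimalOver (Y.subgroupOf L) := by
  apply exists_min (p := p) (h.pY.comap_of_injective L.subtype L.subtype_injective)
  · intro h1
    apply h.YLO
    have h2 := Subgroup.map_mono (f := L.subtype) h1
    rwa [show Y.comap L.subtype = Y.subgroupOf L from rfl, Subgroup.subgroupOf_map_subtype, inf_eq_left.2 h.YL] at h2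
  · intro K hK hYK
    have h1 : K.map L.subtype ≤ L := Subgroup.map_subtype_le _
    have h2 : Y ≤ K.map L.subtype := by
      have h3 := Subgroup.map_mono (f := L.subtype) hYK
      rwa [show Y.comap L.subtype = Y.subgroupOf L from rfl, Subgroup.subgroupOf_map_subtype,
        inf_eq_left.2 h.YL] at h3
    have h4 : Y ≤ pCoreOf p (K.map L.subtype) := by
      by_contra h5
      apply hK
      have h6 := h.minL _ h1 h2 h5
      apply Subgroup.map_injective L.subtype_injective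
      rw [h6, ← MonoidHom.range_eq_map, range_subtype]
    have h7 : (pCoreOf p (K.map L.subtype)).subgroupOf L ≤ pCoreOf p K := by
      apply le_pCoreOf
      · intro x hx
        obtain ⟨y, hy, hyx⟩ := pCoreOf_le _ _ (mem_subgroupOf.1 hx)
        rwa [← Subtype.ext hyx]
      · rw [le_norm_iff]
        intro k hk x hx
        rw [mem_subgroupOf] at hx ⊢
        exact (le_norm_iff.1 (le_norm_pCoreOf p (K.map L.subtype))) k ⟨k, hk, rfl⟩ x hx
      · exact (isPGroup_pCoreOf p _).comap_of_injective L.subtype L.subtype_injective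
    exact le_trans (fun x hx => h4 hx) h7

theorem ncl_LY : ncl L Y = L := by
  rw [← H229.normalClosure_map h.YL, h.minOver.1, ← MonoidHom.range_eq_map, range_subtype]

/-- existence of `L₀` -/
theorem exists_L₀ : ∃ L₀ : Subgroup G, L₀ < L ∧ Y ≤ L₀ ∧ ∀ X : Subgroup G, Y ≤ X → X < L → X ≤ L₀ := by
  obtain ⟨-, M, hM, hYM, hmax⟩ := H990.PIrr.isMinimalOver_iff.1 h.minOver
  refine ⟨M.map L.subtype, lt_of_le_of_ne (Subgroup.map_subtype_le _) ?_, ?_, ?_⟩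
  · intro h1
    apply hM
    apply Subgroup.map_injective L.subtype_injective
    rw [h1, ← MonoidHom.range_eq_map, range_subtype]
  · intro y hy
    exact ⟨⟨y, h.YL hy⟩, hYM hy, rfl⟩
  · intro X hYX hXL
    have h1 : X.subgroupOf L ≤ M := by
      apply hmax _ (Subgroup.comap_mono hYX)
      intro h2
      exact hXL.not_ge (subgroupOf_eq_top.1 h2)
    intro x hx
    exact ⟨⟨x, hXL.le hx⟩, h1 hx, rfl⟩

end Hyp

/-- hypotheses with a maximal `L₀` -/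
structure Hyp0 (p : ℕ) (A Y H L L₀ : Subgroup G) : Prop extends Hyp p A Y H L where
  lt : L₀ < L
  YL₀ : Y ≤ L₀
  max : ∀ X : Subgroup G, Y ≤ X → X < L → X ≤ L₀

namespace Hyp0

variable {p : ℕ} [Finite G] [Fact p.Prime] {A Y H L L₀ : Subgroup G} (h : Hyp0 p A Y H L L₀)

include h

theorem norm_L₀ : L ⊓ normalizer (L₀ : Set G) ≤ L₀ := by
  apply h.max _ (h.YL₀.trans (le_inf h.lt.le le_normalizer))
  refine lt_of_le_of_ne inf_le_left fun h1 => ?_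
  have h2 : L ≤ normalizer (L₀ : Set G) := inf_eq_left.1 h1
  have h3 := ncl_le h2 h.YL₀
  rw [h.ncl_LY] at h3
  exact h.lt.not_ge h3

theorem sup_cj {g : G} (hg : g ∈ L) (hg0 : g ∉ L₀) : Y ⊔ cj g Y = L := by
  by_contra hne
  have hle : Y ⊔ cj g Y ≤ L := sup_le h.YL ((cj_mono h.YL).trans (cj_mem_self hg).le)
  have h1 := h.max _ le_sup_left (lt_of_le_of_ne hle hne)
  have h2 : Y ≤ cj g⁻¹ L₀ := by rw [← cj_le_iff]; exact le_sup_right.trans h1
  have h3 : cj g⁻¹ L₀ < L := by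
    refine lt_of_le_of_ne ?_ ?_
    · refine (cj_mono h.lt.le).trans (cj_mem_self (inv_mem hg)).le
    · intro h4
      have h5 := card_cj g⁻¹ L₀
      rw [h4] at h5
      exact h.lt.ne (Subgroup.eq_of_le_of_card_ge h.lt.le h5.le)
  have h4 : g⁻¹ ∈ normalizer (L₀ : Set G) := mem_norm.2 (cj_eq_of_le (h.max _ h2 h3))
  exact hg0 (inv_mem_iff.1 (h.norm_L₀ (mem_inf.2 ⟨inv_mem hg, h4⟩)))

theorem gen1 {g : G} (hg : g ∈ L) (hg0 : g ∉ L₀) : cj g Y ⊔ A = H := by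
  have hle : cj g Y ≤ L := (cj_mono h.YL).trans (cj_mem_self hg).le
  apply le_antisymm (sup_le (hle.trans h.LH) h.AH)
  rw [← h.LA, ← h.sup_cj hg hg0]
  exact sup_le (sup_le (h.YA.trans le_sup_right) le_sup_left) le_sup_right

theorem gen2 {g : G} (hg : g ∈ L) (hg0 : g ∉ L₀) : Y ⊔ cj g A = H := by
  have h1 := h.gen1 (inv_mem hg) (fun h2 => hg0 (by simpa using h2))
  have h2 := congrArg (cj g) h1
  rwa [cj_sup, cj_cj_inv, cj_mem_self (h.LH hg)] at h2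

theorem gdata {g : G} (hg : g ∈ L) (hg0 : g ∉ L₀) : GData p H A Y L g where
  pA := h.pA
  AH := h.AH
  YA := h.YA
  AY := h.AY
  KY := le_norm_iff_comm_le.1 (h.core_norm h.AH)
  gH := h.LH hg
  L_eq := h.sup_cj hg hg0
  gen1 := h.gen1 hg hg0
  gen2 := h.gen2 hg hg0

theorem exists_g : ∃ g ∈ L, g ∉ L₀ := SetLike.exists_of_lt h.lt

theorem exists_noncentral : ∃ V W : Subgroup G, Chief p H V W ∧ ¬ ⁅V, H⁆ ≤ W := by
  by_contra hn
  apply h.YO
  refine h.YL.trans (h.LH.trans (le_pCoreOf_of_chief h.chp le_rfl fun V W hVW => ?_))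
  by_contra h1
  exact hn ⟨V, W, hVW, h1⟩

/-- `⟨L₀, A⟩ < H`. -/
theorem P_lt : L₀ ⊔ A < H := by
  obtain ⟨g, hg, hg0⟩ := h.exists_g
  obtain ⟨V, W, hVW, hnc⟩ := h.exists_noncentral
  refine (h.gdata hg hg0).sup_lt hVW hnc (R := pCoreOf p L₀) (isPGroup_pCoreOf p L₀) ?_ h.lt.le
    (le_norm_pCoreOf p L₀) ((pCoreOf_le p L₀).trans h.lt.le)
  by_contra h1
  exact h.lt.ne (h.minL L₀ h.lt.le h.YL₀ h1)

theorem Y_le_P : Y ≤ pCoreOf p (L₀ ⊔ A) := h.minH _ le_sup_right h.P_lt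

theorem YleP : Y ≤ L₀ ⊔ A := h.YL₀.trans le_sup_left

theorem W_le_core : ncl (L₀ ⊔ A) Y ≤ pCoreOf p (L₀ ⊔ A) := ncl_le (le_norm_pCoreOf _ _) h.Y_le_P

theorem W_cen : ncl (L₀ ⊔ A) Y ≤ centralizer (Y : Set G) := by
  rw [ncl_le_iff]
  intro x hx
  have h1 : pCoreOf p (L₀ ⊔ A) ≤ normalizer (Y : Set G) := h.core_norm le_sup_right
  apply H229.comm_of_asym h.asym
  · exact ((cj_mono h.Y_le_P).trans (cj_le_of_norm (le_norm_pCoreOf _ _ hx))).trans h1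
  · rw [← cj_normalizer]
    refine le_trans ?_ (cj_mono h1)
    rw [mem_norm.1 (le_norm_pCoreOf p _ hx)]
    exact h.Y_le_P

theorem W_ab : ncl (L₀ ⊔ A) Y ≤ centralizer ((ncl (L₀ ⊔ A) Y : Subgroup G) : Set G) :=
  ncl_le ((le_norm_ncl _ _).trans (norm_le_norm_centralizer _)) (le_centralizer_comm h.W_cen)

theorem W_le_A : ncl (L₀ ⊔ A) Y ≤ A := (le_inf h.W_le_core h.W_cen).trans (h.core_inf le_sup_right)

theorem comm_WA : ⁅ncl (L₀ ⊔ A) Y, A⁆ ≤ pCoreOf p H := by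
  obtain ⟨g, hg, hg0⟩ := h.exists_g
  have hD : ⁅ncl (L₀ ⊔ A) Y, A⁆ ≤ H := commutator_le_of_le (h.W_le_A.trans h.AH) h.AH
  apply le_pCoreOf_of_chief h.chp hD
  intro V W hVW
  by_cases hc : ⁅V, H⁆ ≤ W
  · exact (commutator_mono le_rfl hD).trans hc
  · exact (h.gdata hg hg0).comm_comm_le hVW hc h.lt.le h.W_le_A

theorem K_norm_Y : pCoreOf p H ≤ normalizer (Y : Set G) := h.core_norm h.AH

theorem E_le_Y : ⁅pCoreOf p H, Y⁆ ≤ Y := le_norm_iff_comm_le.1 h.K_norm_Y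

theorem K_norm : H ≤ normalizer (pCoreOf p H : Set G) := le_norm_pCoreOf p H

theorem YH : Y ≤ H := h.YA.trans h.AH

theorem comm_K_le {B : Subgroup G} (hB : B ≤ H) : ⁅pCoreOf p H, B⁆ ≤ pCoreOf p H := by
  rw [commutator_comm]; exact le_norm_iff_comm_le.1 (hB.trans h.K_norm)

theorem cj_E {x : G} (hx : x ∈ H) : cj x ⁅pCoreOf p H, Y⁆ = ⁅pCoreOf p H, cj x Y⁆ := by
  rw [cj_comm, mem_norm.1 (h.K_norm hx)]

theorem cj_YL {g : G} (hg : g ∈ L) : cj g Y ≤ L := (cj_mono h.YL).trans (cj_mem_self hg).le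

theorem comm_KL {g : G} (hg : g ∈ L) (hg0 : g ∉ L₀) :
    ⁅pCoreOf p H, L⁆ ≤ ⁅pCoreOf p H, Y⁆ ⊔ cj g ⁅pCoreOf p H, Y⁆ := by
  have hle : ⁅pCoreOf p H, Y⁆ ⊔ cj g ⁅pCoreOf p H, Y⁆ ≤ pCoreOf p H := by
    refine sup_le (h.comm_K_le h.YH) ?_
    rw [h.cj_E (h.LH hg)]
    exact h.comm_K_le ((h.cj_YL hg).trans h.LH)
  have h1 : ⁅pCoreOf p H, Y⁆ ≤ ⁅pCoreOf p H, Y⁆ ⊔ cj g ⁅pCoreOf p H, Y⁆ := le_sup_left
  have h2 : ⁅pCoreOf p H, cj g Y⁆ ≤ ⁅pCoreOf p H, Y⁆ ⊔ cj g ⁅pCoreOf p H, Y⁆ := by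
    rw [← h.cj_E (h.LH hg)]; exact le_sup_right
  nth_rewrite 1 [← h.sup_cj hg hg0]
  exact commutator_sup_le (comm_norm_of h1 hle) (comm_norm_of h2 hle) h1 h2

theorem cjE_cen {g : G} (hg : g ∈ L) (hg0 : g ∉ L₀) :
    cj g ⁅pCoreOf p H, Y⁆ ⊓ centralizer (Y : Set G) ≤ ⁅pCoreOf p H, Y⁆ := by
  intro e he
  rw [mem_inf] at he
  have h1 : H ≤ centralizer ({e} : Set G) := by
    rw [← h.gen2 hg hg0]
    refine sup_le ?_ ?_
    · intro y hy
      rw [mem_centralizer_singleton_iff]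
      exact mem_centralizer_iff.1 he.2 y hy
    · have h2 : cj g A ≤ centralizer (cj g ⁅pCoreOf p H, Y⁆ : Set G) := by
        rw [← cj_centralizer]
        exact cj_mono (h.AY.trans (cen_anti h.E_le_Y))
      intro y hy
      rw [mem_centralizer_singleton_iff]
      exact (mem_centralizer_iff.1 (h2 hy) e he.1).symm
  have h3 := mem_centralizer_singleton_iff.1 (h1 (h.LH hg))
  have h4 := mem_cj.1 he.1
  rwa [mul_assoc, ← h3, inv_mul_cancel_left] at h4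

theorem K_norm_E : pCoreOf p H ≤ normalizer ((⁅pCoreOf p H, Y⁆ : Subgroup G) : Set G) := le_normalizer_commutator_left _ _

theorem cjE_le_K {g : G} (hg : g ∈ L) : cj g ⁅pCoreOf p H, Y⁆ ≤ pCoreOf p H := by
  rw [h.cj_E (h.LH hg)]
  exact h.comm_K_le ((h.cj_YL hg).trans h.LH)

theorem EE_cen {g : G} (hg : g ∈ L) (hg0 : g ∉ L₀) :
    (⁅pCoreOf p H, Y⁆ ⊔ cj g ⁅pCoreOf p H, Y⁆) ⊓ centralizer (Y : Set G) ≤ ⁅pCoreOf p H, Y⁆ := by
  intro x hx
  rw [mem_inf, mem_sup_of_norm ((h.cjE_le_K hg).trans h.K_norm_E)] at hx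
  obtain ⟨⟨e, he, c, hc, rfl⟩, h2⟩ := hx
  have h3 : c ∈ centralizer (Y : Set G) := by
    have e1 : c = e⁻¹ * (e * c) := by group
    rw [e1]
    exact mul_mem (inv_mem (h.YY (h.E_le_Y he))) h2
  exact mul_mem he (h.cjE_cen hg hg0 (mem_inf.2 ⟨hc, h3⟩))

theorem KC_le {g : G} (hg : g ∈ L) (hg0 : g ∉ L₀) :
    pCoreOf p H ⊓ centralizer (Y : Set G) ≤ ⁅pCoreOf p H, Y⁆ ⊔ (pCoreOf p H ⊓ centralizer (L : Set G)) := by
  intro k hk
  rw [mem_inf] at hk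
  have h1 : ⁅k⁻¹, g⁆ ∈ ⁅pCoreOf p H, L⁆ := commutator_mem_commutator (inv_mem hk.1) hg
  have h2 := h.comm_KL hg hg0 h1
  rw [mem_sup_of_norm ((h.cjE_le_K hg).trans h.K_norm_E)] at h2
  obtain ⟨e, he, c, hc, h3⟩ := h2
  have h4 : k * e = (g * k * g⁻¹) * c⁻¹ := by
    have : e = ⁅k⁻¹, g⁆ * c⁻¹ := by rw [← h3]; group
    rw [this, commutatorElement_def]; group
  have h5 : k * e ∈ centralizer (Y : Set G) := mul_mem hk.2 (h.YY (h.E_le_Y he))
  have h6 : k * e ∈ centralizer (cj g Y : Set G) := by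
    rw [h4]
    refine mul_mem ?_ (inv_mem ?_)
    · rw [← cj_centralizer]; exact H229.conj_mem_cj hk.2
    · rw [← cj_centralizer]
      exact cj_mono (h.E_le_Y.trans h.YY) hc
  have h7 : L ≤ centralizer ({k * e} : Set G) := by
    rw [← h.sup_cj hg hg0]
    refine sup_le ?_ ?_
    · intro y hy; rw [mem_centralizer_singleton_iff]; exact mem_centralizer_iff.1 h5 y hy
    · intro y hy; rw [mem_centralizer_singleton_iff]; exact mem_centralizer_iff.1 h6 y hy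
  have h8 : k * e ∈ pCoreOf p H ⊓ centralizer (L : Set G) := by
    refine mem_inf.2 ⟨mul_mem hk.1 (h.comm_K_le h.YH he), ?_⟩
    exact mem_centralizer_iff.2 fun y hy => mem_centralizer_singleton_iff.1 (h7 hy)
  have h9 : k = (k * e) * e⁻¹ := by group
  rw [h9]
  exact mul_mem (mem_sup_right h8) (mem_sup_left (inv_mem he))

theorem P_norm_E : L₀ ⊔ A ≤ normalizer ((⁅pCoreOf p H, Y⁆ : Subgroup G) : Set G) := by
  obtain ⟨g, hg, hg0⟩ := h.exists_g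
  refine sup_le ?_ ((h.AY.trans (cen_anti h.E_le_Y)).trans (centralizer_le_norm _))
  intro x hx
  rw [mem_norm]
  apply cj_eq_of_le
  have hxL := h.lt.le hx
  refine le_trans (le_inf ?_ ?_) (h.EE_cen hg hg0)
  · rw [h.cj_E (h.LH hxL)]
    exact (commutator_mono le_rfl (h.cj_YL hxL)).trans (h.comm_KL hg hg0)
  · refine (cj_mono h.E_le_Y).trans ?_
    exact (cj_le_ncl (mem_sup_left hx)).trans h.W_cen

theorem P_le_H : L₀ ⊔ A ≤ H := h.P_lt.le

/-- `U = W ∩ O_p(H)` -/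
theorem P_norm_U : L₀ ⊔ A ≤ normalizer ((ncl (L₀ ⊔ A) Y ⊓ pCoreOf p H : Subgroup G) : Set G) :=
  le_normalizer_inf (le_norm_ncl _ _) (h.P_le_H.trans h.K_norm)

theorem comm_UL₀ : ⁅ncl (L₀ ⊔ A) Y ⊓ pCoreOf p H, L₀⁆ ≤ ⁅pCoreOf p H, Y⁆ := by
  obtain ⟨g, hg, hg0⟩ := h.exists_g
  rw [commutator_le]
  intro u hu x hx
  rw [mem_inf] at hu
  have h1 := h.KC_le hg hg0 (mem_inf.2 ⟨hu.2, h.W_cen hu.1⟩)
  rw [mem_sup_of_norm (inf_le_left.trans h.K_norm_E)] at h1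
  obtain ⟨e, he, c, hc, rfl⟩ := h1
  rw [mem_inf] at hc
  have h2 : c * x = x * c := ((mem_centralizer_iff.1 hc.2) x (h.lt.le hx)).symm
  have h3 : ⁅e * c, x⁆ = e * (x * e⁻¹ * x⁻¹) := by
    rw [commutatorElement_def]
    calc e * c * x * (e * c)⁻¹ * x⁻¹ = e * (c * x) * c⁻¹ * e⁻¹ * x⁻¹ := by group
      _ = e * (x * c) * c⁻¹ * e⁻¹ * x⁻¹ := by rw [h2]
      _ = _ := by group
  rw [h3]
  exact mul_mem he ((le_norm_iff.1 h.P_norm_E) x (mem_sup_left hx) _ (inv_mem he))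

theorem comm_U_res : ⁅ncl (L₀ ⊔ A) Y ⊓ pCoreOf p H, resOf p (L₀ ⊔ A)⁆ ≤ ⁅pCoreOf p H, Y⁆ := by
  have h1 : resOf p (L₀ ⊔ A) ≤ ncl (L₀ ⊔ A) L₀ := by
    apply resOf_le_of_sup_eq h.pA (le_sup_right.trans (le_norm_ncl _ _))
    exact sup_le_sup_right (le_ncl _ _) _
  refine (commutator_mono le_rfl h1).trans ?_
  apply commutator_iSup_le
  · rintro ⟨x, hx⟩
    show cj x L₀ ≤ _
    exact ((cj_mono le_sup_left).trans (cj_le_of_norm (le_normalizer hx))).trans h.P_norm_E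
  · rintro ⟨x, hx⟩
    show ⁅_, cj x L₀⁆ ≤ _
    rw [← mem_norm.1 (h.P_norm_U hx), ← cj_comm]
    exact (cj_mono h.comm_UL₀).trans (cj_le_of_norm (h.P_norm_E hx))

theorem comm_W_ncl : ⁅ncl (L₀ ⊔ A) Y, ncl (L₀ ⊔ A) A⁆ ≤ ncl (L₀ ⊔ A) Y ⊓ pCoreOf p H := by
  have h0 : ⁅ncl (L₀ ⊔ A) Y, A⁆ ≤ ncl (L₀ ⊔ A) Y ⊓ pCoreOf p H := by
    refine le_inf ?_ h.comm_WA
    rw [commutator_comm]
    exact le_norm_iff_comm_le.1 (le_sup_right.trans (le_norm_ncl _ _))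
  apply commutator_iSup_le
  · rintro ⟨x, hx⟩
    show cj x A ≤ _
    exact ((cj_mono le_sup_right).trans (cj_le_of_norm (le_normalizer hx))).trans h.P_norm_U
  · rintro ⟨x, hx⟩
    show ⁅_, cj x A⁆ ≤ _
    have h1 : cj x (ncl (L₀ ⊔ A) Y) = ncl (L₀ ⊔ A) Y := mem_norm.1 (le_norm_ncl _ _ hx)
    nth_rewrite 1 [← h1]
    rw [← cj_comm]
    exact (cj_mono h0).trans (cj_le_of_norm (h.P_norm_U hx))

/-- `P° ≤ C(Y)`. -/
theorem ncl_A_cen : ncl (L₀ ⊔ A) A ≤ centralizer (Y : Set G) := by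
  have h1 : ncl (L₀ ⊔ A) A ≤ L₀ ⊔ A := ncl_le_self le_sup_right
  have h2 : resOf p (ncl (L₀ ⊔ A) A) ⊔ A = ncl (L₀ ⊔ A) A :=
    H229.sup_eq_of_ncl (p := p) (resOf_le p _) (le_normalizer_resOf p _) (fun _ hx => H229.pow_mem_resOf hx)
      (le_ncl _ _) (ncl_ncl_wc h.pA le_sup_right h.wc)
  have h3 : ncl (L₀ ⊔ A) A ≤ centralizer ((⁅pCoreOf p H, Y⁆ : Subgroup G) : Set G) :=
    ncl_le (h.P_norm_E.trans (norm_le_norm_centralizer _)) (h.AY.trans (cen_anti h.E_le_Y))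
  set R := resOf p (ncl (L₀ ⊔ A) A) with hR
  have hRP : R ≤ ncl (L₀ ⊔ A) A := resOf_le p _
  have hRR : resOf p R = R := resOf_resOf _
  have hpW : IsPGroup p ↥(ncl (L₀ ⊔ A) Y) := h.pA.to_le h.W_le_A
  have h4 : ⁅ncl (L₀ ⊔ A) Y ⊓ pCoreOf p H, R⁆ ≤ ⁅pCoreOf p H, Y⁆ :=
    (commutator_mono le_rfl (resOf_mono h1)).trans h.comm_U_res
  have h5 : R ≤ centralizer ((ncl (L₀ ⊔ A) Y ⊓ pCoreOf p H : Subgroup G) : Set G) := by
    have h6 := resOf_cen_of_chain (p := p) (D := R) (N := ncl (L₀ ⊔ A) Y ⊓ pCoreOf p H)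
      (N₂ := ⁅pCoreOf p H, Y⁆) (hpW.to_le inf_le_left) h4
      (le_inf (h.E_le_Y.trans (le_ncl _ _)) (h.comm_K_le h.YH)) (by rw [hRR]; exact hRP.trans h3)
    rwa [hRR] at h6
  have h7 : R ≤ centralizer ((ncl (L₀ ⊔ A) Y : Subgroup G) : Set G) := by
    have h6 := resOf_cen_of_chain (p := p) (D := R) (N := ncl (L₀ ⊔ A) Y)
      (N₂ := ncl (L₀ ⊔ A) Y ⊓ pCoreOf p H) hpW ((commutator_mono le_rfl hRP).trans h.comm_W_ncl)
      inf_le_left (by rw [hRR]; exact h5)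
    rwa [hRR] at h6
  rw [← h2]
  exact sup_le (h7.trans (cen_anti (le_ncl _ _))) h.AY

theorem P_norm_Y : L₀ ⊔ A ≤ normalizer (Y : Set G) := by
  intro x hx
  obtain ⟨y, hy, n, hn, rfl⟩ := frattini_wc h.pA le_sup_right h.wc hx
  exact mul_mem (centralizer_le_norm _ (h.ncl_A_cen hy)) (h.nA hn)

theorem L_not_norm : ¬ L ≤ normalizer (Y : Set G) := fun h1 => h.YLO (le_pCoreOf h.YL h1 h.pY)

/-- `L₀ = N_L(Y)` -/
theorem L₀_eq : L₀ = L ⊓ normalizer (Y : Set G) := by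
  apply le_antisymm (le_inf h.lt.le (le_sup_left.trans h.P_norm_Y))
  apply h.max _ (le_inf h.YL le_normalizer)
  exact lt_of_le_of_ne inf_le_left fun h1 => h.L_not_norm (inf_eq_left.1 h1)

theorem not_mem {g : G} (hg : g ∉ normalizer (Y : Set G)) : g ∉ L₀ := by
  rw [h.L₀_eq, mem_inf]
  exact fun h1 => hg h1.2

/-- `L` has characteristic `p`. -/
theorem chp_L : ChP p L := by
  obtain ⟨g, hg, hg0⟩ := h.exists_g
  set K := pCoreOf p H with hK
  have h1 : ⁅K, L⁆ ≤ L := by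
    refine (h.comm_KL hg hg0).trans (sup_le (h.E_le_Y.trans h.YL) ?_)
    exact (cj_mono h.E_le_Y).trans (h.cj_YL hg)
  have h2 : ⁅K, L⁆ ≤ pCoreOf p L :=
    le_pCoreOf h1 (le_normalizer_commutator_right _ _) ((isPGroup_pCoreOf p H).to_le (h.comm_K_le h.LH))
  have h3 := resOf_cen_of_chain (p := p) (D := L ⊓ centralizer (pCoreOf p L : Set G)) (N := K) (N₂ := ⁅K, L⁆)
    (isPGroup_pCoreOf p H) (commutator_mono le_rfl inf_le_left) (h.comm_K_le h.LH)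
    ((resOf_le p _).trans (inf_le_right.trans (cen_anti h2)))
  have h4 : resOf p (L ⊓ centralizer (pCoreOf p L : Set G)) ≤ pCoreOf p H :=
    (le_inf ((resOf_le p _).trans (inf_le_left.trans h.LH)) h3).trans h.chp
  have h5 : IsPGroup p ↥(L ⊓ centralizer (pCoreOf p L : Set G) : Subgroup G) :=
    isPGroup_of_resOf_eq_bot (resOf_eq_bot ((isPGroup_pCoreOf p H).to_le h4))
  refine le_pCoreOf inf_le_left ?_ h5
  exact le_normalizer_inf le_normalizer ((le_norm_pCoreOf p L).trans (norm_le_norm_centralizer _))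

theorem L_eq_res : resOf p L ⊔ Y = L :=
  H229.sup_eq_of_ncl (p := p) (resOf_le p _) (le_normalizer_resOf p _) (fun _ hx => H229.pow_mem_resOf hx)
    h.YL h.ncl_LY

theorem not_comm_le {V W : Subgroup G} (hV : Chief p H V W) (hnc : ¬ ⁅V, H⁆ ≤ W) : ¬ ⁅V, resOf p L⁆ ≤ W := by
  obtain ⟨g, hg, hg0⟩ := h.exists_g
  exact (h.gdata hg hg0).not_comm_le hV hnc ((resOf_le p L).trans h.LH) h.L_eq_res.ge

theorem core_L_norm : pCoreOf p L ≤ normalizer (Y : Set G) := by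
  have h1 : Y ⊔ pCoreOf p L ≤ L := sup_le h.YL (pCoreOf_le p L)
  have h2 : Y ⊔ pCoreOf p L ≤ L₀ := by
    apply h.max _ le_sup_left
    refine lt_of_le_of_ne h1 fun h3 => ?_
    apply h.YLO
    have h4 : IsPGroup p ↥(pCoreOf p L ⊔ Y : Subgroup G) :=
      H229.isPGroup_sup_of_norm (isPGroup_pCoreOf p L) h.pY (h.YL.trans (le_norm_pCoreOf p L))
    rw [sup_comm, h3] at h4
    exact h.YL.trans (le_pCoreOf le_rfl le_normalizer h4)
  refine (le_sup_right.trans h2).trans ?_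
  rw [h.L₀_eq]; exact inf_le_right

theorem ncl_le_core : ncl L (pCoreOf p L ⊓ Y) ≤ pCoreOf p H := by
  obtain ⟨g, hg, hg0⟩ := h.exists_g
  apply ncl_le (h.LH.trans h.K_norm)
  apply le_pCoreOf_of_chief h.chp (inf_le_right.trans h.YH)
  intro V W hVW
  by_cases hc : ⁅V, H⁆ ≤ W
  · exact (commutator_mono le_rfl (inf_le_right.trans h.YH)).trans hc
  · apply (h.gdata hg hg0).comm_le_of hVW hc inf_le_right
    refine inf_le_left.trans ?_
    rw [← mem_norm.1 (le_norm_pCoreOf p L hg), ← cj_normalizer]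
    exact cj_mono h.core_L_norm

end Hyp0

end Cfsg.Agent.H231.AL
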