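import Cfsg.Agent.H231.Rel
import Cfsg.Agent.H229.FrakH

/-!
# Asymmetric L-lemma: the action on one noncentral chief factor

`V` a minimal normal abelian `p`-subgroup of `X`, not central, `Y ≤ A`, `X = ⟨Y^g, A⟩ = ⟨Y, A^g⟩`, `A` centralizes `Y`
and `[V, Y]`.
-/

set_option autoImplicit false
set_option linter.unusedSectionVars false

namespace Cfsg.Agent.H231.AL

open Cfsg Subgroup
open Cfsg.Agent.H229 (cj mem_cj cj_mono cj_le_of_norm mem_norm cj_comm cj_centralizer cj_inf cj_sup cj_inv_cj cj_cj_inv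
  le_norm_iff_comm_le le_norm_iff mem_sup_of_norm cj_le_iff le_cj_iff cj_eq_bot le_centralizer_comm centralizer_le_norm
  norm_le_norm_centralizer ncl cj_le_ncl le_ncl ncl_le_iff le_norm_ncl ncl_le card_cj cj_eq_of_le)

variable {X : Type*} [Group X]

/-- module data -/
structure MData (V Y A : Subgroup X) (g : X) : Prop where
  norm : V.Normal
  ab : V ≤ centralizer (V : Set X)
  min : ∀ Z : Subgroup X, Z.Normal → Z ≤ V → Z = ⊥ ∨ Z = V
  ncen : ¬ V ≤ center X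
  YA : Y ≤ A
  AY : A ≤ centralizer (Y : Set X)
  AE : A ≤ centralizer ((⁅V, Y⁆ : Subgroup X) : Set X)
  gen1 : cj g Y ⊔ A = ⊤
  gen2 : Y ⊔ cj g A = ⊤

theorem normal_of_top_le {N : Subgroup X} (h : ⊤ ≤ normalizer (N : Set X)) : N.Normal :=
  normalizer_eq_top_iff.1 (top_le_iff.1 h)

theorem top_le_of_normal {N : Subgroup X} (h : N.Normal) : ⊤ ≤ normalizer (N : Set X) :=
  (normalizer_eq_top_iff.2 h).ge

theorem comm_eq_bot_iff' {A B : Subgroup X} : ⁅A, B⁆ = ⊥ ↔ B ≤ centralizer (A : Set X) := by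
  rw [commutator_eq_bot_iff_le_centralizer, le_centralizer_iff]

theorem cen_anti {A B : Subgroup X} (h : A ≤ B) : centralizer (B : Set X) ≤ centralizer (A : Set X) :=
  centralizer_le h

namespace MData

variable {V Y A : Subgroup X} {g : X} (h : MData V Y A g)

include h

theorem cjV (x : X) : cj x V = V := mem_norm.1 (top_le_of_normal h.norm (mem_top x))

theorem eq_bot_of_cen {Z : Subgroup X} (hZ : Z ≤ V) (hc : ⊤ ≤ centralizer (Z : Set X)) : Z = ⊥ := by
  have h1 : Z ≤ center X := by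
    intro z hz
    rw [mem_center_iff]
    intro x
    exact (mem_centralizer_iff.1 (hc (mem_top x)) z hz).symm
  have hn : (V ⊓ center X).Normal := by
    have := h.norm
    infer_instance
  rcases h.min _ hn inf_le_left with h2 | h2
  · rw [eq_bot_iff, ← h2]; exact le_inf hZ h1
  · exact absurd (inf_eq_left.1 h2) h.ncen

theorem comm_top : ⁅V, (⊤ : Subgroup X)⁆ = V := by
  have := h.norm
  rcases h.min ⁅V, (⊤ : Subgroup X)⁆ inferInstance (commutator_le_left V ⊤) with h1 | h1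
  · exfalso
    apply h.ncen
    rw [comm_eq_bot_iff'] at h1
    intro v hv
    rw [mem_center_iff]
    intro x
    exact (mem_centralizer_iff.1 (h1 (mem_top x)) v hv).symm
  · exact h1

theorem E_le : ⁅V, Y⁆ ≤ V := by
  have := h.norm
  exact commutator_le_left V Y

theorem comm_le (B : Subgroup X) : ⁅V, B⁆ ≤ V := by
  have := h.norm
  exact commutator_le_left V B

theorem cj_E : cj g ⁅V, Y⁆ = ⁅V, cj g Y⁆ := by rw [cj_comm, h.cjV]

theorem cjE_le : cj g ⁅V, Y⁆ ≤ V := by rw [h.cj_E]; exact h.comm_le _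

theorem Y_cen_E : Y ≤ centralizer ((⁅V, Y⁆ : Subgroup X) : Set X) := h.YA.trans h.AE

theorem E_cen_Y : ⁅V, Y⁆ ≤ centralizer (Y : Set X) := le_centralizer_comm h.Y_cen_E

theorem cjA_cen : cj g A ≤ centralizer ((cj g ⁅V, Y⁆ : Subgroup X) : Set X) := by
  rw [← cj_centralizer]
  exact cj_mono h.AE

theorem cjY_cen : cj g Y ≤ centralizer ((cj g ⁅V, Y⁆ : Subgroup X) : Set X) :=
  (cj_mono h.YA).trans h.cjA_cen

theorem E_inf : ⁅V, Y⁆ ⊓ cj g ⁅V, Y⁆ = ⊥ := by
  apply h.eq_bot_of_cen (inf_le_left.trans h.E_le)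
  rw [← h.gen1]
  exact sup_le (h.cjY_cen.trans (cen_anti inf_le_right)) (h.AE.trans (cen_anti inf_le_left))

theorem cjE_inf_cen : cj g ⁅V, Y⁆ ⊓ centralizer (Y : Set X) = ⊥ := by
  apply h.eq_bot_of_cen (inf_le_left.trans h.cjE_le)
  rw [← h.gen2]
  exact sup_le (le_centralizer_comm inf_le_right) (h.cjA_cen.trans (cen_anti inf_le_left))

theorem norm_of {P B : Subgroup X} (h1 : ⁅V, B⁆ ≤ P) (h2 : P ≤ V) : B ≤ normalizer (P : Set X) := by
  rw [le_norm_iff_comm_le, commutator_comm]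
  exact (commutator_mono h2 le_rfl).trans h1

theorem commA_le : ⁅V, A⁆ ≤ centralizer (Y : Set X) := by
  rw [← commutator_eq_bot_iff_le_centralizer]
  apply commutator_commutator_eq_bot_of_rotate
  · rw [comm_eq_bot_iff'.2 (le_centralizer_comm h.AY), commutator_bot_left]
  · rw [commutator_comm Y V, comm_eq_bot_iff']
    exact h.AE

theorem le1 : V ≤ cj g ⁅V, Y⁆ ⊔ (V ⊓ centralizer (Y : Set X)) := by
  have hle : cj g ⁅V, Y⁆ ⊔ (V ⊓ centralizer (Y : Set X)) ≤ V := sup_le h.cjE_le inf_le_left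
  have h1 : ⁅V, cj g Y⁆ ≤ cj g ⁅V, Y⁆ ⊔ (V ⊓ centralizer (Y : Set X)) := by
    rw [← h.cj_E]; exact le_sup_left
  have h2 : ⁅V, A⁆ ≤ cj g ⁅V, Y⁆ ⊔ (V ⊓ centralizer (Y : Set X)) :=
    (le_inf (h.comm_le A) h.commA_le).trans le_sup_right
  nth_rewrite 1 [← h.comm_top]
  rw [← h.gen1]
  exact commutator_sup_le (h.norm_of h1 hle) (h.norm_of h2 hle) h1 h2

theorem le2 : V ≤ ⁅V, Y⁆ ⊔ (V ⊓ centralizer ((cj g Y : Subgroup X) : Set X)) := by
  have hle : ⁅V, Y⁆ ⊔ (V ⊓ centralizer ((cj g Y : Subgroup X) : Set X)) ≤ V := sup_le h.E_le inf_le_left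
  have h1 : ⁅V, Y⁆ ≤ ⁅V, Y⁆ ⊔ (V ⊓ centralizer ((cj g Y : Subgroup X) : Set X)) := le_sup_left
  have h2 : ⁅V, cj g A⁆ ≤ ⁅V, Y⁆ ⊔ (V ⊓ centralizer ((cj g Y : Subgroup X) : Set X)) := by
    refine (le_inf (h.comm_le _) ?_).trans le_sup_right
    rw [← h.cjV g, ← cj_comm, ← cj_centralizer]
    exact cj_mono h.commA_le
  nth_rewrite 1 [← h.comm_top]
  rw [← h.gen2]
  exact commutator_sup_le (h.norm_of h1 hle) (h.norm_of h2 hle) h1 h2

theorem V_norm {B : Subgroup X} (hB : B ≤ V) : V ≤ normalizer (B : Set X) :=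
  (h.ab.trans (cen_anti hB)).trans (centralizer_le_norm B)

theorem cenY_le : V ⊓ centralizer (Y : Set X) ≤
    ⁅V, Y⁆ ⊔ (V ⊓ centralizer ((Y ⊔ cj g Y : Subgroup X) : Set X)) := by
  intro v hv
  have h1 := h.le2 hv.1
  rw [mem_sup_of_norm (inf_le_left.trans (h.V_norm h.E_le))] at h1
  obtain ⟨e, he, c, hc, rfl⟩ := h1
  refine mul_mem (mem_sup_left he) (mem_sup_right ⟨hc.1, ?_⟩)
  have h2 : c ∈ centralizer (Y : Set X) := by
    have e1 : c = e⁻¹ * (e * c) := by group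
    rw [e1]
    exact mul_mem (inv_mem (h.E_cen_Y he)) hv.2
  have h3 : Y ⊔ cj g Y ≤ centralizer ({c} : Set X) := by
    refine sup_le ?_ ?_
    · intro y hy; rw [mem_centralizer_singleton_iff]
      exact mem_centralizer_iff.1 h2 y hy
    · intro y hy; rw [mem_centralizer_singleton_iff]
      exact mem_centralizer_iff.1 hc.2 y hy
  exact mem_centralizer_iff.2 fun y hy => mem_centralizer_singleton_iff.1 (h3 hy)

theorem V_le : V ≤ (⁅V, Y⁆ ⊔ cj g ⁅V, Y⁆) ⊔ (V ⊓ centralizer ((Y ⊔ cj g Y : Subgroup X) : Set X)) := by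
  refine h.le1.trans (sup_le (le_sup_right.trans le_sup_left) (h.cenY_le.trans ?_))
  exact sup_le (le_sup_left.trans le_sup_left) le_sup_right

theorem commL : ⁅V, Y ⊔ cj g Y⁆ ≤ ⁅V, Y⁆ ⊔ cj g ⁅V, Y⁆ := by
  have hle : ⁅V, Y⁆ ⊔ cj g ⁅V, Y⁆ ≤ V := sup_le h.E_le h.cjE_le
  have h1 : ⁅V, Y⁆ ≤ ⁅V, Y⁆ ⊔ cj g ⁅V, Y⁆ := le_sup_left
  have h2 : ⁅V, cj g Y⁆ ≤ ⁅V, Y⁆ ⊔ cj g ⁅V, Y⁆ := by rw [← h.cj_E]; exact le_sup_right
  exact commutator_sup_le (h.norm_of h1 hle) (h.norm_of h2 hle) h1 h2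

theorem commL_cen : ⁅V, Y ⊔ cj g Y⁆ ⊓ centralizer (Y : Set X) ≤ ⁅V, Y⁆ := by
  intro v hv
  have h1 := h.commL hv.1
  rw [mem_sup_of_norm (h.cjE_le.trans (h.V_norm h.E_le))] at h1
  obtain ⟨e, he, c, hc, rfl⟩ := h1
  have h2 : c ∈ cj g ⁅V, Y⁆ ⊓ centralizer (Y : Set X) := by
    refine mem_inf.2 ⟨hc, ?_⟩
    have e1 : c = e⁻¹ * (e * c) := by group
    rw [e1]
    exact mul_mem (inv_mem (h.E_cen_Y he)) hv.2
  rw [h.cjE_inf_cen, mem_bot] at h2
  rw [h2, mul_one]; exact he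

section fin

variable [Finite X] {p : ℕ} [Fact p.Prime]

theorem E_ne_bot (hV : IsPGroup p ↥V) (hA : IsPGroup p ↥A) : ⁅V, Y⁆ ≠ ⊥ := by
  intro hE
  have hV1 : V ≠ ⊥ := by
    rintro rfl
    exact h.ncen bot_le
  have h1 : cj g Y ≤ centralizer (V : Set X) := by
    rw [← comm_eq_bot_iff', ← h.cj_E, hE]
    exact Subgroup.map_bot _
  have h2 := PLocal.OffenderStep.inf_centralizer_ne_bot (p := p) V A hV hA
    (le_top.trans (top_le_of_normal h.norm)) hV1
  apply h2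
  apply h.eq_bot_of_cen inf_le_left
  rw [← h.gen1]
  exact sup_le (h1.trans (cen_anti inf_le_left)) (le_centralizer_comm inf_le_right)

/-- `⟨L₀, A⟩ ≠ X`. -/
theorem sup_ne_top (hV : IsPGroup p ↥V) (hA : IsPGroup p ↥A) {R L₀ : Subgroup X} (hR : IsPGroup p ↥R)
    (hYR : Y ≤ R) (hL : L₀ ≤ Y ⊔ cj g Y) (hLR : L₀ ≤ normalizer (R : Set X))
    (hRL : R ≤ Y ⊔ cj g Y) : L₀ ⊔ A ≠ ⊤ := by
  intro htop
  set L := Y ⊔ cj g Y with hLdef
  have hE := h.E_ne_bot hV hA
  have hVL : ⁅V, L⁆ ≠ ⊥ := by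
    intro h1
    apply hE
    rw [eq_bot_iff, ← h1]
    exact commutator_mono le_rfl le_sup_left
  have hLn : L ≤ normalizer ((⁅V, L⁆ : Subgroup X) : Set X) := le_normalizer_commutator_right V L
  have hpVL : IsPGroup p ↥(⁅V, L⁆ : Subgroup X) := hV.to_le (h.comm_le L)
  have h2 := PLocal.OffenderStep.inf_centralizer_ne_bot (p := p) ⁅V, L⁆ R hpVL hR
    (hRL.trans hLn) hVL
  set V' := ⁅V, L⁆ ⊓ centralizer (R : Set X) with hV'
  have h3 : V' ≤ ⁅V, Y⁆ := (inf_le_inf_left _ (cen_anti hYR)).trans h.commL_cen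
  have h4 : A ≤ normalizer (V' : Set X) := (h.AE.trans (cen_anti h3)).trans (centralizer_le_norm _)
  have h5 : L₀ ≤ normalizer (V' : Set X) :=
    le_normalizer_inf (hL.trans hLn) (hLR.trans (norm_le_norm_centralizer R))
  have h6 : V'.Normal := normal_of_top_le (by rw [← htop]; exact sup_le h5 h4)
  rcases h.min V' h6 (h3.trans h.E_le) with h7 | h7
  · exact h2 h7
  · apply hE
    rw [commutator_eq_bot_iff_le_centralizer, ← h7]
    exact (h3.trans h.E_cen_Y)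

/-- no `O^p(L)` acting trivially -/
theorem not_cen (hV : IsPGroup p ↥V) (hA : IsPGroup p ↥A) {R : Subgroup X}
    (hR : Y ⊔ cj g Y ≤ R ⊔ Y) : ⁅V, R⁆ ≠ ⊥ := by
  intro h1
  apply h.E_ne_bot hV hA
  have h2 : ⁅V, R ⊔ Y⁆ ≤ ⁅V, Y⁆ := by
    apply commutator_sup_le
    · exact h.norm_of (h1.trans_le bot_le) h.E_le
    · exact h.norm_of le_rfl h.E_le
    · exact h1.trans_le bot_le
    · exact le_rfl
  have h3 : cj g ⁅V, Y⁆ ≤ ⁅V, Y⁆ := by
    rw [h.cj_E]
    exact (commutator_mono le_rfl (le_sup_right.trans hR)).trans h2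
  have h4 := h.E_inf
  rw [inf_eq_right.2 h3, cj_eq_bot] at h4
  exact h4

end fin

theorem cen_of {D : Subgroup X} (hD : D ≤ Y) (hDn : D ≤ normalizer ((cj g Y : Subgroup X) : Set X)) :
    ⁅V, D⁆ = ⊥ := by
  rw [commutator_comm, commutator_eq_bot_iff_le_centralizer]
  apply le_centralizer_comm
  refine h.V_le.trans ?_
  refine sup_le (sup_le ?_ ?_) ?_
  · exact le_centralizer_comm (hD.trans h.Y_cen_E)
  · rw [← commutator_eq_bot_iff_le_centralizer, eq_bot_iff, ← h.E_inf]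
    refine le_inf ?_ ?_
    · exact commutator_mono h.cjE_le hD
    · rw [commutator_comm, ← le_norm_iff_comm_le, h.cj_E]
      exact le_normalizer_commutator (le_top.trans (top_le_of_normal h.norm)) hDn
  · exact inf_le_right.trans (cen_anti (hD.trans le_sup_left))

/-- `[W, A]` acts trivially. -/
theorem comm_comm_eq_bot {W L₀ : Subgroup X} [Finite X] (hL : L₀ ≤ Y ⊔ cj g Y) (hYW : Y ≤ W) (hWA : W ≤ A)
    (hLW : L₀ ≤ normalizer (W : Set X)) (hW : W ≤ ncl (L₀ ⊔ A) Y) : ⁅V, ⁅W, A⁆⁆ = ⊥ := by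
  set L := Y ⊔ cj g Y with hLdef
  set E := ⁅V, Y⁆ with hE
  have hLn : L ≤ normalizer ((⁅V, L⁆ : Subgroup X) : Set X) := le_normalizer_commutator_right V L
  have hEL : ∀ x ∈ L₀, cj x E = E := by
    intro x hx
    have h1 : Y ≤ cj x A := by
      refine hYW.trans ?_
      rw [← mem_norm.1 (hLW hx)]
      exact cj_mono hWA
    have h2 : cj x A ≤ centralizer ((cj x E : Subgroup X) : Set X) := by
      rw [← cj_centralizer]; exact cj_mono h.AE
    apply cj_eq_of_le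
    refine le_trans (le_inf ?_ (le_centralizer_comm (h1.trans h2))) h.commL_cen
    refine (cj_mono (commutator_mono le_rfl (le_sup_left : Y ≤ L))).trans ?_
    exact cj_le_of_norm (hLn (hL hx))
  have hLE : L₀ ≤ normalizer (E : Set X) := fun x hx => mem_norm.2 (hEL x hx)
  have hPE : L₀ ⊔ A ≤ normalizer (E : Set X) := sup_le hLE (h.AE.trans (centralizer_le_norm _))
  -- `C_V(Y)` is invariant
  have hcY : V ⊓ centralizer (Y : Set X) = E ⊔ (V ⊓ centralizer (L : Set X)) := by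
    apply le_antisymm h.cenY_le
    refine sup_le (le_inf h.E_le h.E_cen_Y) ?_
    exact inf_le_inf_left _ (cen_anti le_sup_left)
  have hP : L₀ ⊔ A ≤ normalizer ((V ⊓ centralizer (Y : Set X) : Subgroup X) : Set X) := by
    refine sup_le ?_ ?_
    · rw [hcY]
      refine le_normalizer_sup hLE ?_
      refine le_trans ?_ (centralizer_le_norm _)
      exact le_centralizer_comm (inf_le_right.trans (cen_anti hL))
    · refine le_normalizer_inf (le_top.trans (top_le_of_normal h.norm)) ?_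
      exact (h.AY.trans (centralizer_le_norm _)).trans (norm_le_norm_centralizer _)
  have hWc : W ≤ centralizer ((V ⊓ centralizer (Y : Set X) : Subgroup X) : Set X) := by
    refine hW.trans (ncl_le (hP.trans (norm_le_norm_centralizer _)) ?_)
    exact le_centralizer_comm inf_le_right
  have hWE : ⁅V, W⁆ ≤ E := by
    refine (commutator_mono le_rfl hW).trans ?_
    apply commutator_iSup_le
    · rintro ⟨x, hx⟩
      show cj x Y ≤ _
      rw [← mem_norm.1 (hPE hx), ← H229.cj_normalizer]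
      exact cj_mono (h.norm_of le_rfl h.E_le)
    · rintro ⟨x, hx⟩
      show ⁅V, cj x Y⁆ ≤ _
      rw [← h.cjV x, ← cj_comm]
      exact cj_le_of_norm (hPE hx)
  rw [commutator_comm]
  apply commutator_commutator_eq_bot_of_rotate
  · rw [commutator_eq_bot_iff_le_centralizer, commutator_comm]
    exact (le_inf (h.comm_le A) h.commA_le).trans (le_centralizer_comm hWc)
  · rw [eq_bot_iff]
    refine (commutator_mono hWE le_rfl).trans ?_
    rw [← eq_bot_iff, comm_eq_bot_iff']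
    exact h.AE

end MData

end Cfsg.Agent.H231.AL
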