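import Cfsg.Agent.H231.Rel
import Cfsg.Agent.LieClassical.SLTwoUnipotent
import Cfsg.Agent.ClassicalGeometry.DiagNormal
import Cfsg.Agent.H438.SzMax

/-!
# The unique elementary abelian normal `p`-subgroup of a Borel subgroup

For `X = SL₂(q)`, `Sz(q)` (`q` a power of `p`) and a subgroup `Y` of `X`, elementary abelian of order
`q`: `Y` is the only nontrivial elementary abelian normal `p`-subgroup of `N_X(Y)`.
-/

set_option autoImplicit false
set_option linter.unusedSectionVars false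

namespace Cfsg.Agent.H231

open Subgroup Cfsg H227.Weak
open scoped commutatorElement

/-- every elementary abelian `p`-subgroup `Y` of order `n` of `X` is the unique nontrivial elementary
abelian normal `p`-subgroup of its normalizer. -/
def BorelUniq (p : ℕ) (X : Type*) [Group X] (n : ℕ) : Prop :=
  ∀ Y V : Subgroup X, IsElementaryAbelian p Y → Nat.card Y = n → IsElementaryAbelian p V → V ≠ ⊥ →
    V ≤ normalizer (Y : Set X) → normalizer (Y : Set X) ≤ normalizer (V : Set X) → V = Y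

theorem ea_of_map' {X X' : Type*} [Group X] [Group X'] {p : ℕ} {A : Subgroup X}
    (h : IsElementaryAbelian p A) (f : X →* X') : IsElementaryAbelian p (A.map f) := by
  obtain ⟨h1, h2⟩ := h
  refine ⟨⟨⟨?_⟩⟩, ?_⟩
  · rintro ⟨_, a, ha, rfl⟩ ⟨_, b, hb, rfl⟩
    apply Subtype.ext
    have := congrArg Subtype.val (h1.is_comm.comm (⟨a, ha⟩ : ↥A) ⟨b, hb⟩)
    have h3 : a * b = b * a := this
    show f a * f b = f b * f a
    rw [← map_mul, h3, map_mul]
  · rintro _ ⟨a, ha, rfl⟩
    rw [← map_pow, h2 a ha, map_one]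

theorem normalizer_map_equiv' {X X' : Type*} [Group X] [Group X'] (e : X ≃* X') (A : Subgroup X) :
    normalizer ((A.map e.toMonoidHom : Subgroup X') : Set X') =
      (normalizer (A : Set X)).map e.toMonoidHom :=
  (Subgroup.map_equiv_normalizer_eq A e).symm

theorem BorelUniq.congr {p n : ℕ} {X X' : Type*} [Group X] [Group X'] (e : X ≃* X')
    (h : BorelUniq p X' n) : BorelUniq p X n := by
  intro Y V hY hYc hV hV1 hVY hYV
  have hinj : Function.Injective e.toMonoidHom := e.injective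
  apply Subgroup.map_injective hinj
  refine h _ _ (ea_of_map' hY _) ?_ (ea_of_map' hV _) ?_ ?_ ?_
  · rw [← hYc]
    exact Subgroup.card_map_of_injective hinj
  · intro h1
    exact hV1 ((Subgroup.map_eq_bot_iff_of_injective _ hinj).1 h1)
  · rw [normalizer_map_equiv']
    exact Subgroup.map_mono hVY
  · rw [normalizer_map_equiv', normalizer_map_equiv']
    exact Subgroup.map_mono hYV

theorem ea_isPGroup' {G : Type*} [Group G] {p : ℕ} {A : Subgroup G} (h : IsElementaryAbelian p A) :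
    IsPGroup p ↥A := by
  intro a
  refine ⟨1, Subtype.ext ?_⟩
  simpa using h.2 a a.2

section SL2

open LieClassical.SLTwoUnipotent Matrix

variable {F : Type*} [Field F]

/-- the diagonal matrix -/
def dg (t : Fˣ) : SpecialLinearGroup (Fin 2) F :=
  ⟨!![(t : F), 0; 0, (t⁻¹ : Fˣ)], by simp [Matrix.det_fin_two]⟩

theorem coe_dg (t : Fˣ) : ((dg t : SpecialLinearGroup (Fin 2) F) : Matrix (Fin 2) (Fin 2) F) =
    !![(t : F), 0; 0, (t⁻¹ : Fˣ)] := rfl

theorem dg_mul_u (t : Fˣ) (x : F) : dg t * u x = u ((t : F) ^ 2 * x) * dg t := by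
  apply ext_coe
  rw [LieClassical.SLTwoUnipotent.coe_mul, LieClassical.SLTwoUnipotent.coe_mul, coe_u, coe_u,
    coe_dg]
  ext i j
  fin_cases i <;> fin_cases j <;> simp [Matrix.mul_apply, Fin.sum_univ_two]
  field_simp

theorem dg_conj (t : Fˣ) (x : F) : dg t * u x * (dg t)⁻¹ = u ((t : F) ^ 2 * x) := by
  rw [dg_mul_u, mul_assoc, mul_inv_cancel, mul_one]

theorem dg_mem (t : Fˣ) :
    dg t ∈ normalizer (upperUnipSL F : Set (SpecialLinearGroup (Fin 2) F)) := by
  rw [mem_normalizer_upperUnipSL_iff, coe_dg]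
  simp

theorem borelUniq_SL2 [Finite F] {p : ℕ} [Fact p.Prime] [CharP F p] :
    BorelUniq p (SpecialLinearGroup (Fin 2) F) (Nat.card F) := by
  have hfin : Finite (SpecialLinearGroup (Fin 2) F) := inferInstance
  have := Fintype.ofFinite F
  intro Y V hY hYc hV hV1 hVY hYV
  -- a Sylow subgroup containing `Y`
  obtain ⟨P, hP⟩ := (ea_isPGroup' hY).exists_le_sylow
  obtain ⟨a, ha⟩ := exists_smul_upperUnipSylowSL_eq (F := F) p P
  have hPa : cj a (upperUnipSL F) = (P : Subgroup (SpecialLinearGroup (Fin 2) F)) := by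
    rw [← ha]
    rfl
  have hPc : Nat.card (P : Subgroup (SpecialLinearGroup (Fin 2) F)) = Nat.card F := by
    rw [← hPa, cj, Subgroup.card_map_of_injective (MulAut.conj a).injective]
    exact card_upperUnipSL
  have hYP : Y = P := Subgroup.eq_of_le_of_card_ge hP (by rw [hPc, hYc])
  -- reduce to `Y = U`
  have hY' : cj a⁻¹ Y = upperUnipSL F := by rw [hYP, ← hPa, cj_inv_cj]
  rw [← cj_inj (g := a⁻¹), hY']
  set V' := cj a⁻¹ V with hV'
  have h1 : V' ≤ normalizer (upperUnipSL F : Set (SpecialLinearGroup (Fin 2) F)) := by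
    rw [← hY', ← cj_normalizer]; exact cj_mono _ hVY
  have h2 : normalizer (upperUnipSL F : Set (SpecialLinearGroup (Fin 2) F)) ≤
      normalizer (V' : Set (SpecialLinearGroup (Fin 2) F)) := by
    rw [← hY', ← cj_normalizer, ← cj_normalizer]; exact cj_mono _ hYV
  have hV'p : IsPGroup p V' := isPGroup_cj (ea_isPGroup' hV) _
  have hV'1 : V' ≠ ⊥ := by
    intro h
    apply hV1
    rw [← cj_cj_inv a V, ← hV', h]
    exact Subgroup.map_bot _
  have hV'U : V' ≤ upperUnipSL F := by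
    have h3 : IsPGroup p (upperUnipSL F) := by
      have := (upperUnipSylowSL F p).2
      rwa [coe_upperUnipSylowSL] at this
    have h4 : IsPGroup p (upperUnipSL F ⊔ V' : Subgroup _) :=
      isPGroup_sup_of_le_normalizer h3 hV'p h1
    have h5 := (upperUnipSylowSL F p).3 h4 (by rw [coe_upperUnipSylowSL]; exact le_sup_left)
    rw [coe_upperUnipSylowSL] at h5
    exact le_sup_right.trans h5.le
  apply le_antisymm hV'U
  obtain ⟨⟨v, hv⟩, hv0⟩ := Subgroup.ne_bot_iff_exists_ne_one.1 hV'1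
  have hv1 : v ≠ 1 := fun h => hv0 (Subtype.ext h)
  obtain ⟨b, rfl⟩ := mem_upperUnipSL_iff_exists.1 (hV'U hv)
  have hb : b ≠ 0 := fun h => hv1 (by rw [h, u_zero])
  have hsq : ∀ t : F, u (t ^ 2 * b) ∈ V' := by
    intro t
    by_cases ht : t = 0
    · subst ht
      have : u ((0 : F) ^ 2 * b) = 1 := by rw [zero_pow two_ne_zero, zero_mul, u_zero]
      rw [this]; exact one_mem _
    · have h3 := (mem_normalizer_iff.1 (h2 (dg_mem (Units.mk0 t ht))) (u b)).1 hv
      rw [dg_conj] at h3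
      exact h3
  intro g hg
  obtain ⟨x, rfl⟩ := mem_upperUnipSL_iff_exists.1 hg
  obtain ⟨s, t, hst⟩ : ∃ s t : F, s ^ 2 + t ^ 2 = x / b := by
    by_cases h20 : (2 : F) = 0
    · have hchar : ringChar F = 2 := by
        have h3 : CharP F 2 := by
          refine CharTwo.of_one_ne_zero_of_two_eq_zero one_ne_zero h20
        exact ringChar.eq F 2 |>.symm ▸ rfl
      obtain ⟨s, hs⟩ := FiniteField.isSquare_of_char_two hchar (x / b)
      exact ⟨s, 0, by rw [hs]; ring⟩
    · obtain ⟨s, t, h3⟩ := ClassicalGeometry.DiagNormal.exists_mul_sq_add_mul_sq_eq h20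
        (one_ne_zero) (one_ne_zero) (x / b)
      exact ⟨s, t, by simpa using h3⟩
  have hx : x = s ^ 2 * b + t ^ 2 * b := by
    rw [← add_mul, hst, div_mul_cancel₀ _ hb]
  rw [hx, u_add]
  exact mul_mem (hsq s) (hsq t)

end SL2

section Sz

open LieRecognition.SzMatrix

variable {F : Type*} [Field F] {θ : F →+* F} {e : ℕ}

theorem good_sq_eq_one (H : Good F θ e) {g : ↥(Cfsg.Lie.Sz F e)} (hg : g ∈ H.borel)
    (h : g ^ 2 = 1) : ∃ b, g = H.u 0 b := by
  obtain ⟨a, b, k, rfl⟩ := (H.mem_borel_iff' g).1 hg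
  have h1 : H.u a b * H.d k * (H.u a b * H.d k) =
      H.u (a + a * k ^ 2 * (θ k)⁻¹) (b + b * θ k + a * θ (a * k ^ 2 * (θ k)⁻¹)) * H.d (k * k) := by
    calc H.u a b * H.d k * (H.u a b * H.d k) = H.u a b * (H.d k * H.u a b) * H.d k := by group
      _ = H.u a b * H.u (a * k ^ 2 * (θ k)⁻¹) (b * θ k) * (H.d k * H.d k) := by
        rw [H.d_mul_u]; group
      _ = _ := by rw [H.u_mul, H.d_mul]
  rw [sq, h1] at h
  have h2 : H.u (a + a * k ^ 2 * (θ k)⁻¹) (b + b * θ k + a * θ (a * k ^ 2 * (θ k)⁻¹)) *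
      H.d (k * k) = H.u 0 0 * H.d 1 := by rw [h, H.u_zero, H.d_one, one_mul]
  obtain ⟨h3, h4, h5⟩ := H.u_mul_d_inj h2
  have hk : k = 1 := by
    apply Units.ext
    have h6 : (k : F) * k = 1 := by
      have := congrArg Units.val h5
      simpa using this
    have h7 : ((k : F) - 1) ^ 2 = 0 := by
      have h2 := H.two
      linear_combination h6 - ((k : F) - 1) * h2
    have h8 := pow_eq_zero_iff (two_ne_zero) |>.1 h7
    simpa using sub_eq_zero.1 h8
  subst hk
  have h6 : a * θ a = 0 := by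
    have h9 : b + b = 0 := H.add_self b
    simpa [h9] using h4
  have ha : a = 0 := by
    rcases mul_eq_zero.1 h6 with h7 | h7
    · exact h7
    · exact (map_eq_zero θ).1 h7
  subst ha
  exact ⟨b, by rw [H.d_one, mul_one]⟩

theorem borelUniq_Sz {F : Type*} [Field F] [Fintype F] {m : ℕ}
    (hF : Fintype.card F = 2 ^ (2 * m + 1)) :
    BorelUniq 2 ↥(Cfsg.Lie.Sz F (2 ^ (m + 1))) (Fintype.card F) := by
  have hfin : Finite ↥(Cfsg.Lie.Sz F (2 ^ (m + 1))) := inferInstance
  have h2p : Fact (Nat.Prime 2) := ⟨Nat.prime_two⟩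
  set H := good hF with hH
  have hcu : Nat.card H.unip = (2 ^ (2 * m + 1)) ^ 2 := by
    rw [H.card_unip, Nat.card_eq_fintype_card, hF]
  have hpg : IsPGroup 2 H.unip := by
    apply IsPGroup.of_card (n := (2 * m + 1) * 2)
    rw [hcu, ← pow_mul]
  have hidxS : ¬ 2 ∣ H.unip.index := by
    have h1 := Subgroup.card_mul_index H.unip
    rw [H438.SzMax.card_sz hF, hcu, mul_assoc] at h1
    have h2 := Nat.eq_of_mul_eq_mul_left (by positivity) h1
    rw [h2]
    intro h
    have h0 : 2 ∣ 2 ^ (2 * m + 1) := dvd_pow_self 2 (by omega)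
    have h1' : 1 ≤ 2 ^ (2 * m + 1) := Nat.one_le_two_pow
    rcases (Nat.Prime.dvd_mul Nat.prime_two).mp h with h | h
    · omega
    · have h2 : 2 ∣ (2 ^ (2 * m + 1)) ^ 2 := dvd_pow h0 (by omega)
      omega
  set T : Sylow 2 ↥(Cfsg.Lie.Sz F (2 ^ (m + 1))) := hpg.toSylow hidxS with hT
  have hTU : (T : Subgroup _) = H.unip := rfl
  intro Y V hY hYc hV hV1 hVY hYV
  obtain ⟨a, ha⟩ := exists_cj_le_sylow T (ea_isPGroup' hY)
  rw [hTU] at ha
  rw [← cj_inj (g := a)]
  set Y' := cj a Y with hY'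
  set V' := cj a V with hV'
  have hY'e : IsElementaryAbelian 2 Y' := ea_of_map' hY _
  have hV'e : IsElementaryAbelian 2 V' := ea_of_map' hV _
  have h1 : V' ≤ normalizer (Y' : Set ↥(Cfsg.Lie.Sz F (2 ^ (m + 1)))) := by
    rw [← cj_normalizer]; exact cj_mono _ hVY
  have h2 : normalizer (Y' : Set ↥(Cfsg.Lie.Sz F (2 ^ (m + 1)))) ≤ normalizer (V' : Set ↥(Cfsg.Lie.Sz F (2 ^ (m + 1)))) := by
    rw [← cj_normalizer, ← cj_normalizer]; exact cj_mono _ hYV
  have hV'1 : V' ≠ ⊥ := by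
    intro h
    apply hV1
    rw [← cj_inv_cj a V, ← hV', h]
    exact Subgroup.map_bot _
  -- `Y'` is `{u 0 b}`
  let z : Multiplicative F →* ↥(Cfsg.Lie.Sz F (2 ^ (m + 1))) :=
    { toFun := fun b => H.u 0 b.toAdd
      map_one' := H.u_zero
      map_mul' := by
        intro b c
        rw [H.u_mul]
        simp }
  have hz : ∀ g : ↥(Cfsg.Lie.Sz F (2 ^ (m + 1))), g ∈ z.range ↔ ∃ b, g = H.u 0 b := by
    intro g
    constructor
    · rintro ⟨b, rfl⟩; exact ⟨b.toAdd, rfl⟩
    · rintro ⟨b, rfl⟩; exact ⟨Multiplicative.ofAdd b, rfl⟩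
  have hzinj : Function.Injective z := by
    intro b c hbc
    exact (H.u_inj hbc).2
  have hzc : Nat.card z.range = Fintype.card F := by
    rw [← Nat.card_congr (MonoidHom.ofInjective hzinj).toEquiv, Nat.card_eq_fintype_card]
    exact Fintype.card_congr Multiplicative.toAdd
  have hY'c : Nat.card Y' = Fintype.card F := by
    rw [← hYc]
    exact Subgroup.card_map_of_injective (MulAut.conj a).injective
  have hY'z : Y' = z.range := by
    refine Subgroup.eq_of_le_of_card_ge ?_ (by rw [hzc, hY'c])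
    intro y hy
    rw [hz]
    exact good_sq_eq_one H (H.unip_le_borel (ha hy)) (hY'e.2 y hy)
  have hdz : ∀ (k : Fˣ) (b : F), H.d k * H.u 0 b * (H.d k)⁻¹ = H.u 0 (b * theta hF k) := by
    intro k b
    rw [H.d_mul_u, mul_assoc, mul_inv_cancel, mul_one]
    simp
  -- `N(Y') = B`
  have hBN : H.borel ≤ normalizer (Y' : Set ↥(Cfsg.Lie.Sz F (2 ^ (m + 1)))) := by
    have key : ∀ g ∈ H.borel, cj g Y' ≤ Y' := by
      intro g hg
      rintro _ ⟨y, hy, rfl⟩
      rw [hY'z, hz]
      refine good_sq_eq_one H ?_ ?_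
      · exact mul_mem (mul_mem hg (H.unip_le_borel (ha hy))) (inv_mem hg)
      · rw [← map_pow, hY'e.2 y hy, map_one]
    intro g hg
    rw [← cj_eq_self_iff]
    apply le_antisymm (key g hg)
    rw [← cj_le_cj_iff (g := g⁻¹), cj_inv_cj]
    exact key g⁻¹ (inv_mem hg)
  have hNB : normalizer (Y' : Set ↥(Cfsg.Lie.Sz F (2 ^ (m + 1)))) = H.borel := by
    have hco := H438.SzMax.isCoatom_borel hF
    rcases eq_or_lt_of_le hBN with h | h
    · exact h.symm
    · exfalso
      have htop := hco.2 _ h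
      have hw : H.w ∈ normalizer (Y' : Set ↥(Cfsg.Lie.Sz F (2 ^ (m + 1)))) := by rw [htop]; trivial
      have h3 : H.u 0 1 ∈ Y' := by rw [hY'z, hz]; exact ⟨1, rfl⟩
      have h4 : (H.w)⁻¹ * H.u 0 1 * H.w ∈ Y' := by
        have := (mem_normalizer_iff.1 (inv_mem hw) (H.u 0 1)).1 h3
        simpa using this
      have h5 := H.inter_trivial _ (ha h3) (H.unip_le_borel (ha h4))
      have h6 : H.u 0 1 = H.u 0 0 := by rw [h5, H.u_zero]
      exact one_ne_zero (H.u_inj h6).2
  have hV'z : V' ≤ z.range := by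
    intro v hv
    rw [hz]
    exact good_sq_eq_one H (hNB ▸ h1 hv) (hV'e.2 v hv)
  rw [hY'z]
  apply le_antisymm hV'z
  obtain ⟨⟨v, hv⟩, hv0⟩ := Subgroup.ne_bot_iff_exists_ne_one.1 hV'1
  have hv1 : v ≠ 1 := fun h => hv0 (Subtype.ext h)
  obtain ⟨b, rfl⟩ := (hz v).1 (hV'z hv)
  have hb : b ≠ 0 := fun h => hv1 (by rw [h, H.u_zero])
  have hsurj : Function.Surjective (theta hF) :=
    Finite.injective_iff_surjective.1 (theta hF).injective
  rintro g hg
  obtain ⟨c, rfl⟩ := (hz g).1 hg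
  by_cases hc : c = 0
  · rw [hc, H.u_zero]; exact one_mem _
  · obtain ⟨k, hk⟩ := hsurj (c / b)
    have hk0 : k ≠ 0 := by
      rintro rfl
      rw [map_zero] at hk
      exact div_ne_zero hc hb hk.symm
    have h3 : H.d (Units.mk0 k hk0) ∈ normalizer ((V' : Subgroup _) : Set ↥(Cfsg.Lie.Sz F (2 ^ (m + 1)))) :=
      h2 (hBN (H.d_mem_borel _))
    have h4 := (mem_normalizer_iff.1 h3 (H.u 0 b)).1 hv
    rw [hdz, Units.val_mk0, hk, mul_div_cancel₀ _ hb] at h4
    exact h4

end Sz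

end Cfsg.Agent.H231
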