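import Cfsg.Agent.H231.BorelUniq
import Mathlib.GroupTheory.SpecificGroups.Dihedral

/-!
# The normalizer of `Y` in `L ∈ 𝔏_G(Y)`
-/

set_option autoImplicit false
set_option linter.unusedSectionVars false

namespace Cfsg.Agent.H231

open Subgroup Cfsg H227.Weak H230
open scoped commutatorElement

/-- groups of order `2 r` -/
theorem dihedral_uniq {X : Type*} [Group X] [Finite X] {r : ℕ} (hr : r.Prime) (hr2 : r ≠ 2)
    (hX : Nat.card X = 2 * r) {Y V : Subgroup X} (hY : IsPGroup 2 Y) (hY1 : Y ≠ ⊥)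
    (hYn : ¬ Y.Normal) (hV1 : V ≠ ⊥) (hVY : V ≤ normalizer (Y : Set X)) : V = Y := by
  have h2 : Fact (Nat.Prime 2) := ⟨Nat.prime_two⟩
  -- `|Y| = 2`
  have hYc : Nat.card Y = 2 := by
    obtain ⟨k, hk⟩ := IsPGroup.iff_card.1 hY
    have h1 : Nat.card Y ∣ 2 * r := hX ▸ Subgroup.card_subgroup_dvd_card Y
    have hk0 : k ≠ 0 := by
      rintro rfl
      rw [pow_zero, Subgroup.card_eq_one] at hk
      exact hY1 hk
    have hk1 : k < 2 := by
      by_contra h
      have h3 : 2 ^ 2 ∣ 2 * r := (pow_dvd_pow 2 (by omega)).trans (hk ▸ h1)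
      have h4 : 2 ∣ r := by
        have : 2 * 2 ∣ 2 * r := by simpa [sq] using h3
        exact Nat.dvd_of_mul_dvd_mul_left (by norm_num) this
      exact hr2 ((Nat.prime_dvd_prime_iff_eq Nat.prime_two hr).1 h4).symm
    have : k = 1 := by omega
    rw [hk, this, pow_one]
  have hNY : normalizer (Y : Set X) = Y := by
    obtain ⟨a, ha⟩ : 2 ∣ Nat.card ↥(normalizer (Y : Set X)) := by
      rw [← hYc]; exact Subgroup.card_dvd_of_le le_normalizer
    have h1 : Nat.card ↥(normalizer (Y : Set X)) ∣ 2 * r :=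
      hX ▸ Subgroup.card_subgroup_dvd_card _
    rw [ha] at h1
    have h3 : a ∣ r := Nat.dvd_of_mul_dvd_mul_left (by norm_num) h1
    rcases (Nat.dvd_prime hr).1 h3 with h4 | h4
    · symm
      apply Subgroup.eq_of_le_of_card_ge le_normalizer
      rw [ha, hYc, h4]
    · exfalso
      have h5 : normalizer (Y : Set X) = ⊤ := by
        apply Subgroup.eq_top_of_card_eq
        rw [ha, h4, hX]
      exact hYn (Subgroup.normalizer_eq_top_iff.1 h5)
  rw [hNY] at hVY
  apply Subgroup.eq_of_le_of_card_ge hVY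
  rw [hYc]
  by_contra h
  have h6 : 0 < Nat.card V := Nat.card_pos
  have h7 : Nat.card V = 1 := by omega
  exact hV1 (Subgroup.card_eq_one.1 h7)

section main

variable {G : Type*} [Group G] [Finite G] {p : ℕ} [Fact p.Prime]

theorem relIndex_eq_card_map {Y L : Subgroup G} (hYL : Y ≤ L) :
    Nat.card ((Y.subgroupOf L).map (QuotientGroup.mk' (pCore p ↥L))) =
      (Y ⊓ pCoreOf p L).relIndex Y := by
  rw [← Subgroup.relIndex_ker, QuotientGroup.ker_mk',
    ← Subgroup.relIndex_map_map_of_injective _ _ L.subtype_injective,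
    Subgroup.map_subgroupOf_eq_of_le hYL]
  rw [inf_comm, Subgroup.inf_relIndex_right]
  rfl

theorem frakL_main {Y L NL : Subgroup G} (hYe : IsElementaryAbelian p Y) (hYL : Y ≤ L)
    (hA : pCoreOf p L ≤ normalizer (Y : Set G)) (hmin : IsMinimalOver (Y.subgroupOf L))
    (hmax : L ⊓ normalizer (Y : Set G) < L ∧ ∀ X : Subgroup G, Y ≤ X → X < L →
      X ≤ L ⊓ normalizer (Y : Set G))
    (hiso : (∃ (F : Type) (_ : Field F) (_ : Fintype F),
        Fintype.card F = (Y ⊓ pCoreOf p L).relIndex Y ∧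
          Nonempty (↥L ⧸ pCore p ↥L ≃* Matrix.SpecialLinearGroup (Fin 2) F)) ∨
      (p = 2 ∧ ∃ (F : Type) (_ : Field F) (_ : Fintype F) (m : ℕ),
        Fintype.card F = 2 ^ (2 * m + 1) ∧
          Fintype.card F = (Y ⊓ pCoreOf p L).relIndex Y ∧
            Nonempty (↥L ⧸ pCore p ↥L ≃* ↥(Lie.Sz F (2 ^ (m + 1))))) ∨
      (p = 2 ∧ ∃ r : ℕ, r.Prime ∧ r ≠ 2 ∧ Nonempty (↥L ⧸ pCore p ↥L ≃* DihedralGroup r)))
    (hNL : NL = L ⊓ normalizer (Y : Set G)) [hn : ((pCoreOf p L).subgroupOf NL).Normal] :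
    ((Y.subgroupOf NL).map (QuotientGroup.mk' ((pCoreOf p L).subgroupOf NL))) ≠ ⊥ ∧
      ((Y.subgroupOf NL).map (QuotientGroup.mk' ((pCoreOf p L).subgroupOf NL))).Normal ∧
      IsElementaryAbelian p
        ((Y.subgroupOf NL).map (QuotientGroup.mk' ((pCoreOf p L).subgroupOf NL))) ∧
      ∀ (V : Subgroup (↥NL ⧸ (pCoreOf p L).subgroupOf NL)), V.Normal → IsElementaryAbelian p V →
        V ≠ ⊥ → V = ((Y.subgroupOf NL).map (QuotientGroup.mk' ((pCoreOf p L).subgroupOf NL))) := by
  set A := pCoreOf p L with hAdef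
  have hAL : A ≤ L := H227.Weak.pCoreOf_le p L
  have hAp : IsPGroup p A := isPGroup_pCoreOf L
  have hLA : L ≤ normalizer (A : Set G) :=
    le_normalizer.trans (H227.Weak.normalizer_le_normalizer_pCoreOf p L)
  have hYp := ea_isPGroup' hYe
  have hNLL : NL ≤ L := hNL ▸ inf_le_left
  have hNLY : NL ≤ normalizer (Y : Set G) := hNL ▸ inf_le_right
  have hYNL : Y ≤ NL := hNL ▸ le_inf hYL le_normalizer
  have hANL : A ≤ NL := hNL ▸ le_inf hAL hA
  -- `Y ≰ A`
  have hYA : ¬ Y ≤ A := by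
    intro h
    have h1 : Y.subgroupOf L ≤ pCore p ↥L := by
      rw [← Subgroup.map_le_map_iff_of_injective (f := L.subtype) L.subtype_injective,
        Subgroup.map_subgroupOf_eq_of_le hYL]
      exact h
    have h2 : (⊤ : Subgroup ↥L) ≤ pCore p ↥L := by
      rw [← hmin.1]
      exact Subgroup.normalClosure_le_normal h1
    have h3 : L ≤ A := by
      have h4 := Subgroup.map_mono (f := L.subtype) h2
      rwa [← MonoidHom.range_eq_map, Subgroup.range_subtype] at h4
    exact absurd (le_inf le_rfl (h3.trans hA)) hmax.1.not_ge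
  -- `Y A` is not normal in `L`
  have hYAn : ¬ L ≤ normalizer ((Y ⊔ A : Subgroup G) : Set G) := by
    intro h
    refine hYA (le_sup_left.trans (le_pCoreOf ?_ (sup_le hYL hAL) h))
    exact isPGroup_sup_of_le_normalizer hYp hAp hA
  have hNYA : L ⊓ normalizer ((Y ⊔ A : Subgroup G) : Set G) = NL := by
    apply le_antisymm
    · rw [hNL]
      apply hmax.2
      · exact le_inf hYL (le_sup_left.trans le_normalizer)
      · refine lt_of_le_of_ne inf_le_left fun h => hYAn ?_
        rw [← h]; exact inf_le_right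
    · exact le_inf hNLL (le_normalizer_sup hNLY (hNLL.trans hLA))
  -- the quotient
  set π := QuotientGroup.mk' (pCore p ↥L) with hπ
  set YX := (Y.subgroupOf L).map π with hYX
  have hYXc : Nat.card YX = (Y ⊓ A).relIndex Y := relIndex_eq_card_map hYL
  have hmemYX : ∀ x : ↥L, π x ∈ YX ↔ (x : G) ∈ Y ⊔ A := by
    intro x
    have h1 : π x ∈ YX ↔ x ∈ Y.subgroupOf L ⊔ pCore p ↥L := by
      rw [hYX, ← Subgroup.mem_comap, Subgroup.comap_map_eq, QuotientGroup.ker_mk']
    rw [h1, ← Subgroup.map_subgroupOf_eq_of_le (sup_le hYL hAL), subgroupOf_sup hYL hAL]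
    have h2 : A.subgroupOf L = pCore p ↥L := by
      apply Subgroup.map_injective L.subtype_injective
      rw [Subgroup.map_subgroupOf_eq_of_le hAL]; rfl
    rw [h2]
    constructor
    · intro h; exact ⟨x, h, rfl⟩
    · rintro ⟨y, hy, hyx⟩
      rwa [← Subtype.ext hyx]
  have hYX1 : YX ≠ ⊥ := by
    intro h
    apply hYA
    intro y hy
    have h1 : π ⟨y, hYL hy⟩ ∈ YX := ⟨⟨y, hYL hy⟩, hy, rfl⟩
    rw [h, Subgroup.mem_bot, ← MonoidHom.mem_ker, QuotientGroup.ker_mk'] at h1
    exact ⟨_, h1, rfl⟩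
  have hYXe : IsElementaryAbelian p YX := by
    refine ea_of_map' ?_ _
    refine ⟨⟨⟨fun a b => ?_⟩⟩, fun a ha => ?_⟩
    · have := congrArg Subtype.val (hYe.1.is_comm.comm (⟨a.1, a.2⟩ : ↥Y) ⟨b.1, b.2⟩)
      exact Subtype.ext (Subtype.ext this)
    · exact Subtype.ext (hYe.2 a ha)
  have hYXn : ¬ YX.Normal := by
    intro h
    apply hYAn
    intro l hl
    rw [mem_normalizer_iff]
    have key : ∀ l ∈ L, ∀ x ∈ Y ⊔ A, l * x * l⁻¹ ∈ Y ⊔ A := by
      intro l hl x hx
      have hxL : x ∈ L := (sup_le hYL hAL) hx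
      have h1 := h.conj_mem _ ((hmemYX ⟨x, hxL⟩).2 hx) (π ⟨l, hl⟩)
      rw [← map_inv, ← map_mul, ← map_mul, hmemYX] at h1
      exact h1
    intro x
    refine ⟨key l hl x, fun hx => ?_⟩
    have := key l⁻¹ (inv_mem hl) _ hx
    simpa [mul_assoc] using this
  -- the map on `NL`
  let f : ↥NL →* ↥L ⧸ pCore p ↥L := π.comp (Subgroup.inclusion hNLL)
  have hker : f.ker = A.subgroupOf NL := by
    ext x
    rw [MonoidHom.mem_ker]
    show π (Subgroup.inclusion hNLL x) = 1 ↔ _
    rw [← MonoidHom.mem_ker, QuotientGroup.ker_mk', mem_subgroupOf]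
    constructor
    · intro h; exact ⟨_, h, rfl⟩
    · rintro ⟨y, hy, hyx⟩
      have : y = Subgroup.inclusion hNLL x := Subtype.ext hyx
      rwa [← this]
  have hrange : f.range = normalizer (YX : Set (↥L ⧸ pCore p ↥L)) := by
    ext x
    obtain ⟨l, rfl⟩ := QuotientGroup.mk'_surjective (pCore p ↥L) x
    constructor
    · rintro ⟨n, hn⟩
      rw [← hn]
      have h1 : (n : G) ∈ normalizer ((Y ⊔ A : Subgroup G) : Set G) := by
        have := hNYA.ge n.2
        exact this.2
      rw [mem_normalizer_iff]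
      intro y
      obtain ⟨y, rfl⟩ := QuotientGroup.mk'_surjective (pCore p ↥L) y
      show π y ∈ YX ↔ π (Subgroup.inclusion hNLL n) * π y * (π (Subgroup.inclusion hNLL n))⁻¹ ∈ YX
      rw [← map_inv, ← map_mul, ← map_mul, hmemYX, hmemYX]
      exact mem_normalizer_iff.1 h1 y
    · intro h
      have h1 : (l : G) ∈ NL := by
        rw [← hNYA]
        refine ⟨l.2, ?_⟩
        rw [mem_normalizer_iff] at h
        have key : ∀ x : G, x ∈ Y ⊔ A ↔ (l : G) * x * (l : G)⁻¹ ∈ Y ⊔ A := by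
          intro x
          constructor
          · intro hx
            have hxL : x ∈ L := (sup_le hYL hAL) hx
            have h2 := (h (π ⟨x, hxL⟩)).1 ((hmemYX _).2 hx)
            rw [← hπ, ← map_inv, ← map_mul, ← map_mul, hmemYX] at h2
            exact h2
          · intro hx
            have hxL' : (l : G) * x * (l : G)⁻¹ ∈ L := (sup_le hYL hAL) hx
            have hxL : x ∈ L := by
              have := mul_mem (mul_mem (inv_mem l.2) hxL') l.2
              simpa [mul_assoc] using this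
            have h2 := (h (π ⟨x, hxL⟩)).2 (by
              rw [← hπ, ← map_inv, ← map_mul, ← map_mul, hmemYX]
              exact hx)
            exact (hmemYX _).1 h2
        exact mem_normalizer_iff.2 key
      exact ⟨⟨l, h1⟩, rfl⟩
  let g : ↥NL ⧸ A.subgroupOf NL →* ↥L ⧸ pCore p ↥L :=
    QuotientGroup.lift (A.subgroupOf NL) f (fun x hx => by rw [← hker] at hx; exact hx)
  have hg : ∀ x, g (QuotientGroup.mk' _ x) = f x := fun x => rfl
  have hginj : Function.Injective g := by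
    rw [← MonoidHom.ker_eq_bot_iff, eq_bot_iff]
    intro x hx
    obtain ⟨x, rfl⟩ := QuotientGroup.mk'_surjective _ x
    rw [MonoidHom.mem_ker, hg, ← MonoidHom.mem_ker, hker] at hx
    rw [Subgroup.mem_bot]
    exact (QuotientGroup.eq_one_iff _).2 hx
  have hgrange : g.range = normalizer (YX : Set (↥L ⧸ pCore p ↥L)) := by
    rw [← hrange]
    ext x
    constructor
    · rintro ⟨y, rfl⟩
      obtain ⟨y, rfl⟩ := QuotientGroup.mk'_surjective _ y
      exact ⟨y, rfl⟩
    · rintro ⟨y, rfl⟩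
      exact ⟨QuotientGroup.mk' _ y, rfl⟩
  set Yb := (Y.subgroupOf NL).map (QuotientGroup.mk' (A.subgroupOf NL)) with hYb
  have hYbg : Yb.map g = YX := by
    rw [hYb, Subgroup.map_map]
    ext x
    constructor
    · rintro ⟨y, hy, rfl⟩
      exact ⟨Subgroup.inclusion hNLL y, hy, rfl⟩
    · rintro ⟨y, hy, rfl⟩
      exact ⟨⟨y, hYNL hy⟩, hy, rfl⟩
  refine ⟨?_, ?_, ?_, ?_⟩
  · intro h
    apply hYX1
    rw [← hYbg, h, Subgroup.map_bot]
  · have h1 : (Y.subgroupOf NL).Normal := (normal_subgroupOf_iff_le_normalizer hYNL).2 hNLY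
    exact h1.map _ (QuotientGroup.mk'_surjective _)
  · refine ea_of_map' ?_ _
    refine ⟨⟨⟨fun a b => ?_⟩⟩, fun a ha => ?_⟩
    · have := congrArg Subtype.val (hYe.1.is_comm.comm (⟨a.1, a.2⟩ : ↥Y) ⟨b.1, b.2⟩)
      exact Subtype.ext (Subtype.ext this)
    · exact Subtype.ext (hYe.2 a ha)
  · intro V hVn hVe hV1
    apply Subgroup.map_injective hginj
    rw [hYbg]
    have hVg1 : V.map g ≠ ⊥ := fun h => hV1 ((Subgroup.map_eq_bot_iff_of_injective _ hginj).1 h)
    have hVge : IsElementaryAbelian p (V.map g) := ea_of_map' hVe g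
    have hVle : V.map g ≤ normalizer (YX : Set (↥L ⧸ pCore p ↥L)) := by
      rw [← hgrange]; exact Subgroup.map_le_range g V
    have hVn' : normalizer (YX : Set (↥L ⧸ pCore p ↥L)) ≤
        normalizer ((V.map g : Subgroup _) : Set (↥L ⧸ pCore p ↥L)) := by
      rw [← hgrange]
      rintro _ ⟨x, rfl⟩
      have key : ∀ x, ∀ v ∈ V.map g, g x * v * (g x)⁻¹ ∈ V.map g := by
        rintro x _ ⟨v, hv, rfl⟩
        exact ⟨x * v * x⁻¹, hVn.conj_mem v hv x, by simp⟩
      rw [mem_normalizer_iff]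
      intro v
      refine ⟨key x v, fun h => ?_⟩
      have := key x⁻¹ _ h
      simpa [mul_assoc] using this
    rcases hiso with ⟨F, hF1, hF2, hFc, ⟨e⟩⟩ | ⟨hp2, F, hF1, hF2, m, hFm, hFc, ⟨e⟩⟩ |
        ⟨hp2, r, hr, hr2, ⟨e⟩⟩
    · -- `SL₂(q)`
      have hcard : Nat.card YX = Nat.card F := by rw [hYXc, ← hFc, Nat.card_eq_fintype_card]
      have hchar : CharP F p := by
        obtain ⟨k, hk⟩ := IsPGroup.iff_card.1 (ea_isPGroup' hYXe)
        have hk0 : k ≠ 0 := by
          rintro rfl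
          rw [pow_zero, hcard] at hk
          exact absurd hk (Finite.one_lt_card (α := F)).ne'
        obtain ⟨q, hq⟩ := CharP.exists F
        have hqp : q.Prime := CharP.char_is_prime F q
        obtain ⟨n, hn1, hn2⟩ := FiniteField.card F q
        have h3 : (q : ℕ) ∣ p ^ k := by
          rw [← hk, hcard, Nat.card_eq_fintype_card, hn2]
          exact dvd_pow_self q n.ne_zero
        have h4 : q = p := (Nat.prime_dvd_prime_iff_eq hqp Fact.out).1 (hqp.dvd_of_dvd_pow h3)
        rwa [h4] at hq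
      exact (borelUniq_SL2 (F := F) (p := p)).congr e YX (V.map g) hYXe hcard hVge hVg1 hVle hVn'
    · subst hp2
      have hcard : Nat.card YX = Fintype.card F := by rw [hYXc, ← hFc]
      exact (borelUniq_Sz (F := F) hFm).congr e YX (V.map g) hYXe hcard hVge hVg1 hVle hVn'
    · subst hp2
      have hcard : Nat.card (↥L ⧸ pCore 2 ↥L) = 2 * r := by
        rw [Nat.card_congr e.toEquiv, DihedralGroup.nat_card]
      exact dihedral_uniq hr hr2 hcard (ea_isPGroup' hYXe) hYX1 hYXn hVg1 hVle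

end main

end Cfsg.Agent.H231
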