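import Cfsg.Agent.H231.FxThree
import Cfsg.Agent.H75.SpecE
import Cfsg.Agent.Lib.Zsigmondy

/-!
# Covers of `PSp_{2n}(q)` and `PΩ^±_{2n}(q)`, `q` even, by 2-groups (helper231)

`V ≠ 0` an elementary abelian 2-group, `φ : L →* AddMonoid.End V`. There are `x : L`, `v : V` with
`∑ i < |x|, φ (x ^ i) v ≠ 0` and `2 |x| ∉ ω(L)`:

* **`cov_two_PSp`** : `L = PSp_{2n}(q)`, `n ≥ 2`, `(n, q) ≠ (2, 2)`;
* **`cov_two_POmega`** : `L = PΩ(Q)`, `dim Q = 2n`, `n ≥ 4`, containing `Sp_{2n-2}(q)`.
-/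

set_option autoImplicit false
set_option linter.unusedSectionVars false
set_option linter.style.haveILetI false

namespace Cfsg.Agent.H231.Fx

open CoxeterSystem Cfsg.Agent.ChevalleyStructure.CoxeterGeom Cfsg.Agent.Tits.Roots Cfsg.Agent.Nodes.TypeC
open Cfsg.Agent.Nodes.Comb Cfsg.Agent.Nodes.Reps Cfsg.Agent.Nodes.WittRoot Cfsg.Agent.Nodes.BNOf
open Cfsg.Agent.Nodes.WittRGD Cfsg.Agent.Nodes.RGDLib Cfsg.Agent.Nodes.WittAll Cfsg.Agent.Nodes
  Cfsg.Agent.Nodes.StabComb
open Cfsg.Agent.TitsThree Cfsg.Agent.TitsThree.Siegel Cfsg.Agent.TitsThree.WittFrame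
  Cfsg.Agent.TitsThree.WittWeyl Cfsg.Agent.TitsThree.FrameCN
open SpIdent SpGen Cfsg Cfsg.Agent.ClassicalGeometry.SympBasic Cfsg.Agent.ClassicalGeometry.SympInvolutions
open Cfsg.Agent.AGraded Cfsg.Agent.H62 Cfsg.Agent.H72.AdjOrth Finset

universe u

/-- an element of order `N` with a nonzero norm -/
def Sm {Y V : Type*} [Group Y] [AddCommGroup V] (φ : Y →* AddMonoid.End V) (N : ℕ) : Prop :=
  ∃ (x : Y) (v : V), orderOf x = N ∧ ∑ i ∈ range (orderOf x), φ (x ^ i) v ≠ 0

theorem Sm.of_hom {Y L V : Type*} [Group Y] [Group L] [AddCommGroup V] {f : Y →* L} (hf : Function.Injective f)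
    {φ : L →* AddMonoid.End V} {N : ℕ} (h : Sm (φ.comp f) N) : Sm φ N := by
  obtain ⟨x, v, hx, hv⟩ := h
  have e := orderOf_injective f hf x
  refine ⟨f x, v, by rw [e, hx], ?_⟩
  rw [e]
  intro h0
  apply hv
  rw [← h0]
  refine sum_congr rfl fun i _ => ?_
  rw [MonoidHom.comp_apply, map_pow]

/-- a fixed vector of an element of odd order -/
theorem Sm.of_fixed {Y V : Type*} [Group Y] [AddCommGroup V] {p : ℕ} (hp : p.Prime) (hV : ∀ v : V, p • v = 0)
    {φ : Y →* AddMonoid.End V} {x : Y} {v : V} (hv : v ≠ 0) (hx : φ x v = v) (hpx : ¬ p ∣ orderOf x) :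
    Sm φ (orderOf x) := by
  refine ⟨x, v, rfl, ?_⟩
  have h1 : ∀ i : ℕ, φ (x ^ i) v = v := by
    intro i
    induction i with
    | zero => rw [pow_zero, map_one]; rfl
    | succ i ih =>
      rw [pow_succ, map_mul]
      change φ (x ^ i) (φ x v) = v
      rw [hx, ih]
  rw [sum_congr rfl fun i _ => h1 i, sum_const, card_range]
  intro h2
  have h3 : IsCoprime (orderOf x : ℤ) (p : ℤ) := by
    rw [Nat.isCoprime_iff_coprime]
    exact ((hp.coprime_iff_not_dvd).2 hpx).symm
  obtain ⟨a, b, hab⟩ := h3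
  apply hv
  have h4 : (a * (orderOf x : ℤ) + b * (p : ℤ)) • v = 0 := by
    rw [add_smul, mul_smul, mul_smul, natCast_zsmul, natCast_zsmul, h2, hV, smul_zero, smul_zero, add_zero]
  rwa [hab, one_smul] at h4

section general

variable {I W Y : Type*} [Fintype I] [DecidableEq I] [Group W] [Group Y] {M : CoxeterMatrix I}
  {cs : CoxeterSystem M W} {A : I → I → ℤ} {h : IsCartan M A} {p : ℕ} {T : Subgroup Y} {n : I → Y}
  {X : (I → ℤ) → Subgroup Y} (R : RGD cs h p T n X) [Finite Y] [Finite W] [Fact p.Prime]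

theorem sm_aux (hgen : RGD.Sup X {x | IsRoot cs h x} = ⊤) (hY : commutator Y = ⊤) {V : Type*} [AddCommGroup V]
    [Finite V] [Module (ZMod p) V] (φ : Y →* AddMonoid.End V) {g₀ : Y} {v₀ : V} (hne : φ g₀ v₀ ≠ v₀) :
    ∃ J : Set I, J ≠ Set.univ ∧ ∀ t y : Y, Good R J t y → (orderOf t).Coprime (orderOf y) →
      Sm φ (orderOf t * orderOf y) := by
  let ρ : Y →* Module.End (ZMod p) V :=
    { toFun := fun g => AddMonoidHom.toZModLinearMap p (φ g)
      map_one' := LinearMap.ext fun v => by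
        change φ 1 v = v
        rw [map_one]
        rfl
      map_mul' := fun a b => LinearMap.ext fun v => by
        change φ (a * b) v = φ a (φ b v)
        rw [map_mul]
        rfl }
  haveI : Module.Finite (ZMod p) V := Module.Finite.of_finite
  obtain ⟨J, hJ, hJ2⟩ := rep_case (k := ZMod p) R hgen hY _ ρ (g₀ := g₀) (v₀ := v₀) hne rfl
  refine ⟨J, hJ, fun t y hg hco => ?_⟩
  obtain ⟨v, hv⟩ := hJ2 t y hg
  have e : orderOf (t * y) = orderOf t * orderOf y := hg.1.orderOf_mul_eq_mul_orderOf_of_coprime hco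
  refine ⟨t * y, v, e, ?_⟩
  rw [e]
  exact hv

/-- **The reduction to good pairs.** -/
theorem sm_red (hgen : RGD.Sup X {x | IsRoot cs h x} = ⊤) (hY : commutator Y = ⊤) {V : Type*} [AddCommGroup V]
    [Finite V] [Nontrivial V] (hV : ∀ v : V, p • v = 0) (φ : Y →* AddMonoid.End V) :
    (∃ J : Set I, J ≠ Set.univ ∧ ∀ t y : Y, Good R J t y → (orderOf t).Coprime (orderOf y) →
      Sm φ (orderOf t * orderOf y)) ∨ ∀ x : Y, ¬ p ∣ orderOf x → Sm φ (orderOf x) := by
  letI : Module (ZMod p) V := AddCommGroup.zmodModule hV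
  by_cases h1 : ∃ g v, φ g v ≠ v
  · obtain ⟨g, v, hgv⟩ := h1
    exact Or.inl (sm_aux R hgen hY φ hgv)
  · push Not at h1
    obtain ⟨v, hv⟩ := exists_ne (0 : V)
    exact Or.inr fun x hx => Sm.of_fixed Fact.out hV hv (h1 x v) hx

end general

/-- the orders of the elements used for `Sp_{2n}(q)` -/
inductive Out (n q : ℕ) : ℕ → Prop
  | two (b : ℕ) (h : n ≤ 2 ^ b) : Out n q (2 ^ (b + 1))
  | one (r : ℕ) (hr : r.Prime) (hr2 : r ≠ 2) (h : n ≤ eta (ee q r)) : Out n q r
  | twice (r : ℕ) (hr : r.Prime) (hr2 : r ≠ 2) (h : n ≤ eta (ee q r) + 1) : Out n q (2 * r)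
  | four (r : ℕ) (hr : r.Prime) (hr2 : r ≠ 2) (h : n ≤ eta (ee q r) + 2) : Out n q (4 * r)

theorem eta_even (k : ℕ) : eta (2 * k) = k := by
  rw [eta, if_pos (even_two_mul k)]
  omega

theorem eta_odd {k : ℕ} (hk : Odd k) : eta k = k := by
  rw [eta, if_neg (Nat.not_even_iff_odd.2 hk)]

section sp

variable {F : Type*} [Field F] [CharP F 2] [Finite F]

/-- elements of prime order -/
theorem exists_elt {n k r : ℕ} (hk : 0 < k) (hkn : k ≤ n) (hr : r.Prime)
    (hord : ((Nat.card F : ℕ) : ZMod r) ^ (2 * k) = 1) : ∃ y : isos (form n F), orderOf y = r := by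
  have := Fintype.ofFinite F
  haveI : Fact r.Prime := ⟨hr⟩
  haveI := SpCross.finite_isos (m := n) (F := F)
  have h3 : r ∣ Nat.card (isos (form n F)) := by
    rw [Nat.card_congr (SpCross.isoSp n F).toEquiv, LieClassical.SympCount.card_symplecticGroup]
    refine dvd_trans ?_ (dvd_mul_left _ _)
    refine dvd_trans ?_ (Finset.dvd_prod_of_mem _ (Finset.mem_range.2 (by omega : k - 1 < n)))
    rw [Nat.card_eq_fintype_card] at hord
    have h4 : 2 * (k - 1 + 1) = 2 * k := by omega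
    rw [h4, ← (ZMod.natCast_eq_zero_iff _ r), Nat.cast_sub (Nat.one_le_pow _ _ Fintype.card_pos), Nat.cast_pow, hord,
      Nat.cast_one, sub_self]
  exact exists_prime_orderOf_dvd_card' r h3

/-- a primitive prime divisor -/
theorem exists_ppd {k : ℕ} (hk : 2 ≤ k) (h6 : k ≠ 6) :
    ∃ r : ℕ, r.Prime ∧ r ≠ 2 ∧ orderOf ((Nat.card F : ℕ) : ZMod r) = k := by
  have := Fintype.ofFinite F
  obtain ⟨a, -, ha⟩ := FiniteField.card F 2
  have h1 : 2 ≤ Nat.card F := Finite.one_lt_card
  obtain ⟨r, hr, hord⟩ := Cfsg.Agent.Lib.Zsigmondy.exists_prime_orderOf h1 hk (fun _ => by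
    rintro ⟨b, hb⟩
    rw [Nat.card_eq_fintype_card, ha] at hb
    have h2 : Even ((2 : ℕ) ^ (a : ℕ)) := (Nat.even_pow.2 ⟨even_two, a.pos.ne'⟩)
    rcases Nat.eq_zero_or_pos b with h3 | h3
    · rw [h3, pow_zero] at hb
      have := Nat.one_le_two_pow (n := (a : ℕ))
      omega
    · have h4 : Even ((2 : ℕ) ^ b) := (Nat.even_pow.2 ⟨even_two, h3.ne'⟩)
      rw [← hb] at h4
      have := Nat.even_add_one.1 h4
      exact this h2) (fun h => h6 h.2)
  exact ⟨r, hr, ne_two_of_ord (F := F) (by omega) hord, hord⟩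

/-- **The elements for `Sp_{2n}(q)`.** -/
theorem isos_sm {n : ℕ} (hn : 2 ≤ n) (hperf : commutator (isos (form n F)) = ⊤) {V : Type*} [AddCommGroup V]
    [Finite V] [Nontrivial V] (hV : ∀ v : V, 2 • v = 0) (φ : isos (form n F) →* AddMonoid.End V) :
    ∃ N, Out n (Nat.card F) N ∧ Sm φ N := by
  haveI : Finite (isos (form n F)) := SpCross.finite_isos
  haveI : Finite (CoxeterMatrix.B n).Group := finite_W (CoxeterMatrix.B n).toCoxeterSystem
  haveI : Fact (Nat.Prime 2) := ⟨Nat.prime_two⟩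
  rcases sm_red (spR n F 2) (WittModel.G1_eq_top (SpCross.model n F) (by omega) (csB n)) hperf hV φ with
    ⟨J, hJ, h3⟩ | h3
  · have h4 : ∀ t y : isos (form n F), Good (spR n F 2) J t y → (orderOf t).Coprime (orderOf y) →
        (fun N => Sm φ (N / 2)) (2 * (orderOf t * orderOf y)) := by
      intro t y h5 h6
      rw [Nat.mul_div_cancel_left _ two_pos]
      exact h3 t y h5 h6
    rcases (by omega : n = 2 ∨ n = 3 ∨ 4 ≤ n) with hn2 | hn3 | hn4
    · subst hn2
      obtain ⟨i, hi⟩ : ∃ i, i ∉ J := by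
        by_contra hcon
        push Not at hcon
        exact hJ (Set.eq_univ_of_forall hcon)
      obtain ⟨t, ht, hg⟩ := good_pow (F := F) (b := 1) two_pos rfl hi
      refine ⟨4, Out.two 1 le_rfl, ?_⟩
      have := h3 t 1 hg (by rw [orderOf_one]; exact Nat.coprime_one_right _)
      rwa [ht, orderOf_one] at this
    · subst hn3
      rcases sp_cases_three (F := F) hJ (fun N => Sm φ (N / 2)) h4 with h | h | h
      · exact ⟨8, Out.two 2 (by norm_num), h⟩
      · obtain ⟨r, hr, hr2, hord⟩ := exists_ppd (F := F) (k := 4) (by norm_num) (by norm_num)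
        refine ⟨2 * r, Out.twice r hr hr2 ?_, ?_⟩
        · rw [H72.AdjOrth.ee, hord]
          decide
        · have := h r hr hord
          have e : 4 * r / 2 = 2 * r := by omega
          change Sm φ (4 * r / 2) at this
          rwa [e] at this
      · obtain ⟨r, hr, hr2, hord⟩ := exists_ppd (F := F) (k := 3) (by norm_num) (by norm_num)
        refine ⟨r, Out.one r hr hr2 ?_, ?_⟩
        · rw [H72.AdjOrth.ee, hord]
          decide
        · have := h r hr hord
          have e : 2 * r / 2 = r := by omega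
          change Sm φ (2 * r / 2) at this
          rwa [e] at this
    · rcases sp_cases (F := F) hn4 hJ (fun N => Sm φ (N / 2)) h4 with h | h | h | h | h
      · obtain ⟨b, hb, h⟩ := h
        refine ⟨2 ^ (b + 1), Out.two b hb.le, ?_⟩
        have e : 4 * n / 2 = 2 ^ (b + 1) := by rw [pow_succ, ← hb]; omega
        change Sm φ (4 * n / 2) at h
        rwa [e] at h
      · obtain ⟨b, hb, hb2, h⟩ := h
        refine ⟨2 ^ (b + 1 + 1), Out.two (b + 1) hb2.le, ?_⟩
        have e : 8 * 2 ^ b / 2 = 2 ^ (b + 1 + 1) := by rw [pow_succ, pow_succ]; omega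
        change Sm φ (8 * 2 ^ b / 2) at h
        rwa [e] at h
      · -- `n = 4` is a power of two
        by_cases h5 : n = 4
        · subst h5
          have hi : ∃ i, i ∉ J := by
            by_contra hcon
            push Not at hcon
            exact hJ (Set.eq_univ_of_forall hcon)
          obtain ⟨i, hi⟩ := hi
          obtain ⟨t, ht, hg⟩ := good_pow (F := F) (n := 4) (b := 2) (by norm_num) rfl hi
          refine ⟨8, Out.two 2 le_rfl, ?_⟩
          have := h3 t 1 hg (by rw [orderOf_one]; exact Nat.coprime_one_right _)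
          rwa [ht, orderOf_one] at this
        · obtain ⟨r, hr, hr2, hord⟩ := exists_ppd (F := F) (k := 2 * (n - 1)) (by omega) (by omega)
          refine ⟨2 * r, Out.twice r hr hr2 ?_, ?_⟩
          · rw [H72.AdjOrth.ee, hord, eta_even]
            omega
          · have := h r hr hord
            have e : 4 * r / 2 = 2 * r := by omega
            change Sm φ (4 * r / 2) at this
            rwa [e] at this
      · obtain ⟨hev, h⟩ := h
        have hodd : Odd (n - 1) := by
          obtain ⟨c, hc⟩ := hev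
          exact ⟨c - 1, by omega⟩
        have h5 : n - 1 ≠ 6 := by
          intro h6
          rw [h6] at hodd
          exact absurd hodd (by decide)
        obtain ⟨r, hr, hr2, hord⟩ := exists_ppd (F := F) (k := n - 1) (by omega) h5
        refine ⟨2 * r, Out.twice r hr hr2 ?_, ?_⟩
        · rw [H72.AdjOrth.ee, hord, eta_odd hodd]
          omega
        · have := h r hr hord
          have e : 4 * r / 2 = 2 * r := by omega
          change Sm φ (4 * r / 2) at this
          rwa [e] at this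
      · obtain ⟨hodd', h⟩ := h
        have hodd : Odd (n - 2) := by
          obtain ⟨c, hc⟩ := hodd'
          exact ⟨c - 1, by omega⟩
        have h5 : n - 2 ≠ 6 := by
          intro h6
          rw [h6] at hodd
          exact absurd hodd (by decide)
        obtain ⟨r, hr, hr2, hord⟩ := exists_ppd (F := F) (k := n - 2) (by omega) h5
        refine ⟨4 * r, Out.four r hr hr2 ?_, ?_⟩
        · rw [H72.AdjOrth.ee, hord, eta_odd hodd]
          omega
        · have := h r hr hord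
          have e : 8 * r / 2 = 4 * r := by omega
          change Sm φ (8 * r / 2) at this
          rwa [e] at this
  · have key : ∀ k : ℕ, 2 ≤ k → k ≠ 6 → n ≤ eta k → ((Nat.card F : ℕ) = Nat.card F) →
        (∃ k' : ℕ, 0 < k' ∧ k' ≤ n ∧ k ∣ 2 * k') → ∃ N, Out n (Nat.card F) N ∧ Sm φ N := by
      intro k hk hk6 hkn _ hk'
      obtain ⟨k', hk'0, hk'n, hkd⟩ := hk'
      obtain ⟨r, hr, hr2, hord⟩ := exists_ppd (F := F) hk hk6
      obtain ⟨x, hx⟩ := exists_elt (F := F) (n := n) hk'0 hk'n hr (by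
        rw [← orderOf_dvd_iff_pow_eq_one, hord]
        exact hkd)
      refine ⟨r, Out.one r hr hr2 (by rwa [H72.AdjOrth.ee, hord]), ?_⟩
      rw [← hx]
      apply h3
      rw [hx]
      intro h5
      exact hr2 ((Nat.prime_dvd_prime_iff_eq Nat.prime_two hr).1 h5).symm
    by_cases h5 : n = 3
    · subst h5
      exact key 3 (by norm_num) (by norm_num) (by decide) rfl ⟨3, by norm_num, le_rfl, by norm_num⟩
    · exact key (2 * n) (by omega) (by omega) (by rw [eta_even]) rfl ⟨n, by omega, le_rfl, dvd_rfl⟩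

/-! ### the spectra -/

/-- the orders `2 N` are missing in `PSp_{2n}(q)` -/
theorem Out.not_PSp {n N : ℕ} (hn : 2 ≤ n) (h : Out n (Nat.card F) N) (y : Cfsg.PSp n F) : orderOf y ≠ 2 * N := by
  intro hy
  cases h with
  | two b h =>
    have h1 := H75.SpecE.PSp_two_dim (b := b + 2) (by omega) y (by rw [hy, pow_succ, mul_comm])
    change 2 ^ b + 1 ≤ n at h1
    omega
  | one r hr hr2 h => exact H75.SpecE.PSp_two (by omega) hr hr2 h y (by rw [hy])
  | twice r hr hr2 h =>
    exact H75.SpecE.PSp_four (by omega) hr hr2 h y (by rw [hy, ← mul_assoc]; exact dvd_rfl)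
  | four r hr hr2 h =>
    exact H75.SpecE.PSp_eight (by omega) hr hr2 h y (by rw [hy, ← mul_assoc]; exact dvd_rfl)

theorem toPSp_inj {n : ℕ} (hn : 1 ≤ n) : Function.Injective (toPSp (m := n) (F := F)) := by
  have hinj : Function.Injective
      (QuotientGroup.mk' (Subgroup.center (Matrix.symplecticGroup (Fin n) F))) := by
    rw [← MonoidHom.ker_eq_bot_iff, QuotientGroup.ker_mk', H403.center_symplectic hn]
  exact hinj.comp toSp_injective

theorem perf_isos' {n : ℕ} (hn : 3 ≤ n ∨ (n = 2 ∧ 3 ≤ Nat.card F)) : commutator (isos (form n F)) = ⊤ := by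
  have := Fintype.ofFinite F
  have h1 := S0269.result (F := F) n (by
    rcases hn with h | h
    · exact Or.inl h
    · exact Or.inr (Or.inl (by rwa [Nat.card_eq_fintype_card] at h)))
  apply Subgroup.map_injective (SpCross.isoSp n F).injective
  rw [commutator_def, Subgroup.map_commutator, Subgroup.map_top_of_surjective _ (SpCross.isoSp n F).surjective,
    ← commutator_def, h1]

/-- **Covers of `PSp_{2n}(q)`, `q` even, by 2-groups.** -/
theorem cov_two_PSp {n : ℕ} (hn : 3 ≤ n ∨ (n = 2 ∧ 3 ≤ Nat.card F)) {V : Type*} [AddCommGroup V] [Finite V]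
    [Nontrivial V] (hV : ∀ v : V, 2 • v = 0) (φ : Cfsg.PSp n F →* AddMonoid.End V) :
    ∃ (x : Cfsg.PSp n F) (v : V), ∑ i ∈ range (orderOf x), φ (x ^ i) v ≠ 0 ∧
      ¬ ∃ y : Cfsg.PSp n F, orderOf y = 2 * orderOf x := by
  obtain ⟨N, hN, hs⟩ := isos_sm (F := F) (by omega) (perf_isos' hn) hV (φ.comp toPSp)
  obtain ⟨x, v, hx, hv⟩ := hs.of_hom (toPSp_inj (by omega))
  refine ⟨x, v, hv, ?_⟩
  rintro ⟨y, hy⟩
  rw [hx] at hy
  exact hN.not_PSp (by omega) y hy

end sp

section omega

variable {F : Type*} [Field F] [CharP F 2] [Finite F] {ι : Type} [Fintype ι] [DecidableEq ι]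
  (Q : QuadraticForm F (ι → F)) (hQ : (QuadraticMap.polarBilin Q).Nondegenerate) {n : ℕ}
  (hn : 4 ≤ n) (hι : Fintype.card ι = 2 * n) (hs : ∃ u : ι → F, u ≠ 0 ∧ Q u = 0)

include hQ hn hι hs

/-- the orders `2 N` are missing in `PΩ^±_{2n}(q)` -/
theorem Out.not_POmega {N : ℕ} (h : Out (n - 1) (Nat.card F) N) (y : POmega F (⇑Q)) : orderOf y ≠ 2 * N := by
  intro hy
  cases h with
  | two b h =>
    have h1 := H75.SpecE.POmega_two_dim (n := n) Q hQ (by omega) hι hs (b := b + 2) y (by rw [hy, pow_succ, mul_comm])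
    change 2 ^ b + 2 ≤ n at h1
    omega
  | one r hr hr2 h =>
    have h2 := H75.SpecE.POmega_dim (n := n) Q hQ (by omega) hι hs hr hr2 (b := 1) le_rfl y (by rw [hy, pow_one])
    change 2 + _ ≤ n ∨ 2 * _ ≤ n at h2
    omega
  | twice r hr hr2 h =>
    have h2 := H75.SpecE.POmega_dim (n := n) Q hQ (by omega) hι hs hr hr2 (b := 2) (by norm_num) y
      (by rw [hy, ← mul_assoc]; exact dvd_rfl)
    change 3 + _ ≤ n ∨ 3 * _ ≤ n at h2
    omega
  | four r hr hr2 h =>
    have h2 := H75.SpecE.POmega_dim (n := n) Q hQ (by omega) hι hs hr hr2 (b := 3) (by norm_num) y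
      (by rw [hy, ← mul_assoc]; exact dvd_rfl)
    change 4 + _ ≤ n ∨ 5 * _ ≤ n at h2
    omega

/-- **Covers of `PΩ^±_{2n}(q)`, `q` even, by 2-groups.** -/
theorem cov_two_POmega (f : isos (form (n - 1) F) →* POmega F (⇑Q)) (hf : Function.Injective f) {V : Type*}
    [AddCommGroup V] [Finite V] [Nontrivial V] (hV : ∀ v : V, 2 • v = 0) (φ : POmega F (⇑Q) →* AddMonoid.End V) :
    ∃ (x : POmega F (⇑Q)) (v : V), ∑ i ∈ range (orderOf x), φ (x ^ i) v ≠ 0 ∧
      ¬ ∃ y : POmega F (⇑Q), orderOf y = 2 * orderOf x := by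
  obtain ⟨N, hN, hsm⟩ := isos_sm (F := F) (n := n - 1) (by omega) (perf_isos' (Or.inl (by omega))) hV (φ.comp f)
  obtain ⟨x, v, hx, hv⟩ := hsm.of_hom hf
  refine ⟨x, v, hv, ?_⟩
  rintro ⟨y, hy⟩
  rw [hx] at hy
  exact hN.not_POmega Q hQ hn hι hs y hy

end omega

end Cfsg.Agent.H231.Fx
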