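import Cfsg.Agent.H231.FxS

/-!
# Explicit 2-elements of `Sp_{2n}(F)`, characteristic two (helper231)

* `dl l` : the basis vectors `e_0, …, e_{h-1}, f_0, …, f_{h-1}`, indexed by `l` modulo `2h`;
* `exists_shift` : the shift `dl l ↦ dl (l + 1)`;
* `exists_big` : `x` with `x (dt l) = dt (l + 1)`, `dt l = dl l + (l / 2h) e_h`, `x f_h = f_h + dl h + e_h`;
* **`good_mid`** : `h < n < 2h`, `h = 2^b`: for a node `0 < i < n - 1`, `i ∉ J`, there is a good element of order `4h`;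
* **`good_pow`** : `n = 2^b`: for every node `i ∉ J` there is a good element of order `2n`.
-/

set_option autoImplicit false
set_option linter.unusedSectionVars false
set_option linter.style.haveILetI false

namespace Cfsg.Agent.H231.Fx

open CoxeterSystem Cfsg.Agent.ChevalleyStructure.CoxeterGeom Cfsg.Agent.Tits.Roots Cfsg.Agent.Nodes.TypeC
open Cfsg.Agent.Nodes.Comb Cfsg.Agent.Nodes.Reps Cfsg.Agent.Nodes.WittRoot Cfsg.Agent.Nodes.BNOf
open Cfsg.Agent.Nodes.WittRGD Cfsg.Agent.Nodes.RGDLib Cfsg.Agent.Nodes.WittAll Cfsg.Agent.Nodes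
open Cfsg.Agent.TitsThree Cfsg.Agent.TitsThree.Siegel Cfsg.Agent.TitsThree.WittFrame
  Cfsg.Agent.TitsThree.WittWeyl Cfsg.Agent.TitsThree.FrameCN
open SpIdent SpGen Cfsg Cfsg.Agent.ClassicalGeometry.SympBasic Cfsg.Agent.ClassicalGeometry.SympInvolutions

variable {n h : ℕ} {F : Type*} [Field F] (h0 : 0 < h) (hn : h ≤ n)

/-- indices of the shift -/
def idx (l : ℕ) : Fin n ⊕ Fin n :=
  if hl : l % (2 * h) < h then Sum.inr ⟨l % (2 * h), by omega⟩
  else Sum.inl ⟨l % (2 * h) - h, by have := Nat.mod_lt l (by omega : 0 < 2 * h); omega⟩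

variable (F) in
/-- the basis vectors `e_0, …, e_{h-1}, f_0, …, f_{h-1}` -/
def dl (l : ℕ) : Fin n ⊕ Fin n → F := Pi.single (idx h0 hn l) 1

theorem dl_mod (l : ℕ) : dl F h0 hn (l % (2 * h)) = dl F h0 hn l := by
  unfold dl idx
  simp only [Nat.mod_mod]

theorem dl_add (l : ℕ) : dl F h0 hn (l + 2 * h) = dl F h0 hn l := by
  rw [← dl_mod, Nat.add_mod_right, dl_mod]

theorem dl_lt {l : ℕ} (hl : l < h) : dl F h0 hn l = e n F ⟨l, by omega⟩ := by
  unfold dl idx SpIdent.e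
  have h1 : l % (2 * h) = l := Nat.mod_eq_of_lt (by omega)
  rw [dif_pos (by rw [h1]; exact hl)]
  congr 1
  congr 1
  exact Fin.ext h1

theorem dl_ge {l : ℕ} (hl : h ≤ l) (hl2 : l < 2 * h) : dl F h0 hn l = f n F ⟨l - h, by omega⟩ := by
  unfold dl idx SpIdent.f
  have h1 : l % (2 * h) = l := Nat.mod_eq_of_lt hl2
  rw [dif_neg (by rw [h1]; omega)]
  congr 1
  congr 1
  apply Fin.ext
  simp only [h1]

theorem mod_add_h {l : ℕ} (hl2 : l < 2 * h) : (l + h) % (2 * h) = if l < h then l + h else l - h := by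
  split_ifs with h1
  · exact Nat.mod_eq_of_lt (by omega)
  · have : l + h = (l - h) + 2 * h := by omega
    rw [this, Nat.add_mod_right]
    exact Nat.mod_eq_of_lt (by omega)

variable [CharP F 2]

omit h0 hn in
theorem B_comm (u v : Fin n ⊕ Fin n → F) : sympForm n F u v = sympForm n F v u := by
  rw [sympForm_swap, CharTwo.neg_eq]

/-- the pairing of the `dl` -/
theorem B_dl (l m : ℕ) : sympForm n F (dl F h0 hn l) (dl F h0 hn m) =
    if (l + h) % (2 * h) = m % (2 * h) then 1 else 0 := by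
  have key : ∀ l m, l < 2 * h → m < 2 * h → sympForm n F (dl F h0 hn l) (dl F h0 hn m) =
      if (l + h) % (2 * h) = m then 1 else 0 := by
    intro l m hl hm
    rw [mod_add_h hl]
    by_cases h1 : l < h <;> by_cases h2 : m < h
    · rw [dl_lt h0 hn h1, dl_lt h0 hn h2, SpIdent.ee, if_pos h1, if_neg (by omega)]
    · rw [dl_lt h0 hn h1, dl_ge h0 hn (by omega) hm, SpIdent.ef, if_pos h1]
      congr 1
      rw [Fin.ext_iff, eq_iff_iff]
      constructor <;> intro h3 <;> simp only at h3 ⊢ <;> omega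
    · rw [dl_ge h0 hn (by omega) hl, dl_lt h0 hn h2, B_comm, SpIdent.ef, if_neg h1]
      congr 1
      rw [Fin.ext_iff, eq_iff_iff]
      constructor <;> intro h3 <;> simp only at h3 ⊢ <;> omega
    · rw [dl_ge h0 hn (by omega) hl, dl_ge h0 hn (by omega) hm, SpIdent.ff, if_neg h1, if_neg (by omega)]
  have h1 := key (l % (2 * h)) (m % (2 * h)) (Nat.mod_lt _ (by omega)) (Nat.mod_lt _ (by omega))
  rw [dl_mod, dl_mod, Nat.mod_add_mod] at h1
  exact h1

theorem B_dl_e (l : ℕ) {a : Fin n} (ha : h ≤ a) : sympForm n F (dl F h0 hn l) (e n F a) = 0 := by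
  rw [← dl_mod]
  have h1 := Nat.mod_lt l (by omega : 0 < 2 * h)
  by_cases h2 : l % (2 * h) < h
  · rw [dl_lt h0 hn h2, SpIdent.ee]
  · rw [dl_ge h0 hn (by omega) h1, B_comm, SpIdent.ef, if_neg]
    rw [Fin.ext_iff]
    simp only
    omega

theorem B_dl_f (l : ℕ) {a : Fin n} (ha : h ≤ a) : sympForm n F (dl F h0 hn l) (f n F a) = 0 := by
  rw [← dl_mod]
  have h1 := Nat.mod_lt l (by omega : 0 < 2 * h)
  by_cases h2 : l % (2 * h) < h
  · rw [dl_lt h0 hn h2, SpIdent.ef, if_neg]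
    rw [Fin.ext_iff]
    simp only
    omega
  · rw [dl_ge h0 hn (by omega) h1, SpIdent.ff]

/-- **the shift** -/
theorem exists_shift : ∃ c ∈ isos (form n F), (∀ l, c (dl F h0 hn l) = dl F h0 hn (l + 1)) ∧
    ∀ a : Fin n, h ≤ a → c (e n F a) = e n F a ∧ c (f n F a) = f n F a := by
  let v : Fin n → (Fin n ⊕ Fin n → F) := fun a => if (a : ℕ) < h then dl F h0 hn (a + 1) else e n F a
  let w : Fin n → (Fin n ⊕ Fin n → F) := fun a => if (a : ℕ) < h then dl F h0 hn (a + h + 1) else f n F a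
  have hv1 : ∀ a : Fin n, (a : ℕ) < h → v a = dl F h0 hn (a + 1) := fun a ha => if_pos ha
  have hv2 : ∀ a : Fin n, ¬ (a : ℕ) < h → v a = e n F a := fun a ha => if_neg ha
  have hw1 : ∀ a : Fin n, (a : ℕ) < h → w a = dl F h0 hn (a + h + 1) := fun a ha => if_pos ha
  have hw2 : ∀ a : Fin n, ¬ (a : ℕ) < h → w a = f n F a := fun a ha => if_neg ha
  have hmod : ∀ a b k : ℕ, a < 2 * h → b < 2 * h → (a + k) % (2 * h) = (b + k) % (2 * h) → a = b := by
    intro a b k ha hb e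
    have h1 : a ≡ b [MOD (2 * h)] := Nat.ModEq.add_right_cancel' k e
    rw [Nat.ModEq, Nat.mod_eq_of_lt ha, Nat.mod_eq_of_lt hb] at h1
    exact h1
  have hfam : HypFam n F n w v := by
    refine ⟨?_, ?_, ?_⟩
    · intro a b
      by_cases ha : (a : ℕ) < h <;> by_cases hb : (b : ℕ) < h
      · rw [hw1 a ha, hw1 b hb, B_dl, if_neg]
        intro e
        have e2 : a + h + 1 + h = a + (2 * h + 1) := by ring
        have e3 : (b : ℕ) + h + 1 = (b + h) + 1 := rfl
        rw [e2, ← add_assoc, Nat.add_right_comm, Nat.add_mod_right] at e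
        have := hmod _ _ 1 (by omega) (by omega) e
        omega
      · rw [hw1 a ha, hw2 b hb, B_dl_f _ _ _ (by omega)]
      · rw [hw2 a ha, hw1 b hb, B_comm, B_dl_f _ _ _ (by omega)]
      · rw [hw2 a ha, hw2 b hb, SpIdent.ff]
    · intro a b
      by_cases ha : (a : ℕ) < h <;> by_cases hb : (b : ℕ) < h
      · rw [hv1 a ha, hv1 b hb, B_dl, if_neg]
        intro e
        have e2 : (a : ℕ) + 1 + h = (a + h) + 1 := by ring
        rw [e2] at e
        have := hmod _ _ 1 (by omega) (by omega) e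
        omega
      · rw [hv1 a ha, hv2 b hb, B_dl_e _ _ _ (by omega)]
      · rw [hv2 a ha, hv1 b hb, B_comm, B_dl_e _ _ _ (by omega)]
      · rw [hv2 a ha, hv2 b hb, SpIdent.ee]
    · intro a b
      by_cases ha : (a : ℕ) < h <;> by_cases hb : (b : ℕ) < h
      · rw [hv1 a ha, hw1 b hb, B_dl]
        congr 1
        rw [Fin.ext_iff, eq_iff_iff]
        constructor
        · intro e
          have e2 : (a : ℕ) + 1 + h = (a + h) + 1 := by ring
          rw [e2] at e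
          have := hmod _ _ 1 (by omega) (by omega) e
          omega
        · intro e
          rw [e]
          congr 1
          ring
      · rw [hv1 a ha, hw2 b hb, B_dl_f _ _ _ (by omega), if_neg]
        rintro rfl
        exact hb ha
      · rw [hv2 a ha, hw1 b hb, B_comm, B_dl_e _ _ _ (by omega), if_neg]
        rintro rfl
        exact ha hb
      · rw [hv2 a ha, hw2 b hb, SpIdent.ef]
  obtain ⟨c, hc, h1⟩ := exists_iso_full hfam
  refine ⟨c, hc, ?_, fun a ha => ⟨by rw [(h1 a).1, hv2 a (by omega)], by rw [(h1 a).2, hw2 a (by omega)]⟩⟩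
  intro l
  have h2 := Nat.mod_lt l (by omega : 0 < 2 * h)
  have h4 : dl F h0 hn (l + 1) = dl F h0 hn (l % (2 * h) + 1) := by
    rw [← dl_mod, ← Nat.mod_add_mod, dl_mod]
  rw [← dl_mod h0 hn l, h4]
  by_cases h3 : l % (2 * h) < h
  · rw [dl_lt h0 hn h3, (h1 _).1, hv1 _ h3]
  · rw [dl_ge h0 hn (by omega) h2, (h1 _).2, hw1 _ (by simp only; omega)]
    congr 1
    simp only
    omega

/-! ### the element of order `4h` -/

section big

variable (hn' : h < n)

variable (F) in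
/-- `dl l + (l / 2h) e_h` -/
def dt (l : ℕ) : Fin n ⊕ Fin n → F := dl F h0 hn'.le l + ((l / (2 * h) : ℕ) : F) • e n F ⟨h, hn'⟩

theorem B_dl_eh (l : ℕ) : sympForm n F (dl F h0 hn'.le l) (e n F ⟨h, hn'⟩) = 0 :=
  B_dl_e h0 hn'.le l (a := ⟨h, hn'⟩) le_rfl

theorem B_dl_fh (l : ℕ) : sympForm n F (dl F h0 hn'.le l) (f n F ⟨h, hn'⟩) = 0 :=
  B_dl_f h0 hn'.le l (a := ⟨h, hn'⟩) le_rfl

theorem dt_lt {l : ℕ} (hl : l < 2 * h) : dt F h0 hn' l = dl F h0 hn'.le l := by
  unfold dt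
  rw [Nat.div_eq_of_lt hl, Nat.cast_zero, zero_smul, add_zero]

theorem B_dt_e (l : ℕ) {a : Fin n} (ha : h ≤ a) : sympForm n F (dt F h0 hn' l) (e n F a) = 0 := by
  unfold dt
  rw [sympForm_add_left, sympForm_smul_left, SpIdent.ee, mul_zero, add_zero, B_dl_e _ _ _ ha]

theorem B_dt_f (l : ℕ) : sympForm n F (dt F h0 hn' l) (f n F ⟨h, hn'⟩) = ((l / (2 * h) : ℕ) : F) := by
  unfold dt
  rw [sympForm_add_left, sympForm_smul_left, SpIdent.ef, if_pos rfl, mul_one, B_dl_fh, zero_add]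

theorem B_dt_f' (l : ℕ) {a : Fin n} (ha : h < a) : sympForm n F (dt F h0 hn' l) (f n F a) = 0 := by
  unfold dt
  rw [sympForm_add_left, sympForm_smul_left, SpIdent.ef, if_neg (by rw [Fin.ext_iff]; simp only; omega), mul_zero,
    B_dl_f _ _ _ ha.le, zero_add]

theorem B_dt_dl (l m : ℕ) : sympForm n F (dt F h0 hn' l) (dl F h0 hn'.le m) =
    if (l + h) % (2 * h) = m % (2 * h) then 1 else 0 := by
  unfold dt
  rw [sympForm_add_left, sympForm_smul_left, B_comm (e n F ⟨h, hn'⟩), B_dl_eh, mul_zero, add_zero, B_dl]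

/-- **the element of order `4h`** -/
theorem exists_big : ∃ x ∈ isos (form n F), (∀ l, x (dt F h0 hn' l) = dt F h0 hn' (l + 1)) ∧
    x (e n F ⟨h, hn'⟩) = e n F ⟨h, hn'⟩ ∧
    x (f n F ⟨h, hn'⟩) = f n F ⟨h, hn'⟩ + (dt F h0 hn' h + e n F ⟨h, hn'⟩) ∧
    ∀ a : Fin n, h < a → x (e n F a) = e n F a ∧ x (f n F a) = f n F a := by
  obtain ⟨c, hc, hc1, hc2⟩ := exists_shift (F := F) h0 hn'.le
  have hw : sympForm n F (e n F ⟨h, hn'⟩) (dl F h0 hn'.le h) = 0 := by
    rw [B_comm, B_dl_eh]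
  obtain ⟨S, hSm, hS⟩ : ∃ S ∈ isos (form n F), ∀ v, S v =
      v + (sympForm n F v (e n F ⟨h, hn'⟩) • dl F h0 hn'.le h + sympForm n F v (dl F h0 hn'.le h) • e n F ⟨h, hn'⟩ +
        sympForm n F v (e n F ⟨h, hn'⟩) • e n F ⟨h, hn'⟩) := by
    refine ⟨(form n F).sie (e n F ⟨h, hn'⟩) (dl F h0 hn'.le h) 1 (sympForm_self _) hw, sie_form_mem _ _ _ hw, ?_⟩
    intro v
    change v + sympForm n F v (e n F ⟨h, hn'⟩) • dl F h0 hn'.le h -
      ((-1 : F)⁻¹ * sympForm n F v (dl F h0 hn'.le h)) • e n F ⟨h, hn'⟩ +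
      ((1 : F) * sympForm n F v (e n F ⟨h, hn'⟩)) • e n F ⟨h, hn'⟩ = _
    rw [inv_neg, inv_one, neg_one_mul, neg_smul, sub_neg_eq_add, one_mul]
    abel
  refine ⟨S * c, mul_mem hSm hc, ?_, ?_, ?_, ?_⟩
  · have key : ∀ l, S (dl F h0 hn'.le (l + 1)) =
        dl F h0 hn'.le (l + 1) + (if (l + 1) % (2 * h) = 0 then 1 else 0 : F) • e n F ⟨h, hn'⟩ := by
      intro l
      rw [hS, B_dl_eh, zero_smul, zero_smul, zero_add, add_zero, B_dl]
      congr 3
      rw [eq_iff_iff]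
      have h1 : h % (2 * h) = (0 + h) % (2 * h) := by rw [zero_add]
      rw [h1]
      constructor
      · intro e
        have h2 : l + 1 ≡ 0 [MOD (2 * h)] := Nat.ModEq.add_right_cancel' h e
        rwa [Nat.ModEq, Nat.zero_mod] at h2
      · intro e
        rw [Nat.add_mod, e, zero_add, Nat.mod_mod, zero_add]
    intro l
    unfold dt
    change S (c _) = _
    rw [map_add, map_smul, map_add, map_smul]
    rw [(hc2 ⟨h, hn'⟩ le_rfl).1, hc1, key, hS (e n F ⟨h, hn'⟩), sympForm_self, hw]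
    simp only [zero_smul, add_zero]
    rw [add_assoc, ← add_smul]
    congr 2
    have h3 := Nat.succ_div (a := l) (b := 2 * h)
    rw [h3, Nat.cast_add, add_comm]
    congr 1
    by_cases h5 : (l + 1) % (2 * h) = 0
    · rw [if_pos h5, if_pos (Nat.dvd_of_mod_eq_zero h5), Nat.cast_one]
    · rw [if_neg h5, if_neg (fun h6 => h5 (Nat.mod_eq_zero_of_dvd h6)), Nat.cast_zero]
  · change S (c _) = _
    rw [(hc2 ⟨h, hn'⟩ le_rfl).1, hS, sympForm_self, hw]
    simp only [zero_smul, add_zero]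
  · change S (c _) = _
    rw [(hc2 ⟨h, hn'⟩ le_rfl).2, hS, B_comm (f n F ⟨h, hn'⟩) (e n F ⟨h, hn'⟩), SpIdent.ef, if_pos rfl,
      B_comm (f n F ⟨h, hn'⟩), B_dl_fh, one_smul, one_smul, zero_smul, add_zero, dt_lt h0 hn' (by omega)]
  · intro a ha
    constructor
    · change S (c _) = _
      rw [(hc2 _ ha.le).1, hS, SpIdent.ee, B_comm (e n F a), B_dl_e _ _ _ ha.le]
      simp only [zero_smul, add_zero]
    · change S (c _) = _
      rw [(hc2 _ ha.le).2, hS, B_comm (f n F a), B_comm (f n F a), B_dl_f _ _ _ ha.le, SpIdent.ef,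
        if_neg (by rw [Fin.ext_iff]; simp only; omega)]
      simp only [zero_smul, add_zero]

/-- the properties of the element `x` -/
structure BigElt (x : isos (form n F)) : Prop where
  dt : ∀ l, x.1 (dt F h0 hn' l) = Fx.dt F h0 hn' (l + 1)
  e : x.1 (e n F ⟨h, hn'⟩) = e n F ⟨h, hn'⟩
  f : x.1 (f n F ⟨h, hn'⟩) = f n F ⟨h, hn'⟩ + (Fx.dt F h0 hn' h + SpIdent.e n F ⟨h, hn'⟩)
  o : ∀ a : Fin n, h < a → x.1 (SpIdent.e n F a) = SpIdent.e n F a ∧ x.1 (SpIdent.f n F a) = SpIdent.f n F a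

theorem exists_bigElt : ∃ x : isos (form n F), BigElt h0 hn' x := by
  obtain ⟨x, hx, h1, h2, h3, h4⟩ := exists_big (F := F) h0 hn'
  exact ⟨⟨x, hx⟩, h1, h2, h3, h4⟩

omit [CharP F 2] in
theorem pow_fix {x : isos (form n F)} {v : Fin n ⊕ Fin n → F} (hv : x.1 v = v) (j : ℕ) : (x ^ j).1 v = v := by
  induction j with
  | zero => rfl
  | succ j ih =>
    rw [pow_succ]
    change (x ^ j).1 (x.1 v) = v
    rw [hv, ih]

variable {h0 hn'} {x : isos (form n F)} (hx : BigElt h0 hn' x)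
include hx

theorem BigElt.pow_dt (l j : ℕ) : (x ^ j).1 (Fx.dt F h0 hn' l) = Fx.dt F h0 hn' (l + j) := by
  induction j generalizing l with
  | zero => rfl
  | succ j ih =>
    rw [pow_succ]
    change (x ^ j).1 (x.1 _) = _
    rw [hx.dt, ih]
    congr 1
    ring

theorem BigElt.pow_e (j : ℕ) : (x ^ j).1 (SpIdent.e n F ⟨h, hn'⟩) = SpIdent.e n F ⟨h, hn'⟩ := pow_fix hx.e j

theorem BigElt.pow_f (j : ℕ) : (x ^ j).1 (SpIdent.f n F ⟨h, hn'⟩) = SpIdent.f n F ⟨h, hn'⟩ +
    (∑ s ∈ Finset.range j, Fx.dt F h0 hn' (h + s) + (j : F) • SpIdent.e n F ⟨h, hn'⟩) := by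
  induction j with
  | zero => simp
  | succ j ih =>
    rw [pow_succ]
    change (x ^ j).1 (x.1 _) = _
    rw [hx.f, map_add, map_add, ih, hx.pow_dt, hx.pow_e, Finset.sum_range_succ, Nat.cast_succ, add_smul, one_smul]
    abel

theorem BigElt.pow_dl (l j : ℕ) : (x ^ j).1 (dl F h0 hn'.le l) =
    Fx.dt F h0 hn' (l + j) + ((l / (2 * h) : ℕ) : F) • SpIdent.e n F ⟨h, hn'⟩ := by
  have h1 : dl F h0 hn'.le l = Fx.dt F h0 hn' l + ((l / (2 * h) : ℕ) : F) • SpIdent.e n F ⟨h, hn'⟩ := by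
    unfold Fx.dt
    rw [add_assoc, ← add_smul, CharTwo.add_self_eq_zero, zero_smul, add_zero]
  rw [h1, map_add, map_smul, hx.pow_dt, hx.pow_e]

omit hx in
theorem dt_add (l : ℕ) : Fx.dt F h0 hn' (l + 2 * h) = Fx.dt F h0 hn' l + SpIdent.e n F ⟨h, hn'⟩ := by
  unfold Fx.dt
  rw [dl_add, Nat.add_div_right _ (by omega), Nat.cast_add, Nat.cast_one, add_smul, one_smul,
    add_assoc]

omit hx in
theorem eq_one_of_basis {g : isos (form n F)} (h1 : ∀ a, g.1 (SpIdent.e n F a) = SpIdent.e n F a)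
    (h2 : ∀ a, g.1 (SpIdent.f n F a) = SpIdent.f n F a) : g = 1 := by
  apply Subtype.ext
  ext1 v
  have hv : v ∈ Submodule.span F (Set.range (SpIdent.e n F) ∪ Set.range (SpIdent.f n F)) := by
    rw [span_ef]; trivial
  change g.1 v = v
  induction hv using Submodule.span_induction with
  | mem y hy =>
    rcases hy with ⟨i, rfl⟩ | ⟨i, rfl⟩
    · exact h1 i
    · exact h2 i
  | zero => exact map_zero _
  | add y z _ _ hy hz => rw [map_add, hy, hz]
  | smul c y _ hy => rw [map_smul, hy]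

theorem BigElt.pow_eq_one : x ^ (4 * h) = 1 := by
  have key : ∀ l, (x ^ (4 * h)).1 (dl F h0 hn'.le l) = dl F h0 hn'.le l := by
    intro l
    have e1 : l + 4 * h = l + 2 * h + 2 * h := by ring
    rw [hx.pow_dl, e1, dt_add, dt_add]
    unfold Fx.dt
    have e2 : SpIdent.e n F ⟨h, hn'⟩ + SpIdent.e n F ⟨h, hn'⟩ = 0 := by
      rw [← two_smul F, CharTwo.two_eq_zero, zero_smul]
    rw [add_assoc, add_assoc, add_assoc, ← add_assoc (SpIdent.e n F ⟨h, hn'⟩), e2, zero_add,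
      ← add_smul, CharTwo.add_self_eq_zero, zero_smul, add_zero]
  have hzero : ∀ l : ℕ, l < 2 * h → True := fun _ _ => trivial
  refine eq_one_of_basis ?_ ?_
  · intro a
    rcases lt_trichotomy (a : ℕ) h with ha | ha | ha
    · have h1 := key a
      rwa [dl_lt h0 hn'.le ha] at h1
    · obtain rfl : a = ⟨h, hn'⟩ := Fin.ext ha
      exact hx.pow_e _
    · exact pow_fix (hx.o a ha).1 _
  · intro a
    rcases lt_trichotomy (a : ℕ) h with ha | ha | ha
    · have h1 := key (a + h)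
      rw [dl_ge h0 hn'.le (by omega) (by omega)] at h1
      have h2 : (⟨(a : ℕ) + h - h, by omega⟩ : Fin n) = a := Fin.ext (by simp only; omega)
      rwa [h2] at h1
    · obtain rfl : a = ⟨h, hn'⟩ := Fin.ext ha
      rw [hx.pow_f]
      have e1 : 4 * h = 2 * h + 2 * h := by ring
      rw [e1, Finset.sum_range_add]
      have e2 : ∀ s ∈ Finset.range (2 * h), Fx.dt F h0 hn' (h + (2 * h + s)) =
          Fx.dt F h0 hn' (h + s) + SpIdent.e n F ⟨h, hn'⟩ := by
        intro s _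
        rw [← dt_add]
        congr 1
        ring
      rw [Finset.sum_congr rfl e2, Finset.sum_add_distrib, Finset.sum_const, Finset.card_range, ← Nat.cast_smul_eq_nsmul F]
      have e3 : ((2 * h : ℕ) : F) = 0 := by
        rw [Nat.cast_mul, Nat.cast_ofNat, CharTwo.two_eq_zero, zero_mul]
      rw [Nat.cast_add, e3, zero_smul, add_zero, add_zero, zero_smul, add_zero, ← two_smul F, CharTwo.two_eq_zero,
        zero_smul, add_zero]
    · exact pow_fix (hx.o a ha).2 _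

omit hx in
theorem e_ne_zero (a : Fin n) : SpIdent.e n F a ≠ 0 := by
  intro h1
  have h2 := SpIdent.ef (m := n) (F := F) a a
  rw [h1, sympForm_zero_left, if_pos rfl] at h2
  exact zero_ne_one h2

theorem BigElt.pow_ne_one : x ^ (2 * h) ≠ 1 := by
  intro h1
  have h2 := hx.pow_dt 0 (2 * h)
  rw [h1, dt_add] at h2
  change Fx.dt F h0 hn' 0 = _ at h2
  rw [left_eq_add] at h2
  exact e_ne_zero _ h2

/-- the order of `x` -/
theorem BigElt.orderOf {b : ℕ} (hb : h = 2 ^ b) : orderOf x = 4 * h := by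
  have h1 : 4 * h = 2 ^ (b + 1 + 1) := by rw [hb]; ring
  have h2 : 2 * h = 2 ^ (b + 1) := by rw [hb]; ring
  rw [h1]
  refine orderOf_eq_prime_pow ?_ ?_
  · rw [← h2]
    exact hx.pow_ne_one
  · rw [← h1]
    exact hx.pow_eq_one

end big

end Cfsg.Agent.H231.Fx
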