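import Cfsg.Agent.H231.FxCover

/-!
# Extensions of `Sp_{2n}(q)`, `q` even, by elementary abelian 2-groups: `n = 2^b`, `n = 3` (helper231)

* **`cover_sp_pow`** : `n = 2^b`: `4n ∈ ω(H)` or central kernel;
* **`cover_sp_three`** : `n = 3`: `16 ∈ ω(H)`, or `4r ∈ ω(H)` (`ord_r(q) = 4`), or `2r ∈ ω(H)` (`ord_r(q) = 3`), or central
  kernel.
-/

set_option autoImplicit false
set_option linter.unusedSectionVars false
set_option linter.unusedSimpArgs false
set_option linter.style.haveILetI false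

namespace Cfsg.Agent.H231.Fx

open CoxeterSystem Cfsg.Agent.ChevalleyStructure.CoxeterGeom Cfsg.Agent.Tits.Roots Cfsg.Agent.Nodes.TypeC
open Cfsg.Agent.Nodes.Comb Cfsg.Agent.Nodes.Reps Cfsg.Agent.Nodes.WittRoot Cfsg.Agent.Nodes.BNOf
open Cfsg.Agent.Nodes.WittRGD Cfsg.Agent.Nodes.RGDLib Cfsg.Agent.Nodes.WittAll Cfsg.Agent.Nodes
  Cfsg.Agent.Nodes.StabComb
open Cfsg.Agent.TitsThree Cfsg.Agent.TitsThree.Siegel Cfsg.Agent.TitsThree.WittFrame
  Cfsg.Agent.TitsThree.WittWeyl Cfsg.Agent.TitsThree.FrameCN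
open SpIdent SpGen Cfsg Cfsg.Agent.ClassicalGeometry.SympBasic Cfsg.Agent.ClassicalGeometry.SympInvolutions
open Cfsg.Agent.AGraded Cfsg.Agent.H62

variable {F : Type*} [Field F] [CharP F 2]

theorem comm_of_sq {H : Type*} [Group H] {K : Subgroup H} (h2 : ∀ a ∈ K, a ^ 2 = 1) :
    ∀ a ∈ K, ∀ b ∈ K, a * b = b * a := by
  intro a ha b hb
  have h3 := h2 a ha
  have h4 := h2 b hb
  have h5 := h2 _ (mul_mem ha hb)
  rw [sq] at h3 h4 h5
  have e1 : a⁻¹ = a := inv_eq_of_mul_eq_one_left h3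
  have e2 : b⁻¹ = b := inv_eq_of_mul_eq_one_left h4
  have e3 : (a * b)⁻¹ = a * b := inv_eq_of_mul_eq_one_left h5
  rw [mul_inv_rev, e1, e2] at e3
  exact e3.symm

/-- reduction to the good pairs -/
theorem cover_red [Finite F] {n : ℕ} (hn : 0 < n) (hperf : commutator (isos (form n F)) = ⊤) {H : Type*} [Group H]
    [Finite H] (π : H →* isos (form n F))
    (hπ : Function.Surjective π) (h2 : ∀ a ∈ π.ker, a ^ 2 = 1) (hne : π.ker ≠ ⊥) :
    (∃ J : Set (Fin n), J ≠ Set.univ ∧ ∀ t y : isos (form n F), Good (spR n F 2) J t y →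
      (orderOf t).Coprime (orderOf y) → ∃ g : H, orderOf g = 2 * (orderOf t * orderOf y)) ∨
      ∀ x : isos (form n F), Odd (orderOf x) → ∃ g : H, orderOf g = 2 * orderOf x := by
  haveI : Finite (isos (form n F)) := SpCross.finite_isos
  haveI : Finite (CoxeterMatrix.B n).Group := finite_W (CoxeterMatrix.B n).toCoxeterSystem
  haveI : Fact (Nat.Prime 2) := ⟨Nat.prime_two⟩
  by_cases hnc : ∃ g : H, ∃ a ∈ π.ker, g * a * g⁻¹ ≠ a
  · left
    exact exists_order (spR n F 2) (WittModel.G1_eq_top (SpCross.model n F) hn (csB n))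
      hperf π hπ (comm_of_sq h2) h2 hnc
  · push Not at hnc
    obtain ⟨a, ha⟩ := (Subgroup.ne_bot_iff_exists_ne_one).1 hne
    right
    intro x hx
    exact exists_order_central π hπ h2 (a := a) a.2 (fun h => ha (Subtype.ext h)) (fun g => hnc g a a.2) x
      hx.not_two_dvd_nat

/-- **`n = 2^b`** -/
theorem cover_sp_pow [Finite F] {n b : ℕ} (hb : n = 2 ^ b) (hperf : commutator (isos (form n F)) = ⊤) {H : Type*}
    [Group H] [Finite H] (π : H →* isos (form n F))
    (hπ : Function.Surjective π) (h2 : ∀ a ∈ π.ker, a ^ 2 = 1) (hne : π.ker ≠ ⊥) :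
    (∃ g : H, orderOf g = 4 * n) ∨
      ∀ x : isos (form n F), Odd (orderOf x) → ∃ g : H, orderOf g = 2 * orderOf x := by
  have hn : 0 < n := by rw [hb]; positivity
  rcases cover_red hn hperf π hπ h2 hne with ⟨J, hJ, h3⟩ | h3
  · obtain ⟨i, hi⟩ : ∃ i, i ∉ J := by
      by_contra hcon
      push Not at hcon
      exact hJ (Set.eq_univ_of_forall hcon)
    obtain ⟨t, ht, hg⟩ := good_pow (F := F) hn hb hi
    left
    obtain ⟨g, hg⟩ := h3 t 1 hg (by rw [orderOf_one]; exact Nat.coprime_one_right _)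
    refine ⟨g, ?_⟩
    rw [hg, ht, orderOf_one]
    ring
  · exact Or.inr h3

/-! ### `n = 3` -/

section three

/-- the family for the nodes `0` and `2` -/
theorem fam_three : HypFam 3 F 3 ![dl F two_pos (by omega : 2 ≤ 3) 2,
      dl F two_pos (by omega : 2 ≤ 3) 1 + dl F two_pos (by omega : 2 ≤ 3) 3, f 3 F 2 + e 3 F 2]
    ![dl F two_pos (by omega : 2 ≤ 3) 0, dl F two_pos (by omega : 2 ≤ 3) 1, f 3 F 2] := by
  have b1 : ∀ l m, sympForm 3 F (dl F two_pos (by omega : 2 ≤ 3) l) (dl F two_pos (by omega : 2 ≤ 3) m) =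
    if (l + 2) % (2 * 2) = m % (2 * 2) then 1 else 0 := B_dl two_pos (by omega : 2 ≤ 3)
  have b2 : ∀ l, sympForm 3 F (dl F two_pos (by omega : 2 ≤ 3) l) (e 3 F 2) = 0 :=
    B_dl_eh two_pos (by omega : 2 < 3)
  have b3 : ∀ l, sympForm 3 F (dl F two_pos (by omega : 2 ≤ 3) l) (f 3 F 2) = 0 :=
    B_dl_fh two_pos (by omega : 2 < 3)
  have b4 : ∀ l, sympForm 3 F (e 3 F 2) (dl F two_pos (by omega : 2 ≤ 3) l) = 0 := fun l => by
    rw [B_comm, b2]
  have b5 : ∀ l, sympForm 3 F (f 3 F 2) (dl F two_pos (by omega : 2 ≤ 3) l) = 0 := fun l => by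
    rw [B_comm, b3]
  have b6 : sympForm 3 F (e 3 F 2) (f 3 F 2) = 1 := by rw [SpIdent.ef, if_pos rfl]
  have b7 : sympForm 3 F (f 3 F 2) (e 3 F 2) = 1 := by rw [B_comm, b6]
  refine ⟨?_, ?_, ?_⟩
  · intro a b
    fin_cases a <;> fin_cases b <;>
      simp [sympForm_add_left, sympForm_add_right, b1, b2, b3, b4, b5, b6, b7, CharTwo.add_self_eq_zero]
  · intro a b
    fin_cases a <;> fin_cases b <;>
      simp [sympForm_add_left, sympForm_add_right, b1, b2, b3, b4, b5, b6, b7, CharTwo.add_self_eq_zero]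
  · intro a b
    fin_cases a <;> fin_cases b <;>
      simp [sympForm_add_left, sympForm_add_right, b1, b2, b3, b4, b5, b6, b7, CharTwo.add_self_eq_zero]

/-- **the nodes `0` and `2`** -/
theorem good_three [Finite F] {J : Set (Fin 3)} (hJ0 : (0 : Fin 3) ∉ J) (hJ2 : (2 : Fin 3) ∉ J) :
    ∃ t : isos (form 3 F), orderOf t = 8 ∧ Good (spR 3 F 2) J t 1 := by
  obtain ⟨x, hx⟩ := exists_bigElt (F := F) two_pos (by omega : 2 < 3)
  have ho : orderOf x = 8 := hx.orderOf (b := 1) rfl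
  obtain ⟨u, hu, hu2⟩ := exists_iso_full (fam_three (F := F))
  obtain ⟨u, rfl⟩ : ∃ u' : isos (form 3 F), u'.1 = u := ⟨⟨u, hu⟩, rfl⟩
  have ho' : orderOf (u⁻¹ * x * u) = 8 := by
    have e1 : u⁻¹ * x * u = MulAut.conj u⁻¹ x := by rw [MulAut.conj_apply, inv_inv]
    rw [e1, ← ho]
    exact orderOf_injective (MulAut.conj u⁻¹).toMonoidHom (MulAut.conj u⁻¹).injective x
  have b1 : ∀ l m, sympForm 3 F (dt F two_pos (by omega : 2 < 3) l) (dl F two_pos (by omega : 2 ≤ 3) m) =
    if (l + 2) % (2 * 2) = m % (2 * 2) then 1 else 0 := B_dt_dl two_pos (by omega : 2 < 3)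
  have b2 : ∀ l, sympForm 3 F (dt F two_pos (by omega : 2 < 3) l) (e 3 F 2) = 0 := fun l =>
    B_dt_e two_pos (by omega : 2 < 3) l (a := (2 : Fin 3)) le_rfl
  have b3 : ∀ l, sympForm 3 F (dt F two_pos (by omega : 2 < 3) l) (f 3 F 2) = ((l / (2 * 2) : ℕ) : F) :=
    B_dt_f two_pos (by omega : 2 < 3)
  have b4 : ∀ l, sympForm 3 F (e 3 F 2) (dl F two_pos (by omega : 2 ≤ 3) l) = 0 := fun l => by
    rw [B_comm]
    exact B_dl_eh two_pos (by omega : 2 < 3) l
  have b5 : ∀ l, sympForm 3 F (f 3 F 2) (dl F two_pos (by omega : 2 ≤ 3) l) = 0 := fun l => by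
    rw [B_comm]
    exact B_dl_fh two_pos (by omega : 2 < 3) l
  have b6 : sympForm 3 F (e 3 F 2) (f 3 F 2) = 1 := by rw [SpIdent.ef, if_pos rfl]
  have b7 : sympForm 3 F (f 3 F 2) (e 3 F 2) = 1 := by rw [B_comm, b6]
  have i0 : ∀ l j, l < 4 → (x ^ j).1 (dl F two_pos (by omega : 2 ≤ 3) l) = dt F two_pos (by omega : 2 < 3) (l + j) := by
    intro l j hl
    rw [hx.pow_dl, Nat.div_eq_of_lt (by omega), Nat.cast_zero, zero_smul, add_zero]
  refine ⟨u⁻¹ * x * u, ho', Commute.one_right _, one_mem _, ?_, ?_⟩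
  · rw [orderOf_one]
    decide
  · intro j hj0 hj
    rw [ho'] at hj
    have e1 : (u⁻¹ * x * u) ^ j = u⁻¹ * x ^ j * u := by
      have := conj_pow (i := j) (a := u⁻¹) (b := x)
      rwa [inv_inv] at this
    rw [e1]
    by_cases hj4 : j = 4
    · subst hj4
      apply not_big_gram hJ2
      have k1 : ∀ a : Fin 3, u.1 (e 3 F (Fin.castLE (2 : Fin 3).2 a)) =
          (![dl F two_pos (by omega : 2 ≤ 3) 0, dl F two_pos (by omega : 2 ≤ 3) 1, f 3 F 2] :
            Fin 3 → (Fin 3 ⊕ Fin 3 → F)) a := fun a => (hu2 a).1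
      have k2 : ∀ a : Fin 3, u.1 (f 3 F (Fin.castLE (2 : Fin 3).2 a)) =
          (![dl F two_pos (by omega : 2 ≤ 3) 2,
      dl F two_pos (by omega : 2 ≤ 3) 1 + dl F two_pos (by omega : 2 ≤ 3) 3, f 3 F 2 + e 3 F 2] :
            Fin 3 → (Fin 3 ⊕ Fin 3 → F)) a := fun a => (hu2 a).2
      change (Matrix.of fun b a : Fin 3 => sympForm 3 F ((x ^ 4).1 (u.1 (e 3 F (Fin.castLE (2 : Fin 3).2 a))))
        (u.1 (f 3 F (Fin.castLE (2 : Fin 3).2 b)))).det = 0
      simp only [k1, k2]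
      rw [Matrix.det_fin_three]
      simp only [Matrix.of_apply, Matrix.cons_val_zero, Matrix.cons_val_one, Matrix.cons_val_two, Matrix.head_cons,
        Matrix.tail_cons, Matrix.cons_val]
      have i1 : (x ^ 4).1 (f 3 F 2) = f 3 F 2 + (∑ s ∈ Finset.range 4, dt F two_pos (by omega : 2 < 3) (2 + s) +
          ((4 : ℕ) : F) • e 3 F 2) := hx.pow_f 4
      have i2 : ((4 : ℕ) : F) = 0 := by
        have : ((4 : ℕ) : F) = 2 * 2 := by norm_num
        rw [this, CharTwo.two_eq_zero, zero_mul]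
      rw [i0 0 4 (by omega), i0 1 4 (by omega), i1, i2, zero_smul, add_zero]
      simp [sympForm_add_left, sympForm_add_right, sympForm_smul_left, b1, b2, b3, b4, b5, b6, b7,
        CharTwo.add_self_eq_zero, Finset.sum_range_succ]
    · apply not_big_gram hJ0
      change (Matrix.of fun b a : Fin 1 => sympForm 3 F ((x ^ j).1 (u.1 (e 3 F (Fin.castLE (0 : Fin 3).2 a))))
        (u.1 (f 3 F (Fin.castLE (0 : Fin 3).2 b)))).det = 0
      have k1 : u.1 (e 3 F 0) = dl F two_pos (by omega : 2 ≤ 3) 0 := (hu2 0).1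
      have k2 : u.1 (f 3 F 0) = dl F two_pos (by omega : 2 ≤ 3) 2 := (hu2 0).2
      rw [Matrix.det_fin_one, Matrix.of_apply]
      change sympForm 3 F ((x ^ j).1 (u.1 (e 3 F 0))) (u.1 (f 3 F 0)) = 0
      rw [k1, k2, i0 0 j (by omega), b1, if_neg]
      omega

/-- the cases for `n = 3` -/
theorem sp_cases_three [Finite F] {J : Set (Fin 3)} (hJ : J ≠ Set.univ) (P : ℕ → Prop)
    (hP : ∀ t y : isos (form 3 F), Good (spR 3 F 2) J t y → (orderOf t).Coprime (orderOf y) →
      P (2 * (orderOf t * orderOf y))) :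
    P 16 ∨ (∀ r : ℕ, r.Prime → orderOf ((Nat.card F : ℕ) : ZMod r) = 4 → P (4 * r)) ∨
      (∀ r : ℕ, r.Prime → orderOf ((Nat.card F : ℕ) : ZMod r) = 3 → P (2 * r)) := by
  by_cases h1 : (1 : Fin 3) ∈ J
  · by_cases h0 : (0 : Fin 3) ∈ J
    · -- only the node `2`
      have h2 : (2 : Fin 3) ∉ J := by
        intro h2
        apply hJ
        apply Set.eq_univ_of_forall
        intro a
        fin_cases a
        · exact h0
        · exact h1
        · exact h2
      right; right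
      intro r hr hord
      have hJ0 : ∀ l : Fin (0 + 3), l ∉ J → (l : ℕ) < 0 ∨ (l : ℕ) + 1 = 0 + 3 := by
        intro l hl
        right
        have e1 : l ≠ (0 : Fin 3) := fun e => hl (by rw [e]; exact h0)
        have e2 : l ≠ (1 : Fin 3) := fun e => hl (by rw [e]; exact h1)
        have e3 : (l : ℕ) ≠ 0 := fun e => e1 (Fin.ext e)
        have e4 : (l : ℕ) ≠ 1 := fun e => e2 (Fin.ext e)
        have := l.2
        omega
      obtain ⟨y, hy, hyJ, -⟩ := exists_sl (F := F) (m := 0) (k := 3) le_rfl hJ0 hr hord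
      have h3 := hP 1 y ⟨Commute.one_left _, hyJ, ?_, ?_⟩ (by rw [orderOf_one]; exact Nat.coprime_one_left _)
      · rw [orderOf_one, one_mul, hy] at h3
        exact h3
      · rw [hy]
        intro h4
        exact ne_two_of_ord (F := F) (by omega) hord ((Nat.prime_dvd_prime_iff_eq Nat.prime_two hr).1 h4).symm
      · intro j hj0 hj
        rw [orderOf_one] at hj
        omega
    · by_cases h2 : (2 : Fin 3) ∈ J
      · -- only the node `0`
        right; left
        intro r hr hord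
        have hJ0 : ∀ l : Fin (1 + 2), l ∉ J → (l : ℕ) < 1 := by
          intro l hl
          have e1 : l ≠ (1 : Fin 3) := fun e => hl (by rw [e]; exact h1)
          have e2 : l ≠ (2 : Fin 3) := fun e => hl (by rw [e]; exact h2)
          have e3 : (l : ℕ) ≠ 1 := fun e => e1 (Fin.ext e)
          have e4 : (l : ℕ) ≠ 2 := fun e => e2 (Fin.ext e)
          have := l.2
          omega
        obtain ⟨y, hy, hyJ, hcom⟩ := exists_sp (F := F) (m := 1) (k := 2) (by omega) hJ0 hr hord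
        obtain ⟨c, hc⟩ := exists_shElt (F := F) (n := 3) (h := 1) one_pos (by omega : 1 ≤ 3)
        obtain ⟨h3, h4, h5⟩ := good_pair (b := 0) rfl hc h0 (by omega) hr (ne_two_of_ord (F := F) (by omega) hord) hy hyJ
          hcom
        have := hP c y h3 h4
        rw [h5] at this
        have e : 2 * (2 * 2 ^ 0 * r) = 4 * r := by ring
        rwa [e] at this
      · obtain ⟨t, ht, hg⟩ := good_three (F := F) h0 h2
        left
        have := hP t 1 hg (by rw [orderOf_one]; exact Nat.coprime_one_right _)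
        rwa [ht, orderOf_one] at this
  · left
    obtain ⟨t, ht, hg⟩ := good_mid2 (F := F) (n := 3) (h := 2) two_pos (by omega) (b := 1) rfl h1 rfl
    have := hP t 1 hg (by rw [orderOf_one]; exact Nat.coprime_one_right _)
    rwa [ht, orderOf_one] at this

/-- **`n = 3`** -/
theorem cover_sp_three [Finite F] {H : Type*}
    [Group H] [Finite H] (π : H →* isos (form 3 F))
    (hπ : Function.Surjective π) (h2 : ∀ a ∈ π.ker, a ^ 2 = 1) (hne : π.ker ≠ ⊥) :
    (∃ g : H, orderOf g = 16) ∨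
      (∀ r : ℕ, r.Prime → orderOf ((Nat.card F : ℕ) : ZMod r) = 4 → ∃ g : H, orderOf g = 4 * r) ∨
      (∀ r : ℕ, r.Prime → orderOf ((Nat.card F : ℕ) : ZMod r) = 3 → ∃ g : H, orderOf g = 2 * r) ∨
      ∀ x : isos (form 3 F), Odd (orderOf x) → ∃ g : H, orderOf g = 2 * orderOf x := by
  rcases cover_red (by omega) (perf_isos le_rfl) π hπ h2 hne with ⟨J, hJ, h3⟩ | h3
  · rcases sp_cases_three (F := F) hJ (fun N => ∃ g : H, orderOf g = N) h3 with h | h | h
    · exact Or.inl h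
    · exact Or.inr (Or.inl h)
    · exact Or.inr (Or.inr (Or.inl h))
  · exact Or.inr (Or.inr (Or.inr h3))

end three

end Cfsg.Agent.H231.Fx
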