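import Cfsg.Agent.H231.FxB
import Cfsg.Agent.Nodes.WittAll

/-!
# Flags of a Witt frame (helper231)

* `Fl Fr s j` : the span of `b (i, s)`, `i ≤ j`;
* `rg_stab` : `rg x` stabilises `Fl true j` if `0 ≤ x j`, and `Fl false j` if `x j ≤ 0`;
* **`not_big`** : if some `z ≠ 0` in `Fl true j` is mapped by `g` into the orthogonal space of `Fl false j`, then
  `φ g ∉ B⁻ W_J B` for `j ∉ J`.
-/

set_option autoImplicit false
set_option linter.unusedSectionVars false
set_option linter.style.haveILetI false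

namespace Cfsg.Agent.H231.Fx

open CoxeterSystem Cfsg.Agent.ChevalleyStructure.CoxeterGeom Cfsg.Agent.Tits.Roots Cfsg.Agent.Nodes.TypeC
open Cfsg.Agent.Nodes.Comb Cfsg.Agent.Nodes.Reps Cfsg.Agent.Nodes.WittRoot Cfsg.Agent.Nodes.BNOf
open Cfsg.Agent.Nodes.WittRGD Cfsg.Agent.Nodes.RGDLib Cfsg.Agent.Nodes.WittAll Cfsg.Agent.Nodes
open Cfsg.Agent.TitsThree Cfsg.Agent.TitsThree.Siegel Cfsg.Agent.TitsThree.WittFrame
  Cfsg.Agent.TitsThree.WittWeyl Cfsg.Agent.TitsThree.FrameCN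

/-! ### partial sums -/

section comb

variable {n : ℕ}

theorem sum_ee (m : Fin n) (x : Fin n → ℤ) :
    ∑ k ∈ Finset.Iic m, ee x k = (if (m : ℕ) + 1 < n then 1 else 2) * x m := by
  have h1 : ∀ k, ee x k = ∑ j, x j * bt j k := by
    intro k
    simp [ee, Finset.sum_apply]
  simp only [h1]
  rw [Finset.sum_comm]
  simp only [← Finset.mul_sum, sum_bt]
  rw [Finset.sum_eq_single m]
  · simp only [if_true]
    split_ifs <;> ring
  · intro j _ hj
    simp [Ne.symm hj]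
  · simp

/-- the sign of a signed index below `j` -/
def sgn (j : Fin n) (a : Fin n × Bool) : ℤ := if a.1 ≤ j then (if a.2 then 1 else -1) else 0

theorem sum_wt (m : Fin n) (a : Fin n × Bool) : ∑ k ∈ Finset.Iic m, wt a k = sgn m a := by
  unfold wt sgn
  rw [Finset.sum_pi_single']
  simp only [Finset.mem_Iic]

theorem sgn_add {x : Fin n → ℤ} {a b : Fin n × Bool} (e : ee x = wt a + wt b) (j : Fin n) :
    sgn j a + sgn j b = (if (j : ℕ) + 1 < n then 1 else 2) * x j := by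
  rw [← sum_ee, e, ← sum_wt, ← sum_wt, ← Finset.sum_add_distrib]
  rfl

/-- the sign with respect to `s` -/
def sgs (s : Bool) (j : Fin n) (a : Fin n × Bool) : ℤ := if a.1 ≤ j then (if a.2 = s then 1 else -1) else 0

theorem sgs_true (j : Fin n) (a : Fin n × Bool) : sgs true j a = sgn j a := by
  unfold sgs sgn
  rfl

theorem sgs_false (j : Fin n) (a : Fin n × Bool) : sgs false j a = -sgn j a := by
  unfold sgs sgn
  obtain ⟨i, s⟩ := a
  cases s <;> simp <;> split_ifs <;> rfl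

end comb

variable {F : Type*} [Field F] {V : Type*} [AddCommGroup V] [Module F V] {H : HForm F V} {n : ℕ}
  (Fr : Frame H (Fin n))

/-- the standard flag -/
def Fl (s : Bool) (j : Fin n) : Submodule F V := Submodule.span F {v | ∃ i, i ≤ j ∧ v = Fr.b (i, s)}

variable {Fr}

theorem b_mem_Fl {s : Bool} {i j : Fin n} (h : i ≤ j) : Fr.b (i, s) ∈ Fl Fr s j :=
  Submodule.subset_span ⟨i, h, rfl⟩

/-- a vector of the flag is orthogonal to all `b a` except the opposite ones -/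
theorem h_Fl {s : Bool} {j : Fin n} {a : Fin n × Bool} (ha : ¬ (a.1 ≤ j ∧ a.2 ≠ s)) {v : V} (hv : v ∈ Fl Fr s j) :
    H.h v (Fr.b a) = 0 := by
  induction hv using Submodule.span_induction with
  | mem x hx =>
    obtain ⟨i, hi, rfl⟩ := hx
    refine Fr.hb_ne fun e => ha ?_
    rw [e]
    refine ⟨hi, ?_⟩
    cases s <;> simp
  | zero => exact H.zero_left _
  | add x y _ _ hx hy => rw [H.add_left, hx, hy, add_zero]
  | smul c x _ hx => rw [H.smul_left, hx, mul_zero]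

theorem h_Fl_V0 {s : Bool} {j : Fin n} {w : V} (hw : w ∈ Fr.V0) {v : V} (hv : v ∈ Fl Fr s j) : H.h v w = 0 := by
  induction hv using Submodule.span_induction with
  | mem x hx =>
    obtain ⟨i, hi, rfl⟩ := hx
    exact Fr.h0 _ _ hw
  | zero => exact H.zero_left _
  | add x y _ _ hx hy => rw [H.add_left, hx, hy, add_zero]
  | smul c x _ hx => rw [H.smul_left, hx, mul_zero]

/-- the stabiliser of a subspace -/
def stb (L : Submodule F V) : Subgroup (V ≃ₗ[F] V) where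
  carrier := {g | (∀ v ∈ L, g v ∈ L) ∧ ∀ v ∈ L, g⁻¹ v ∈ L}
  one_mem' := ⟨fun _ h => h, fun _ h => h⟩
  mul_mem' := by
    rintro a b ⟨ha, ha'⟩ ⟨hb, hb'⟩
    refine ⟨fun v hv => ha _ (hb v hv), fun v hv => ?_⟩
    rw [mul_inv_rev]
    exact hb' _ (ha' v hv)
  inv_mem' := by
    rintro a ⟨ha, ha'⟩
    exact ⟨ha', fun v hv => by rw [inv_inv]; exact ha v hv⟩

theorem le_stb {L : Submodule F V} {A : Subgroup (V ≃ₗ[F] V)} (h : ∀ g ∈ A, ∀ v ∈ L, g v ∈ L) : A ≤ stb L :=
  fun g hg => ⟨h g hg, h _ (inv_mem hg)⟩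

theorem sie_apply (u w : V) (c : F) (hu : H.h u u = 0) (hw : H.h u w = 0) (v : V) :
    H.sie u w c hu hw v = v + H.h v u • w - (H.ε⁻¹ * H.h v w) • u + (c * H.h v u) • u := rfl

theorem PG_stab {a b : Fin n × Bool} (hab : Ok a b) {s : Bool} {j : Fin n} (h : 0 ≤ sgs s j a + sgs s j b) :
    PG Fr a b ≤ stb (Fl Fr s j) := by
  have key : ∀ a b : Fin n × Bool, 0 ≤ sgs s j a + sgs s j b → a.1 ≤ j ∧ a.2 ≠ s → Fr.b b ∈ Fl Fr s j := by
    rintro ⟨i, s'⟩ ⟨l, t⟩ h ⟨h1, h2⟩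
    unfold sgs at h
    simp only at h h1 h2
    rw [if_pos h1, if_neg h2] at h
    split_ifs at h with h3 h4
    · subst h4
      exact b_mem_Fl h3
    all_goals omega
  refine le_stb fun g hg v hv => ?_
  rcases hab with h1 | rfl
  · rw [PG_ne Fr h1] at hg
    obtain ⟨t, rfl⟩ := hg
    rw [Fr.X_eq h1, sie_apply, zero_mul, zero_smul, add_zero]
    refine Submodule.sub_mem _ (Submodule.add_mem _ hv ?_) ?_
    · by_cases ha : a.1 ≤ j ∧ a.2 ≠ s
      · exact Submodule.smul_mem _ _ (Submodule.smul_mem _ _ (key a b h ha))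
      · rw [h_Fl ha hv, zero_smul]
        exact zero_mem _
    · by_cases hb : b.1 ≤ j ∧ b.2 ≠ s
      · exact Submodule.smul_mem _ _ (key b a (by rw [add_comm]; exact h) hb)
      · rw [H.smul_right, h_Fl hb hv, mul_zero, mul_zero, zero_smul]
        exact zero_mem _
  · rw [PG_self] at hg
    obtain ⟨q, rfl⟩ := hg
    have ha : ¬ (a.1 ≤ j ∧ a.2 ≠ s) := by
      rintro ⟨h1, h2⟩
      unfold sgs at h
      rw [if_pos h1, if_neg h2] at h
      omega
    unfold Frame.Z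
    rw [sie_apply, h_Fl ha hv, h_Fl_V0 (Fr.ok_mem q.ok) hv]
    simpa using hv

theorem rg_stab {x : Fin n → ℤ} {s : Bool} {j : Fin n} (h : if s then 0 ≤ x j else x j ≤ 0) :
    WittRoot.rg Fr x ≤ stb (Fl Fr s j) := by
  refine iSup_le ?_
  rintro ⟨⟨a, b⟩, hab, e⟩
  refine PG_stab hab ?_
  have h1 := sgn_add e j
  cases s
  · rw [sgs_false, sgs_false]
    simp only [Bool.false_eq_true, if_false] at h
    split_ifs at h1 <;> simp only at h1 ⊢ <;> omega
  · rw [sgs_true, sgs_true]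
    simp only [if_true] at h
    split_ifs at h1 <;> simp only at h1 ⊢ <;> omega

theorem mono_stab {g : V ≃ₗ[F] V} (hg : Mono Fr g id) (s : Bool) (j : Fin n) : g ∈ stb (Fl Fr s j) := by
  have key : ∀ g : V ≃ₗ[F] V, Mono Fr g id → ∀ v ∈ Fl Fr s j, g v ∈ Fl Fr s j := by
    intro g hg v hv
    induction hv using Submodule.span_induction with
    | mem x hx =>
      obtain ⟨i, hi, rfl⟩ := hx
      obtain ⟨l, -, e⟩ := hg (i, s)
      rw [e]
      exact Submodule.smul_mem _ _ (b_mem_Fl hi)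
    | zero => rw [map_zero]; exact zero_mem _
    | add x y _ _ hx hy => rw [map_add]; exact add_mem hx hy
    | smul c x _ hx => rw [map_smul]; exact Submodule.smul_mem _ _ hx
  exact ⟨key g hg, key _ (hg.inv (ρ := id) fun _ => rfl)⟩

/-- a vector of `Fl true j` orthogonal to `Fl false j` is zero -/
theorem eq_zero_of_orth {j : Fin n} {v : V} (hv : v ∈ Fl Fr true j) (h0 : ∀ i, i ≤ j → H.h v (Fr.b (i, false)) = 0) :
    v = 0 := by
  have h1 : v ∈ Submodule.span F (Set.range fun i : {i : Fin n // i ≤ j} => Fr.b (i.1, true)) := by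
    refine Submodule.span_mono ?_ hv
    rintro _ ⟨i, hi, rfl⟩
    exact ⟨⟨i, hi⟩, rfl⟩
  rw [Submodule.mem_span_range_iff_exists_fun] at h1
  obtain ⟨c, rfl⟩ := h1
  have hs : ∀ (t : Finset {i : Fin n // i ≤ j}) (w : V), H.h (∑ i ∈ t, c i • Fr.b (i.1, true)) w =
      ∑ i ∈ t, c i * H.h (Fr.b (i.1, true)) w := by
    intro t w
    induction t using Finset.induction_on with
    | empty => simp [H.zero_left]
    | insert a t ha ih => rw [Finset.sum_insert ha, Finset.sum_insert ha, H.add_left, H.smul_left, ih]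
  refine Finset.sum_eq_zero fun i _ => ?_
  have h2 := h0 i.1 i.2
  rw [hs, Finset.sum_eq_single i] at h2
  · have h3 : H.h (Fr.b (i.1, true)) (Fr.b (i.1, false)) = 1 := by
      rw [Fr.hb]
      simp
    rw [h3, mul_one] at h2
    rw [h2, zero_smul]
  · intro l _ hl
    rw [Fr.hb_of_ne (fun e => hl (Subtype.ext e)), mul_zero]
  · intro h
    exact absurd (Finset.mem_univ i) h

theorem iso_orth {g : V ≃ₗ[F] V} (hg : H.IsIso g) {L : Submodule F V} (hL : g ∈ stb L) {v : V}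
    (hv : ∀ w ∈ L, H.h (g v) w = 0) : ∀ w ∈ L, H.h v w = 0 := by
  intro w hw
  have := hv _ (hL.1 w hw)
  rwa [hg] at this

section Model

variable {K : Type*} [Group K] (M : Model Fr K) {p : ℕ} (hA : AmbT Fr p M.I) [Finite V] [Fact p.Prime] [CharP F p]
  {W : Type*} [Group W] (cs : CoxeterSystem (CoxeterMatrix.B n) W)

/-- the image of a subgroup -/
def lft (S : Subgroup (V ≃ₗ[F] V)) : Subgroup K := (S.subgroupOf M.I).map M.φ

theorem mem_lft {S : Subgroup (V ≃ₗ[F] V)} {k : K} : k ∈ lft M S ↔ ∃ (g : V ≃ₗ[F] V) (hg : g ∈ M.I), g ∈ S ∧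
    M.φ ⟨g, hg⟩ = k := by
  constructor
  · rintro ⟨⟨g, hg⟩, h1, rfl⟩
    exact ⟨g, hg, Subgroup.mem_subgroupOf.1 h1, rfl⟩
  · rintro ⟨g, hg, h1, rfl⟩
    exact ⟨⟨g, hg⟩, Subgroup.mem_subgroupOf.2 h1, rfl⟩

theorem T_le_lft (s : Bool) (j : Fin n) : WittModel.T M ≤ lft M (stb (Fl Fr s j)) := by
  unfold WittModel.T lft
  refine Subgroup.map_mono ?_
  intro g hg
  exact mono_stab (Subgroup.mem_subgroupOf.1 hg).2 s j

theorem X_le_lft {x : Fin n → ℤ} {s : Bool} {j : Fin n} (h : if s then 0 ≤ x j else x j ≤ 0) :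
    WittModel.X M x ≤ lft M (stb (Fl Fr s j)) := by
  unfold WittModel.X lft
  refine Subgroup.map_mono ?_
  intro g hg
  exact rg_stab h (Subgroup.mem_subgroupOf.1 hg)

theorem Par_le_lft (j : Fin n) : Par cs (isCartan n) (WittModel.T M) (WittModel.X M) j ≤ lft M (stb (Fl Fr true j)) :=
  Par_le (T_le_lft M true j) fun _ _ h0 => X_le_lft M (by simpa using h0)

theorem ParN_le_lft (j : Fin n) :
    ParN cs (isCartan n) (WittModel.T M) (WittModel.X M) j ≤ lft M (stb (Fl Fr false j)) :=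
  ParN_le (T_le_lft M false j) fun _ _ h0 => X_le_lft M (by simpa using h0)

include hA in
/-- **the criterion** -/
theorem not_big {p0 : Fr.Adm} (hp0 : p0.c ≠ 0) {j : Fin n} {J : Set (Fin n)} (hj : j ∉ J) {g : V ≃ₗ[F] V}
    (hg : g ∈ M.I) {z : V} (hz0 : z ≠ 0) (hz : z ∈ Fl Fr true j) (hgz : ∀ i, i ≤ j → H.h (g z) (Fr.b (i, false)) = 0) :
    ¬ Big (rgdC_model M hA hp0 cs).nsys cs (isCartan n) (WittModel.X M) J (M.φ ⟨g, hg⟩) := by
  intro hbig
  obtain ⟨a, ha, b, hb, e⟩ := big_parab (rgdC_model M hA hp0 cs) hj hbig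
  obtain ⟨α, hα, hαs, rfl⟩ := (mem_lft M).1 (ParN_le_lft M cs j ha)
  obtain ⟨β, hβ, hβs, rfl⟩ := (mem_lft M).1 (Par_le_lft M cs j hb)
  have h1 : M.φ (⟨g, hg⟩⁻¹ * (⟨α, hα⟩ * ⟨β, hβ⟩)) = 1 := by
    rw [map_mul, map_inv, map_mul, ← e, inv_mul_cancel]
  obtain ⟨c, hc⟩ : ∃ c : F, (g⁻¹ * (α * β)) z = c • z := M.ker z _ h1
  have h2 : α (β z) = c • g z := by
    have h3 := congrArg g hc
    rw [map_smul] at h3
    rw [← h3]
    exact (g.apply_symm_apply _).symm
  have h3 : ∀ w ∈ Fl Fr false j, H.h (α (β z)) w = 0 := by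
    intro w hw
    induction hw using Submodule.span_induction with
    | mem x hx =>
      obtain ⟨i, hi, rfl⟩ := hx
      rw [h2, H.smul_left, hgz i hi, mul_zero]
    | zero => exact H.zero_right _
    | add x y _ _ hx hy => rw [H.add_right, hx, hy, add_zero]
    | smul c x _ hx => rw [H.smul_right, hx, mul_zero]
  have h4 := iso_orth (hA.iso _ hα) hαs h3
  have h5 : β z = 0 := eq_zero_of_orth (hβs.1 z hz) fun i hi => h4 _ (b_mem_Fl hi)
  exact hz0 (β.map_eq_zero_iff.1 h5)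

end Model

end Cfsg.Agent.H231.Fx
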