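import Cfsg.Agent.H231.WClos
import Cfsg.Agent.PLocal.OffenderStep

/-!
# Large subgroups: basic facts
-/

set_option autoImplicit false
set_option linter.unusedSectionVars false

namespace Cfsg.Agent.H231

open Subgroup Cfsg H230 H227.Weak
open scoped commutatorElement

variable {G : Type*} [Group G] [Finite G] {p : ℕ} [Fact p.Prime]

/-- the `Q!`-property in usable form: for `1 ≠ U ≤ C(Q)` we have `C(U) ≤ N(U) ≤ N(Q)`. -/
theorem large_centralizer_le {Q U : Subgroup G} (hQ : IsLarge Q)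
    (hU : U ≤ centralizer (Q : Set G)) (hU1 : U ≠ ⊥) :
    centralizer (U : Set G) ≤ normalizer (Q : Set G) :=
  (centralizer_le_normalizer _).trans (hQ.2 U hU hU1)

/-- A nontrivial `p`-subgroup `Y` normalized by the large `p`-subgroup `Q`: `C(Y) ≤ N(Q)`. -/
theorem large_centralizer_le_normalizer {Q Y : Subgroup G} (hQp : IsPGroup p Q) (hQ : IsLarge Q)
    (hY : IsPGroup p Y) (hY1 : Y ≠ ⊥) (hQY : Q ≤ normalizer (Y : Set G)) :
    centralizer (Y : Set G) ≤ normalizer (Q : Set G) := by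
  have h1 : Y ⊓ centralizer (Q : Set G) ≠ ⊥ :=
    PLocal.OffenderStep.inf_centralizer_ne_bot Y Q hY hQp hQY hY1
  refine le_trans ?_ (large_centralizer_le hQ inf_le_right h1)
  exact centralizer_le (inf_le_left : Y ⊓ centralizer (Q : Set G) ≤ Y)

/-- A nontrivial `p`-subgroup `Y` centralized by the large `p`-subgroup `Q`: `N(Y) ≤ N(Q)`. -/
theorem large_normalizer_le {Q Y : Subgroup G} (hQ : IsLarge Q)
    (hY1 : Y ≠ ⊥) (hQY : Q ≤ centralizer (Y : Set G)) :
    normalizer (Y : Set G) ≤ normalizer (Q : Set G) :=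
  hQ.2 Y (le_centralizer_iff.1 hQY) hY1

/-- A nontrivial large `p`-subgroup is weakly closed. -/
theorem large_wc {Q : Subgroup G} (hQp : IsPGroup p Q) (hQ1 : Q ≠ ⊥) (hQ : IsLarge Q) :
    IsWeaklyClosedSubgroup p Q := by
  rw [iff_normalizer hQp]
  intro R hR hQR
  have hR1 : R ≠ ⊥ := by
    rintro rfl
    exact hQ1 (le_bot_iff.1 hQR)
  have h1 : R ⊓ centralizer (R : Set G) ≠ ⊥ :=
    PLocal.OffenderStep.inf_centralizer_ne_bot R R hR hR le_normalizer hR1
  have h2 : R ⊓ centralizer (R : Set G) ≤ centralizer (Q : Set G) :=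
    inf_le_right.trans (centralizer_le hQR)
  refine le_trans ?_ (hQ.2 _ h2 h1)
  exact le_normalizer_inf le_rfl (normalizer_le_normalizer_centralizer R)

/-- `[C_E(Y), E°] ≤ O_p(C_E(Y))` for `Q ≤ E ≤ N(Y)`, `1 ≠ Y` a `p`-subgroup. -/
theorem large_commutator_le {Q Y E : Subgroup G} (hQp : IsPGroup p Q) (hQ1 : Q ≠ ⊥)
    (hQ : IsLarge Q) (hY : IsPGroup p Y) (hY1 : Y ≠ ⊥) (hQE : Q ≤ E)
    (hEY : E ≤ normalizer (Y : Set G)) :
    ⁅E ⊓ centralizer (Y : Set G), weakClosure Q E⁆ ≤
      pCoreOf p (E ⊓ centralizer (Y : Set G) : Subgroup G) := by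
  have hwc := large_wc hQp hQ1 hQ
  set C := E ⊓ centralizer (Y : Set G) with hC
  have hCQ : C ≤ normalizer (Q : Set G) :=
    inf_le_right.trans (large_centralizer_le_normalizer hQp hQ hY hY1 (hQE.trans hEY))
  have hEC : E ≤ normalizer (C : Set G) :=
    le_normalizer_inf le_normalizer (hEY.trans (normalizer_le_normalizer_centralizer Y))
  have hEP : E ≤ normalizer ((pCoreOf p C : Subgroup G) : Set G) :=
    hEC.trans (H227.Weak.normalizer_le_normalizer_pCoreOf p C)
  rw [weakClosure_eq hQp hwc hQE]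
  refine commutator_iSup_le (fun k => ?_) fun k => ?_
  · have := cj_mono (k : G) hQE
    rw [cj_eq_self_of_mem k.2] at this
    exact this.trans hEP
  · have h1 : C ≤ normalizer ((cj (k : G) Q : Subgroup G) : Set G) := by
      have := le_normalizer_cj (g := (k : G)) hCQ
      rwa [cj_eq_self_iff.2 (hEC k.2)] at this
    have h2 : cj (k : G) Q ≤ normalizer (C : Set G) := by
      have := cj_mono (k : G) hQE
      rw [cj_eq_self_of_mem k.2] at this
      exact this.trans hEC
    refine (le_inf (commutator_le_of_le_normalizer h2) (commutator_le_of_le_normalizer' h1)).trans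
      (le_pCoreOf ?_ inf_le_left ?_)
    · exact (isPGroup_cj hQp (k : G)).to_le inf_le_right
    · exact le_normalizer_inf le_normalizer h1

end Cfsg.Agent.H231
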