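import Mathlib
import Cfsg.Agent.H375.Out.Def
import Cfsg.Agent.H375.Odd.NEQ

/-!
# Outer automorphisms of order two, characteristic two: orders `2 T`, `4 T` do not occur in `Ω(Q)` (helper231)

BLOCK E, piece E5 (B).
-/

set_option autoImplicit false
set_option linter.unusedVariables false
set_option linter.unusedSectionVars false

namespace Cfsg.Agent.H231.OutB

open Module Finset QuadraticMap Cfsg Cfsg.Agent.H375 Cfsg.Agent.H375.Odd Cfsg.Agent.H375.Out

section Abs

variable {F : Type*} [Field F] [Fintype F] [CharP F 2] {V : Type*} [AddCommGroup V] [Module F V]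
  [FiniteDimensional F V] {β : V →ₗ[F] V →ₗ[F] F}

theorem odd_card_pow_sub_one {m : ℕ} (hm : 0 < m) : Odd (Fintype.card F ^ m - 1) := by
  obtain ⟨k, hk0, hk⟩ := exists_card (F := F)
  rw [hk, ← pow_mul]
  have h1 : Even (2 ^ (k * m)) := (Nat.even_pow.2 ⟨even_two, (Nat.mul_pos hk0 hm).ne'⟩)
  exact Nat.Even.sub_odd Nat.one_le_two_pow h1 odd_one

/-- The 2-part of an element commuting with a torus element of odd degree is trivial on the large part. -/
theorem parts (h : Alt β) {l a m c : ℕ} (hz : Zs (Fintype.card F) l a m) (hm : Odd m)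
    (hdim : finrank F V < 4 * m) {y : V ≃ₗ[F] V} (hyβ : y ∈ Isom β) (hy : orderOf y = 2 ^ c * l ^ (a + 1)) :
    ∃ s : V ≃ₗ[F] V, Tor s l a m ∧ s ∈ Isom β ∧ orderOf (y ^ l ^ (a + 1)) = 2 ^ c ∧
      (∀ v, (y ^ l ^ (a + 1)) (s v) = s ((y ^ l ^ (a + 1)) v)) ∧
      (∀ w ∈ bW (s ^ l ^ a), (y ^ l ^ (a + 1)) w = w) ∧ finrank F (bW (s ^ l ^ a)) = 2 * m := by
  have hlN := pow_pos hz.hl.pos (a + 1)
  have h2c : 0 < 2 ^ c := pow_pos two_pos c
  set s := y ^ 2 ^ c with hs
  set u := y ^ l ^ (a + 1) with hu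
  have hso : orderOf s = l ^ (a + 1) := by
    rw [hs, orderOf_pow_of_dvd h2c.ne' (by rw [hy]; exact dvd_mul_right _ _), hy, Nat.mul_div_cancel_left _ h2c]
  have huo : orderOf u = 2 ^ c := by
    rw [hu, orderOf_pow_of_dvd hlN.ne' (by rw [hy]; exact dvd_mul_left _ _), hy, Nat.mul_div_cancel _ hlN]
  have hT : Tor s l a m := hz.tor hso
  have hsβ : s ∈ Isom β := (Isom β).pow_mem hyβ _
  have huβ : u ∈ Isom β := (Isom β).pow_mem hyβ _
  have hus : ∀ v, u (s v) = s (u v) := fun v => by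
    show (y ^ l ^ (a + 1) * y ^ 2 ^ c) v = (y ^ 2 ^ c * y ^ l ^ (a + 1)) v
    rw [← pow_add, ← pow_add, add_comm]
  obtain ⟨h1, -, h2⟩ := odd_case h hT hsβ hm hdim
  refine ⟨s, hT, hsβ, huo, hus, ?_, h1⟩
  intro w hw
  have h3 := h2 u huβ hus w hw
  have h4 : (u ^ 2 ^ c) w = w := by rw [← huo, pow_orderOf_eq_one]; rfl
  have h5 : (Fintype.card F ^ m - 1).Coprime (2 ^ c) := by
    have h6 : Odd (Fintype.card F ^ m - 1) := odd_card_pow_sub_one (by have := hz.he; omega)
    exact (Nat.coprime_two_right.2 h6).pow_right c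
  have h6 := CovTwo.isPeriodicPt.2 h3
  have h7 := CovTwo.isPeriodicPt.2 h4
  have h8 := h6.gcd h7
  rw [h5] at h8
  have h9 := CovTwo.isPeriodicPt.1 h8
  rwa [pow_one] at h9

theorem add_self_V (F : Type*) [Field F] [CharP F 2] {V : Type*} [AddCommGroup V] [Module F V] (v : V) : v + v = 0 := by
  have h2 : v + v = (0 : F) • v := by
    rw [← CharTwo.add_self_eq_zero (1 : F), add_smul, one_smul]
  rw [h2, zero_smul]

theorem sub_eq_add_V (F : Type*) [Field F] [CharP F 2] {V : Type*} [AddCommGroup V] [Module F V] (v w : V) :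
    v - w = v + w := by
  rw [sub_eq_add_neg, neg_eq_of_add_eq_zero_left (add_self_V F w)]

/-- `im (u - 1)` lies in the small part. -/
theorem bW_le_bV {s u : V ≃ₗ[F] V} {l a m : ℕ} (hs : Tor s l a m) (hus : ∀ v, u (s v) = s (u v))
    (huw : ∀ w ∈ bW (s ^ l ^ a), u w = w) : bW u ≤ bV (s ^ l ^ a) := by
  rintro _ ⟨v, rfl⟩
  obtain ⟨w, hw, x, hx, rfl⟩ := exists_split (hs.hl.odd_of_ne_two hs.hl2) hs.ht v
  show u (w + x) - (w + x) ∈ _
  rw [map_add, huw w hw]
  have h1 : w + u x - (w + x) = u x - x := by abel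
  rw [h1]
  refine Submodule.sub_mem _ ?_ hx
  rw [mem_bV] at hx ⊢
  rw [← comm_pow hus, hx]

/-- An involution trivial on the large part whose commutator space has even dimension at most two is trivial. -/
theorem eq_one_of_two {s u : V ≃ₗ[F] V} {l a m : ℕ} (hs : Tor s l a m) (hus : ∀ v, u (s v) = s (u v))
    (huw : ∀ w ∈ bW (s ^ l ^ a), u w = w) (h2 : finrank F (bV (s ^ l ^ a)) ≤ 2) (hu2 : u ^ 2 = 1)
    (hev : Even (finrank F (bW u))) : u = 1 := by
  by_contra hne
  have h1 := bW_le_bV hs hus huw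
  have h3 := Submodule.finrank_mono h1
  have h4 : finrank F (bW u) ≠ 0 := fun h => bW_ne_bot hne (Submodule.finrank_eq_zero.1 h)
  obtain ⟨k, hk⟩ := hev
  have h5 : bW u = bV (s ^ l ^ a) := Submodule.eq_of_le_of_finrank_le h1 (by omega)
  apply hne
  apply LinearEquiv.ext
  intro v
  obtain ⟨w, hw, x, hx, rfl⟩ := exists_split (hs.hl.odd_of_ne_two hs.hl2) hs.ht v
  rw [← h5] at hx
  obtain ⟨z, rfl⟩ := hx
  have h6 : u (u z) = z := by
    have : (u ^ 2) z = z := by rw [hu2]; rfl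
    rwa [pow_two] at this
  show u (w + (u z - z)) = w + (u z - z)
  rw [map_add, huw w hw, map_sub, h6, sub_eq_add_V F, sub_eq_add_V F, add_comm z]

/-- The map `u - 1 = u + 1`. -/
def NN (u : V ≃ₗ[F] V) : V →ₗ[F] V := (u : V →ₗ[F] V) - LinearMap.id

theorem NN_apply (u : V ≃ₗ[F] V) (v : V) : NN u v = u v + v := by
  show u v - v = _
  rw [sub_eq_add_V F]

theorem range_NN (u : V ≃ₗ[F] V) : LinearMap.range (NN u) = bW u := rfl

theorem NN_two (u : V ≃ₗ[F] V) (v : V) : NN u (NN u v) = u (u v) + v := by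
  rw [NN_apply, NN_apply, map_add]
  have : u (u v) + u v + (u v + v) = u (u v) + v + (u v + u v) := by abel
  rw [this, add_self_V F, add_zero]

theorem NN_four {u : V ≃ₗ[F] V} (hu : u ^ 4 = 1) (v : V) : NN u (NN u (NN u (NN u v))) = 0 := by
  rw [NN_two, NN_two, map_add, map_add]
  have h1 : u (u (u (u v))) = v := by
    have : (u ^ 4) v = v := by rw [hu]; rfl
    exact this
  rw [h1]
  have : v + u (u v) + (u (u v) + v) = (v + v) + (u (u v) + u (u v)) := by abel
  rw [this, add_self_V F, add_self_V F, add_zero]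

/-- A nilpotent map strictly decreases an invariant subspace. -/
theorem map_lt {u : V ≃ₗ[F] V} (hu : u ^ 4 = 1) {S : Submodule F V} (hS : ∀ v ∈ S, NN u v ∈ S) (h0 : S ≠ ⊥) :
    S.map (NN u) < S := by
  have hle : S.map (NN u) ≤ S := by
    rintro _ ⟨v, hv, rfl⟩
    exact hS v hv
  refine lt_of_le_of_ne hle fun h => h0 ?_
  rw [eq_bot_iff]
  intro v hv
  have key : ∀ w ∈ S, ∃ z ∈ S, NN u z = w := by
    intro w hw
    rw [← h] at hw
    obtain ⟨z, hz, hzw⟩ := hw
    exact ⟨z, hz, hzw⟩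
  obtain ⟨a, ha, rfl⟩ := key v hv
  obtain ⟨b, hb, rfl⟩ := key a ha
  obtain ⟨c, hc, rfl⟩ := key b hb
  obtain ⟨d, hd, rfl⟩ := key c hc
  rw [NN_four hu]
  exact Submodule.zero_mem _

/-- An element of order dividing four, trivial on the large part, whose commutator space has even dimension; the small
part has dimension four: it is an involution. -/
theorem sq_eq_one_of_four (h : Alt β) {s u : V ≃ₗ[F] V} {l a m : ℕ} (hs : Tor s l a m) (hus : ∀ v, u (s v) = s (u v))
    (huβ : u ∈ Isom β)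
    (huw : ∀ w ∈ bW (s ^ l ^ a), u w = w) (h4 : finrank F (bV (s ^ l ^ a)) ≤ 4) (hu4 : u ^ 4 = 1)
    (hev : Even (finrank F (bW u))) : u ^ 2 = 1 := by
  by_contra hne
  have hne1 : u ≠ 1 := by rintro rfl; exact hne (one_pow 2)
  have h1 := bW_le_bV hs hus huw
  have h3 := Submodule.finrank_mono h1
  have h5 : finrank F (bW u) ≠ 0 := fun h => bW_ne_bot hne1 (Submodule.finrank_eq_zero.1 h)
  set R1 := bW u with hR1
  have hR1s : ∀ v ∈ R1, NN u v ∈ R1 := fun v _ => ⟨v, rfl⟩
  have hlt1 := map_lt hu4 hR1s (fun h0 => h5 (by rw [h0, finrank_bot]))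
  have h6 : finrank F R1 = 2 := by
    obtain ⟨k, hk⟩ := hev
    have h7 : finrank F R1 ≠ 4 := by
      intro h8
      have h9 : R1 = bV (s ^ l ^ a) := Submodule.eq_of_le_of_finrank_le h1 (by omega)
      apply absurd hlt1
      intro hlt
      apply hlt.2
      rintro _ ⟨v, rfl⟩
      obtain ⟨w, hw, x, hx, rfl⟩ := exists_split (hs.hl.odd_of_ne_two hs.hl2) hs.ht v
      refine ⟨x, h9 ▸ hx, ?_⟩
      show NN u x = NN u (w + x)
      rw [map_add]
      have : NN u w = 0 := by rw [NN_apply, huw w hw, add_self_V F]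
      rw [this, zero_add]
    omega
  set R2 := R1.map (NN u) with hR2
  have h7 : finrank F R2 < 2 := h6 ▸ Submodule.finrank_lt_finrank_of_lt hlt1
  have hR2s : ∀ v ∈ R2, NN u v ∈ R2 := by
    rintro _ ⟨v, hv, rfl⟩
    exact ⟨NN u v, hR1s v hv, rfl⟩
  have hR2m : ∀ v, NN u (NN u v) ∈ R2 := fun v => ⟨NN u v, ⟨v, rfl⟩, rfl⟩
  obtain ⟨v0, hv0⟩ : ∃ v0, NN u (NN u v0) ≠ 0 := by
    by_contra hcon
    push Not at hcon
    apply hne
    apply LinearEquiv.ext
    intro v
    have := hcon v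
    rw [NN_two, ← sub_eq_add_V F, sub_eq_zero] at this
    rw [pow_two]
    exact this
  have hR2b : R2 ≠ ⊥ := by
    intro hb
    have := hR2m v0
    rw [hb, Submodule.mem_bot] at this
    exact hv0 this
  have h8 : finrank F R2 = 1 := by
    have : finrank F R2 ≠ 0 := fun h => hR2b (Submodule.finrank_eq_zero.1 h)
    omega
  have h9 : ∀ v, NN u (NN u (NN u v)) = 0 := by
    have hlt2 := map_lt hu4 hR2s hR2b
    have h10 : finrank F (R2.map (NN u)) < 1 := h8 ▸ Submodule.finrank_lt_finrank_of_lt hlt2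
    have h11 : R2.map (NN u) = ⊥ := Submodule.finrank_eq_zero.1 (by omega)
    intro v
    have h12 : NN u (NN u (NN u v)) ∈ R2.map (NN u) := ⟨_, hR2m v, rfl⟩
    rwa [h11, Submodule.mem_bot] at h12
  -- the form `β (N² v) v` vanishes
  have hz : ∀ v, β (NN u (NN u v)) v = 0 := by
    intro v
    have e1 : u (u (u v)) + u (u v) + u v + v = 0 := by
      have := h9 v
      rw [NN_two, NN_apply, map_add, map_add] at this
      rw [← this]
      abel
    have e2 : β (u (u (u v))) (u v) + β (u (u v)) (u v) + β (u v) (u v) + β v (u v) = 0 := by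
      rw [← LinearMap.add_apply, ← LinearMap.add_apply, ← LinearMap.add_apply, ← map_add, ← map_add, ← map_add, e1,
        map_zero, LinearMap.zero_apply]
    rw [huβ (u (u v)) v, huβ (u v) v, h.alt, add_zero] at e2
    have e3 : β v (u v) = β (u v) v := h.symm _ _
    rw [e3, add_assoc, CharTwo.add_self_eq_zero, add_zero] at e2
    rw [NN_two, map_add, LinearMap.add_apply, e2, h.alt, add_zero]
  have h13 : ∀ w, β (NN u (NN u v0)) w = 0 := by
    intro w
    obtain ⟨c, hc⟩ : ∃ c : F, c • NN u (NN u v0) = NN u (NN u w) := by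
      have h14 := (finrank_eq_one_iff_of_nonzero' (⟨_, hR2m v0⟩ : R2) (by
        intro h0; exact hv0 (congrArg Subtype.val h0))).1 h8 ⟨_, hR2m w⟩
      obtain ⟨c, hc⟩ := h14
      exact ⟨c, congrArg Subtype.val hc⟩
    have h14 := hz (v0 + w)
    rw [map_add, map_add, map_add, map_add, LinearMap.add_apply, LinearMap.add_apply, hz, hz, zero_add, add_zero,
      ← hc, map_smul, LinearMap.smul_apply, hz, smul_zero, zero_add] at h14
    exact h14
  exact hv0 (h.nd _ h13)

end Abs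

section Coord

variable {F : Type*} [Field F] [Fintype F] [CharP F 2] {ι : Type} [Fintype ι] [DecidableEq ι]
  {Q : QuadraticForm F (ι → F)}

theorem even_bW_of_mem (hQ : (polarBilin Q).Nondegenerate) (h5 : 5 ≤ Fintype.card ι)
    (hev : Even (Fintype.card ι)) {g : (ι → F) ≃ₗ[F] (ι → F)} (hg : g ∈ Om Q) : Even (finrank F (bW g)) := by
  have h1 := ((mem_Om hQ h5 hev).1 hg).2
  have h2 := finrank_bW_add (F := F) g
  rw [Module.finrank_fintype_fun_eq_card] at h2
  rw [← h2, Nat.even_add] at hev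
  exact hev.2 h1

theorem isom_of_mem {g : (ι → F) ≃ₗ[F] (ι → F)} (hg : g ∈ Om Q) : g ∈ Isom (polarBilin Q) :=
  OQ_le (qf_of Q) (Om_le hg)

/-- **No elements of order `2 T`**, `T` of odd degree `m`, `dim V = 2 m` or `2 m + 2`. -/
theorem no_two (hQ : (polarBilin Q).Nondegenerate) {m : ℕ} (hd : Fintype.card ι = 2 * m ∨ Fintype.card ι = 2 * (m + 1))
    (hm : Odd m) {l a : ℕ} (hz : Zs (Fintype.card F) l a m) {y : (ι → F) ≃ₗ[F] (ι → F)} (hy : y ∈ Om Q) :
    orderOf y ≠ 2 * l ^ (a + 1) := by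
  intro ho
  have hm2 := hz.he
  have hm3 : 3 ≤ m := by rcases hm with ⟨k, hk⟩; omega
  have hfr : finrank F (ι → F) = Fintype.card ι := Module.finrank_fintype_fun_eq_card F
  have hev : Even (Fintype.card ι) := by
    rcases hd with hd | hd <;> rw [hd] <;> exact even_two_mul _
  obtain ⟨s, hs, hsβ, huo, hus, huw, hW⟩ := parts (alt_of hQ) hz hm (by rw [hfr]; omega) (isom_of_mem hy)
    (c := 1) (by rw [ho, pow_one])
  have h1 := finrank_bW_add (F := F) (s ^ l ^ a)
  have h2 := eq_one_of_two hs hus huw (by omega) (by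
    rw [← pow_one 2, ← huo, pow_orderOf_eq_one]) (even_bW_of_mem hQ (by omega) hev ((Om Q).pow_mem hy _))
  rw [h2, orderOf_one] at huo
  omega

/-- **No elements of order `4 T`**, `T` of odd degree `m`, `dim V = 2 m + 4`. -/
theorem no_four (hQ : (polarBilin Q).Nondegenerate) {m : ℕ} (hd : Fintype.card ι = 2 * (m + 2))
    (hm : Odd m) {l a : ℕ} (hz : Zs (Fintype.card F) l a m) {y : (ι → F) ≃ₗ[F] (ι → F)} (hy : y ∈ Om Q) :
    orderOf y ≠ 4 * l ^ (a + 1) := by
  intro ho
  have hm2 := hz.he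
  have hm3 : 3 ≤ m := by rcases hm with ⟨k, hk⟩; omega
  have hfr : finrank F (ι → F) = Fintype.card ι := Module.finrank_fintype_fun_eq_card F
  have hev : Even (Fintype.card ι) := by
    rw [hd]; exact even_two_mul _
  obtain ⟨s, hs, hsβ, huo, hus, huw, hW⟩ := parts (alt_of hQ) hz hm (by rw [hfr]; omega) (isom_of_mem hy)
    (c := 2) (by rw [ho]; norm_num)
  have h1 := finrank_bW_add (F := F) (s ^ l ^ a)
  have h2 := sq_eq_one_of_four (alt_of hQ) hs hus (isom_of_mem ((Om Q).pow_mem hy _)) huw (by omega) (by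
    have : (4 : ℕ) = 2 ^ 2 := rfl
    rw [this, ← huo, pow_orderOf_eq_one]) (even_bW_of_mem hQ (by omega) hev ((Om Q).pow_mem hy _))
  have h3 := orderOf_dvd_of_pow_eq_one h2
  rw [huo] at h3
  exact absurd (Nat.le_of_dvd two_pos h3) (by norm_num)

end Coord

end Cfsg.Agent.H231.OutB
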