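import Mathlib
import Cfsg.Agent.H231.OutB1
import Cfsg.Agent.H375.Odd.Std
import Cfsg.Agent.H375.Odd.Levi

/-!
# Outer automorphisms of order two, characteristic two: semilinear isometries and base change (helper231)

BLOCK E, piece E5 (B).
-/

set_option autoImplicit false
set_option linter.unusedVariables false
set_option linter.unusedSectionVars false

namespace Cfsg.Agent.H231.OutB

open Module Finset QuadraticMap Cfsg Cfsg.Agent.H375 Cfsg.Agent.H375.Odd Cfsg.Agent.H375.Out
open Cfsg.Agent.ClassicalGeometry Cfsg.Agent.ClassicalGeometry.OrthSemi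

/-! ### The fixed field -/

section Field

theorem exists_fixed {F : Type*} [Field F] [Fintype F] {σ : F ≃+* F} (h1 : ∃ x, σ x ≠ x) (h2 : ∀ x, σ (σ x) = x) :
    ∃ F0 : Subfield F, Nat.card F0 ^ 2 = Fintype.card F ∧ ∀ x : F0, σ (x : F) = x := by
  classical
  let s : RingAut F := σ
  have hs2 : s ^ 2 = 1 := by
    rw [pow_two]
    ext x
    exact h2 x
  have hs1 : s ≠ 1 := by
    intro h
    obtain ⟨x, hx⟩ := h1
    exact hx (congrArg (fun t : RingAut F => t x) h)
  have ho : orderOf s = 2 := orderOf_eq_prime hs2 hs1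
  let G := Subgroup.zpowers s
  have : Finite (RingAut F) := Finite.of_injective (fun t : RingAut F => (t : F → F)) DFunLike.coe_injective
  have hfin : Finite G := inferInstance
  let _ : Fintype G := Fintype.ofFinite G
  refine ⟨FixedPoints.subfield G F, ?_, ?_⟩
  · have h3 : finrank (FixedPoints.subfield G F) F = 2 := by
      rw [FixedPoints.finrank_eq_card G F, ← Nat.card_eq_fintype_card, Nat.card_zpowers, ho]
    have h4 := Module.natCard_eq_pow_finrank (K := FixedPoints.subfield G F) (V := F)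
    rw [h3] at h4
    rw [← Nat.card_eq_fintype_card, h4]
  · intro x
    exact x.2 ⟨s, Subgroup.mem_zpowers s⟩

theorem exists_GL {F0 : Type*} [Field F0] [Fintype F0] {l m : ℕ} (hl : l.Prime)
    (hdvd : l ∣ Fintype.card F0 ^ m - 1) (hm : 0 < m) : ∃ g : GL (Fin m) F0, orderOf g = l := by
  classical
  have := Fact.mk hl
  refine exists_prime_orderOf_dvd_card' l ?_
  rw [Matrix.card_GL_field]
  refine hdvd.trans ?_
  have := Finset.dvd_prod_of_mem (fun i : Fin m => Fintype.card F0 ^ m - Fintype.card F0 ^ (i : ℕ))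
    (Finset.mem_univ (⟨0, hm⟩ : Fin m))
  simpa using this

theorem Zs_sq {q l m : ℕ} (hm : Odd m) (hz : Zs q l 0 m) : Zs (q ^ 2) l 0 m := by
  refine ⟨hz.hl, hz.hl2, hz.he, fun k => ?_⟩
  rw [← pow_mul, hz.hq, Nat.Coprime.dvd_mul_left (Nat.coprime_two_right.2 hm)]

/-- A matrix of prime order over the fixed field. -/
theorem exists_mat {F : Type*} [Field F] [Fintype F] [CharP F 2] {σ : F ≃+* F} (h1 : ∃ x, σ x ≠ x)
    (h2 : ∀ x, σ (σ x) = x) {m : ℕ} (hm : Odd m) (hm3 : 3 ≤ m) :
    ∃ l, Zs (Fintype.card F) l 0 m ∧ ∃ g h : Matrix (Fin m) (Fin m) F, h * g = 1 ∧ g * h = 1 ∧ g ^ l = 1 ∧ h ^ l = 1 ∧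
      g ≠ 1 ∧ (∀ i j, σ (g i j) = g i j) ∧ ∀ i j, σ (h i j) = h i j := by
  classical
  obtain ⟨F0, hF0, hσ⟩ := exists_fixed h1 h2
  let _ : Fintype F0 := Fintype.ofFinite F0
  have : CharP F0 2 := inferInstance
  obtain ⟨l, hz⟩ := exists_zs (F := F0) (e := m) (by omega) (by
    rintro ⟨-, rfl⟩
    exact absurd hm (by decide))
  have hz2 : Zs (Fintype.card F) l 0 m := by
    rw [← hF0, Nat.card_eq_fintype_card]
    exact Zs_sq hm hz
  have hld : l ∣ Fintype.card F0 ^ m - 1 := by
    have := (hz.hq m).2 dvd_rfl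
    rwa [zero_add, pow_one] at this
  obtain ⟨g, hg⟩ := exists_GL (F0 := F0) hz.hl hld (by omega)
  have hgl : g ^ l = 1 := by rw [← hg, pow_orderOf_eq_one]
  have hginv : (g⁻¹) ^ l = 1 := by rw [inv_pow, hgl, inv_one]
  let f : F0 →+* F := F0.subtype
  let φ := f.mapMatrix (m := Fin m)
  refine ⟨l, hz2, φ (g : Matrix (Fin m) (Fin m) F0), φ ((g⁻¹ : GL (Fin m) F0) : Matrix (Fin m) (Fin m) F0), ?_, ?_, ?_, ?_,
    ?_, ?_, ?_⟩
  · rw [← map_mul, ← Units.val_mul, inv_mul_cancel, Units.val_one, map_one]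
  · rw [← map_mul, ← Units.val_mul, mul_inv_cancel, Units.val_one, map_one]
  · rw [← map_pow, ← Units.val_pow_eq_pow_val, hgl, Units.val_one, map_one]
  · rw [← map_pow, ← Units.val_pow_eq_pow_val, hginv, Units.val_one, map_one]
  · intro h
    have hinj : Function.Injective φ := Matrix.map_injective f.injective
    have h3 : (g : Matrix (Fin m) (Fin m) F0) = 1 := hinj (by rw [h, map_one])
    have h4 : g = 1 := Units.ext h3
    rw [h4, orderOf_one] at hg
    exact hz.hl.one_lt.ne hg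
  · intro i j
    exact hσ _
  · intro i j
    exact hσ _

end Field

/-! ### Semilinear isometries -/

section Semi

variable {F : Type*} [Field F] {V : Type*} [AddCommGroup V] [Module F V] {Q : QuadraticForm F V}

/-- Two semilinear isometries with the same field automorphism differ by a linear isometry. -/
theorem exists_lin {σ : F ≃+* F} {M N : Equiv.Perm V} (hM : IsSS Q σ 1 M) (hN : IsSS Q σ 1 N) :
    ∃ g ∈ OQ (⇑Q), lp F V g * N = M := by
  have h1 := hM.mul hN.inv
  refine ⟨{ toFun := fun v => (M * N⁻¹) v, invFun := fun v => (M * N⁻¹)⁻¹ v, map_add' := h1.add, map_smul' := ?_,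
            left_inv := fun v => OrthSemi.inv_apply _ _, right_inv := fun v => OrthSemi.apply_inv _ _ },
          ?_, ?_⟩
  · intro a v
    show (M * N⁻¹) (a • v) = a • (M * N⁻¹) v
    rw [h1.smul]
    congr 1
    exact σ.apply_symm_apply a
  · intro v
    show Q ((M * N⁻¹) v) = Q v
    rw [h1.form, inv_one, map_one, map_one, one_mul, one_mul]
    exact σ.apply_symm_apply _
  · ext v
    show (M * N⁻¹) (N v) = M v
    show M (N⁻¹ (N v)) = M v
    rw [OrthSemi.inv_apply]

theorem isSS_lp {g : V ≃ₗ[F] V} (hg : g ∈ OQ (⇑Q)) : IsSS Q (RingEquiv.refl F) 1 (lp F V g) :=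
  ⟨one_ne_zero, fun u v => g.map_add u v, fun a v => g.map_smul a v, fun v => by
    rw [one_mul]; exact hg v⟩

/-- Isometries with matrix over the fixed field commute with semilinear isometries fixing the frame. -/
theorem comm_ex {m : ℕ} {a b : Fin m → V} {σ : F ≃+* F} {G : Equiv.Perm V} (hG : IsSS Q σ 1 G)
    (ha : ∀ i, G (a i) = a i) (hb : ∀ i, G (b i) = b i) {M : Matrix (Fin m ⊕ Fin m) (Fin m ⊕ Fin m) F}
    (hM : ∀ i j, σ (M i j) = M i j) (v : V) :
    G (CovTwo.ex (polarBilin Q) a b M v) = CovTwo.ex (polarBilin Q) a b M (G v) := by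
  classical
  have hGsum : ∀ (S : Finset (Fin m ⊕ Fin m)) (f : Fin m ⊕ Fin m → V), G (∑ i ∈ S, f i) = ∑ i ∈ S, G (f i) := by
    intro S f
    induction S using Finset.induction_on with
    | empty => rw [Finset.sum_empty, Finset.sum_empty, hG.map_zero]
    | insert i S hi ih => rw [Finset.sum_insert hi, Finset.sum_insert hi, hG.add, ih]
  have h1 : ∀ x : Fin m ⊕ Fin m → F, G (CovTwo.lc a b x) = CovTwo.lc a b (fun i => σ (x i)) := by
    intro x
    show G (∑ i, x i • (Sum.elim a b i : V)) = ∑ i, σ (x i) • (Sum.elim a b i : V)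
    rw [hGsum]
    refine Finset.sum_congr rfl fun i _ => ?_
    rw [hG.smul]
    congr 1
    rcases i with i | i
    · exact ha i
    · exact hb i
  have h2 : CovTwo.co (polarBilin Q) a b (G v) = fun i => σ (CovTwo.co (polarBilin Q) a b v i) := by
    funext i
    rcases i with i | i
    · rw [CovTwo.co_inl, CovTwo.co_inl]
      show polar Q (G v) (b i) = σ (polar Q v (b i))
      nth_rewrite 1 [← hb i]
      rw [hG.polar, one_mul]
    · rw [CovTwo.co_inr, CovTwo.co_inr]
      show polar Q (G v) (a i) = σ (polar Q v (a i))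
      nth_rewrite 1 [← ha i]
      rw [hG.polar, one_mul]
  rw [CovTwo.ex_apply, CovTwo.ex_apply, hG.add, h1, h2]
  congr 2
  funext i
  rw [Matrix.mulVec, Matrix.mulVec, dotProduct, dotProduct, map_sum]
  refine Finset.sum_congr rfl fun j _ => ?_
  rw [map_mul, Matrix.sub_apply, map_sub, hM]
  congr 2
  rw [Matrix.one_apply]
  split_ifs <;> simp

end Semi

section Coord

variable {F : Type*} [Field F] [Fintype F] [CharP F 2] {ι : Type} [Fintype ι] [DecidableEq ι]
  {Q : QuadraticForm F (ι → F)}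

/-- Elements of odd order are in `Ω`. -/
theorem mem_Om_of_odd (hQ : (polarBilin Q).Nondegenerate) (h5 : 5 ≤ Fintype.card ι)
    (hev : Even (Fintype.card ι)) {g : (ι → F) ≃ₗ[F] (ι → F)} (hg : g ∈ OQ (⇑Q)) {k : ℕ} (hk : Odd k) (hgk : g ^ k = 1) :
    g ∈ Om Q := by
  rw [mem_Om hQ h5 hev]
  refine ⟨hg, ?_⟩
  have h1 := even_bW (alt_of hQ) (OQ_le (qf_of Q) hg) hk hgk
  have h2 := finrank_bW_add (F := F) g
  rw [Module.finrank_fintype_fun_eq_card] at h2
  rw [← h2, Nat.even_add] at hev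
  exact hev.1 h1

/-- **Base change.** A semilinear isometry of 2-power order in `X` which fixes a frame of size `m`, `m` odd, gives an
element of `Ω` whose order is multiplied by `l`. -/
theorem exists_mul (hQ : (polarBilin Q).Nondegenerate) (h5 : 5 ≤ Fintype.card ι) (hev : Even (Fintype.card ι))
    {X : Subgroup (Equiv.Perm (ι → F))} (hX : Hyp Q X) {σ : F ≃+* F} (h1 : ∃ x, σ x ≠ x) (h2 : ∀ x, σ (σ x) = x)
    {m : ℕ} (hm : Odd m) (hm3 : 3 ≤ m) {a b : Fin m → ι → F} (hfr : CovTwo.Fr (polarBilin Q) a b)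
    (hQa : ∀ i, Q (a i) = 0) (hQb : ∀ i, Q (b i) = 0) {G : Equiv.Perm (ι → F)} (hGX : G ∈ X) (hG : IsSS Q σ 1 G)
    (ha : ∀ i, G (a i) = a i) (hb : ∀ i, G (b i) = b i) {c : ℕ} (hGo : orderOf G = 2 ^ c) :
    ∃ l, Zs (Fintype.card F) l 0 m ∧ ∃ y ∈ Om Q, orderOf y = 2 ^ c * l ^ (0 + 1) := by
  classical
  obtain ⟨l, hz, g, h, hhg, hgh, hgl, hhl, hg1, hσg, hσh⟩ := exists_mat h1 h2 hm hm3
  refine ⟨l, hz, ?_⟩
  let M : (Matrix (Fin m ⊕ Fin m) (Fin m ⊕ Fin m) F)ˣ := ⟨lv g h, lv h g, by rw [lv_mul, hgh, lv_one],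
    by rw [lv_mul, hhg, lv_one]⟩
  have hMl : M ^ l = 1 := by
    apply Units.ext
    rw [Units.val_pow_eq_pow_val]
    show lv g h ^ l = 1
    rw [lv_pow, hgl, hhl, lv_one]
  have hM1 : M ≠ 1 := by
    intro hM
    have h3 := congrArg Units.val hM
    rw [Units.val_one, ← lv_one] at h3
    exact hg1 (Matrix.fromBlocks_inj.1 h3).1
  set H := exU hfr M with hH
  have hHl : H ^ l = 1 := by rw [hH, ← map_pow, hMl, map_one]
  have hHQ : H ∈ OQ (⇑Q) := fun v => Q_ex (qf_of Q) hfr hQa hQb (qp_lv hhg) v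
  have hHm : H ∈ Om Q := mem_Om_of_odd hQ h5 hev hHQ (hz.hl.odd_of_ne_two hz.hl2) hHl
  have hHo : orderOf (lp F (ι → F) H) = l := by
    have := Fact.mk hz.hl
    refine orderOf_eq_prime (by rw [← map_pow, hHl, map_one]) ?_
    rw [← map_one (lp F (ι → F))]
    intro h3
    apply hM1
    apply exU_injective hfr
    rw [map_one]
    exact lp_injective h3
  have hcomm : Commute G (lp F (ι → F) H) := by
    ext v : 1
    show G (H v) = H (G v)
    refine comm_ex hG ha hb ?_ v
    intro i j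
    show σ (lv g h i j) = lv g h i j
    rcases i with i | i <;> rcases j with j | j
    · exact hσg i j
    · show σ 0 = 0
      exact map_zero σ
    · show σ 0 = 0
      exact map_zero σ
    · exact hσh j i
  have hco : (orderOf G).Coprime (orderOf (lp F (ι → F) H)) := by
    rw [hGo, hHo]
    exact (Nat.coprime_two_left.2 (hz.hl.odd_of_ne_two hz.hl2)).pow_left c
  have h3 := hcomm.orderOf_mul_eq_mul_orderOf_of_coprime hco
  rw [hGo, hHo] at h3
  obtain ⟨y, hy, hyo⟩ := hX.ord (G * lp F (ι → F) H) (X.mul_mem hGX (hX.le ⟨H, hHm, rfl⟩))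
  exact ⟨y, hy, by rw [hyo, h3, zero_add, pow_one]⟩

end Coord

end Cfsg.Agent.H231.OutB
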