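import Mathlib
import Cfsg.Agent.H231.OutB2

/-!
# Outer automorphisms of order two, characteristic two: plus type (helper231)

BLOCK E, piece E5 (B).
-/

set_option autoImplicit false
set_option linter.unusedVariables false
set_option linter.unusedSectionVars false

namespace Cfsg.Agent.H231.OutB

open Module Finset QuadraticMap Cfsg Cfsg.Agent.H375 Cfsg.Agent.H375.Odd Cfsg.Agent.H375.Out
open Cfsg.Agent.ClassicalGeometry Cfsg.Agent.ClassicalGeometry.OrthSemi Cfsg.Agent.LieClassical.OmegaReindex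
open Cfsg.Agent.LieClassical

section Coord

variable {F : Type*} [Field F] [Fintype F] [CharP F 2] {ι : Type} [Fintype ι] [DecidableEq ι]
  {Q : QuadraticForm F (ι → F)}

/-- `Ω` has index two. -/
theorem mul_mem_Om_iff (hQ : (polarBilin Q).Nondegenerate) (h5 : 5 ≤ Fintype.card ι)
    {g h : (ι → F) ≃ₗ[F] (ι → F)} (hg : g ∈ OQ (⇑Q)) (hh : h ∈ OQ (⇑Q)) :
    g * h ∈ Om Q ↔ (g ∈ Om Q ↔ h ∈ Om Q) := by
  have h2 : (2 : F) = 0 := CharTwo.two_eq_zero
  have : Nonempty ι := Fintype.card_pos_iff.1 (by omega)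
  have hidx := OrthDickson.index_commutator_two Q h2 hQ (Or.inr (by omega))
  obtain ⟨X, rfl⟩ := exists_isoL hg
  obtain ⟨Y, rfl⟩ := exists_isoL hh
  have key : ∀ Z : Cfsg.isometryGroup F (⇑Q), isoL Q Z ∈ Om Q ↔ Z ∈ commutator (Cfsg.isometryGroup F (⇑Q)) := by
    intro Z
    constructor
    · rintro ⟨W, hW, h⟩
      rw [← isoL_injective h]
      exact hW
    · intro h
      exact ⟨Z, h, rfl⟩
  rw [← map_mul, key, key, key]
  exact Subgroup.mul_mem_iff_of_index_two hidx

/-- Transfer: `X` contains `N` or `z N` for every `z ∈ O ∖ Ω`. -/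
theorem transfer (hQ : (polarBilin Q).Nondegenerate) (h5 : 5 ≤ Fintype.card ι) {X : Subgroup (Equiv.Perm (ι → F))}
    (hX : Hyp Q X) {σ : F ≃+* F} {M N : Equiv.Perm (ι → F)} (hMX : M ∈ X) (hM : IsSS Q σ 1 M) (hN : IsSS Q σ 1 N)
    {z : (ι → F) ≃ₗ[F] (ι → F)} (hz : z ∈ OQ (⇑Q)) (hz' : z ∉ Om Q) : N ∈ X ∨ lp F (ι → F) z * N ∈ X := by
  obtain ⟨g, hg, hgN⟩ := exists_lin hM hN
  by_cases hgm : g ∈ Om Q
  · left
    have h1 : N = lp F (ι → F) g⁻¹ * M := by rw [← hgN, ← mul_assoc, ← map_mul, inv_mul_cancel, map_one, one_mul]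
    rw [h1]
    exact X.mul_mem (hX.le ⟨_, (Om Q).inv_mem hgm, rfl⟩) hMX
  · right
    have h1 : lp F (ι → F) z * N = lp F (ι → F) (z * g⁻¹) * M := by
      rw [← hgN, ← mul_assoc, ← map_mul, inv_mul_cancel_right]
    rw [h1]
    refine X.mul_mem (hX.le ⟨_, ?_, rfl⟩) hMX
    show z * g⁻¹ ∈ Om Q
    rw [mul_mem_Om_iff hQ h5 hz ((OQ _).inv_mem hg)]
    exact ⟨fun h => absurd h hz', fun h => absurd ((Om Q).inv_mem_iff.1 h) hgm⟩

theorem notMem_Om_of_odd (hQ : (polarBilin Q).Nondegenerate) (h5 : 5 ≤ Fintype.card ι)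
    (hev : Even (Fintype.card ι)) {g : (ι → F) ≃ₗ[F] (ι → F)} (ho : Odd (finrank F (bV g))) : g ∉ Om Q := by
  intro h
  exact (Nat.not_even_iff_odd.2 ho) ((mem_Om hQ h5 hev).1 h).2

/-! ### Coordinate permutations -/

/-- Semilinear coordinate permutations. -/
def cps (σ : F ≃+* F) (ρ : Equiv.Perm ι) : Equiv.Perm (ι → F) where
  toFun v x := σ (v (ρ x))
  invFun v x := σ.symm (v (ρ.symm x))
  left_inv v := by
    funext x
    simp
  right_inv v := by
    funext x
    simp

theorem cps_apply (σ : F ≃+* F) (ρ : Equiv.Perm ι) (v : ι → F) (x : ι) : cps σ ρ v x = σ (v (ρ x)) := rfl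

/-- Linear coordinate permutations. -/
def cpl (ρ : Equiv.Perm ι) : (ι → F) ≃ₗ[F] (ι → F) := LinearEquiv.funCongrLeft F F ρ

theorem cpl_apply (ρ : Equiv.Perm ι) (v : ι → F) (x : ι) : cpl ρ v x = v (ρ x) := rfl

theorem lp_cpl_mul (σ : F ≃+* F) (ρ : Equiv.Perm ι) : lp F (ι → F) (cpl ρ) * cps σ 1 = cps σ ρ := rfl

theorem cps_fix (σ : F ≃+* F) {ρ : Equiv.Perm ι} {x : ι} (hx : ρ x = x) :
    cps σ ρ (Pi.single x (1 : F)) = Pi.single x 1 := by
  funext y
  rw [cps_apply, Pi.single_apply, Pi.single_apply]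
  have : ρ y = x ↔ y = x := by
    constructor
    · intro h
      apply ρ.injective
      rw [h, hx]
    · rintro rfl
      exact hx
  by_cases hy : y = x
  · rw [if_pos (this.2 hy), if_pos hy, map_one]
  · rw [if_neg (fun h => hy (this.1 h)), if_neg hy, map_zero]

theorem orderOf_cps_two {σ : F ≃+* F} (h1 : ∃ x, σ x ≠ x) (h2 : ∀ x, σ (σ x) = x) {ρ : Equiv.Perm ι}
    [Nonempty ι] (hρ : ∀ x, ρ (ρ x) = x) : orderOf (cps σ ρ) = 2 := by
  refine orderOf_eq_prime ?_ ?_
  · rw [pow_two]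
    apply Equiv.ext
    intro v
    funext x
    show σ (σ (v (ρ (ρ x)))) = v x
    rw [h2, hρ]
  · intro h
    obtain ⟨x, hx⟩ := h1
    obtain ⟨i⟩ := ‹Nonempty ι›
    exact hx (congrFun (congrArg (fun t : Equiv.Perm (ι → F) => t (fun _ => x)) h) i)

theorem orderOf_cps_four {σ : F ≃+* F} (h2 : ∀ x, σ (σ x) = x) {ρ : Equiv.Perm ι}
    (hρ : ∀ x, ρ (ρ (ρ (ρ x))) = x) {i : ι} (hi : ρ (ρ i) ≠ i) : orderOf (cps σ ρ) = 4 := by
  have h4 : (4 : ℕ) = 2 ^ (1 + 1) := rfl
  rw [h4]
  refine orderOf_eq_prime_pow ?_ ?_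
  · intro h
    have h3 := congrFun (congrArg (fun t : Equiv.Perm (ι → F) => t (Pi.single i 1)) h) i
    have h4 : σ (σ ((Pi.single i 1 : ι → F) (ρ (ρ i)))) = (Pi.single i 1 : ι → F) i := by
      have e : (cps σ ρ ^ 2 ^ 1 : Equiv.Perm (ι → F)) = cps σ ρ * cps σ ρ := by rw [pow_one, pow_two]
      rw [e] at h3
      exact h3
    rw [h2, Pi.single_eq_same, Pi.single_eq_of_ne hi] at h4
    exact zero_ne_one h4
  · apply Equiv.ext
    intro v
    funext x
    have e : (cps σ ρ ^ 2 ^ (1 + 1) : Equiv.Perm (ι → F)) = cps σ ρ * (cps σ ρ * (cps σ ρ * cps σ ρ)) := by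
      have : (2 : ℕ) ^ (1 + 1) = 4 := rfl
      rw [this, pow_succ', pow_succ', pow_two]
    rw [e]
    show σ (σ (σ (σ (v (ρ (ρ (ρ (ρ x)))))))) = v x
    rw [h2, h2, hρ]

/-- A transposition has a fixed space of codimension one. -/
theorem finrank_swap {x y : ι} (hxy : x ≠ y) :
    finrank F (bV (cpl (F := F) (Equiv.swap x y))) + 1 = Fintype.card ι := by
  let T : (ι → F) →ₗ[F] F := (LinearMap.proj x : (ι → F) →ₗ[F] F) + (LinearMap.proj y : (ι → F) →ₗ[F] F)
  have hT : ∀ v, T v = v x + v y := fun v => rfl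
  have hker : LinearMap.ker T = bV (cpl (F := F) (Equiv.swap x y)) := by
    ext v
    rw [LinearMap.mem_ker, mem_bV, hT, ← sub_eq_add_V F, sub_eq_zero]
    constructor
    · intro h
      funext z
      rw [cpl_apply]
      by_cases hzx : z = x
      · subst hzx
        rw [Equiv.swap_apply_left, h]
      · by_cases hzy : z = y
        · subst hzy
          rw [Equiv.swap_apply_right, h]
        · rw [Equiv.swap_apply_of_ne_of_ne hzx hzy]
    · intro h
      have := congrFun h x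
      rw [cpl_apply, Equiv.swap_apply_left] at this
      exact this.symm
  have hsurj : Function.Surjective T := by
    intro t
    refine ⟨Pi.single x t, ?_⟩
    rw [hT, Pi.single_eq_same, Pi.single_eq_of_ne hxy.symm, add_zero]
  have h1 := LinearMap.finrank_range_add_finrank_ker T
  rw [hker, LinearMap.range_eq_top.2 hsurj, finrank_top, finrank_self, Module.finrank_fintype_fun_eq_card] at h1
  omega

end Coord

/-! ### The plus form -/

section Plus

variable {F : Type*} [Field F] [Fintype F] [CharP F 2] {n : ℕ}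

theorem isSS_cps {σ : F ≃+* F} {ρ : Equiv.Perm (Fin n ⊕ Fin n)}
    (hρ : ∀ v : Fin n ⊕ Fin n → F, quadPlus n F (fun x => v (ρ x)) = quadPlus n F v) :
    IsSS (quadPlus n F) σ 1 (cps σ ρ) := by
  refine ⟨one_ne_zero, ?_, ?_, ?_⟩
  · intro u v
    funext x
    exact map_add σ _ _
  · intro c v
    funext x
    exact map_mul σ _ _
  · intro v
    rw [one_mul, ← hρ v]
    have h1 : ∀ w : Fin n ⊕ Fin n → F, quadPlus n F (fun x => σ (w x)) = σ (quadPlus n F w) := by
      intro w
      rw [coe_quadPlus, quadFormPlus, quadFormPlus, map_sum]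
      exact Finset.sum_congr rfl fun i _ => (map_mul σ _ _).symm
    exact h1 _

theorem quadPlus_gam (i : Fin n) (v : Fin n ⊕ Fin n → F) :
    quadPlus n F (fun x => v (Equiv.swap (Sum.inl i) (Sum.inr i) x)) = quadPlus n F v := by
  rw [coe_quadPlus, quadFormPlus, quadFormPlus]
  refine Finset.sum_congr rfl fun k _ => ?_
  by_cases hk : k = i
  · subst hk
    rw [Equiv.swap_apply_left, Equiv.swap_apply_right, mul_comm]
  · rw [Equiv.swap_apply_of_ne_of_ne (by simpa using hk) (by simp), Equiv.swap_apply_of_ne_of_ne (by simp) (by simpa using hk)]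

theorem quadPlus_pair (i j : Fin n) (v : Fin n ⊕ Fin n → F) :
    quadPlus n F (fun x => v (Equiv.sumCongr (Equiv.swap i j) (Equiv.swap i j) x)) = quadPlus n F v := by
  rw [coe_quadPlus, quadFormPlus, quadFormPlus]
  exact Equiv.sum_comp (Equiv.swap i j) (fun k => v (Sum.inl k) * v (Sum.inr k))

theorem cpl_mem {ρ : Equiv.Perm (Fin n ⊕ Fin n)}
    (hρ : ∀ v : Fin n ⊕ Fin n → F, quadPlus n F (fun x => v (ρ x)) = quadPlus n F v) :
    cpl ρ ∈ OQ (⇑(quadPlus n F)) := fun v => hρ v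

theorem card_plus : Fintype.card (Fin n ⊕ Fin n) = 2 * n := by
  rw [Fintype.card_sum, Fintype.card_fin]; ring

theorem gam_notMem (hn : 5 ≤ n) (i : Fin n) :
    cpl (F := F) (Equiv.swap (Sum.inl i) (Sum.inr i)) ∉ Om (quadPlus n F) := by
  have h1 := finrank_swap (F := F) (x := (Sum.inl i : Fin n ⊕ Fin n)) (y := Sum.inr i) (by simp)
  rw [card_plus] at h1
  refine notMem_Om_of_odd quadPlus_nondegenerate (by rw [card_plus]; omega) (by rw [card_plus]; exact even_two_mul n) ?_
  exact ⟨n - 1, by omega⟩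

/-- The pair permutation. -/
theorem finrank_pair {i j : Fin n} (hij : i ≠ j) :
    finrank F (bV (cpl (F := F) (Equiv.sumCongr (Equiv.swap i j) (Equiv.swap i j)))) + 2 = 2 * n := by
  let T : (Fin n ⊕ Fin n → F) →ₗ[F] F × F :=
    LinearMap.prod ((LinearMap.proj (Sum.inl i) : (Fin n ⊕ Fin n → F) →ₗ[F] F) +
      (LinearMap.proj (Sum.inl j) : (Fin n ⊕ Fin n → F) →ₗ[F] F))
      ((LinearMap.proj (Sum.inr i) : (Fin n ⊕ Fin n → F) →ₗ[F] F) +
        (LinearMap.proj (Sum.inr j) : (Fin n ⊕ Fin n → F) →ₗ[F] F))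
  have hT : ∀ v, T v = (v (Sum.inl i) + v (Sum.inl j), v (Sum.inr i) + v (Sum.inr j)) := fun v => rfl
  have hker : LinearMap.ker T = bV (cpl (F := F) (Equiv.sumCongr (Equiv.swap i j) (Equiv.swap i j))) := by
    ext v
    rw [LinearMap.mem_ker, mem_bV, hT, Prod.mk_eq_zero, ← sub_eq_add_V F, sub_eq_zero, ← sub_eq_add_V F, sub_eq_zero]
    constructor
    · rintro ⟨h1, h2⟩
      funext z
      rw [cpl_apply]
      rcases z with z | z
      · show v (Sum.inl (Equiv.swap i j z)) = _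
        by_cases hzx : z = i
        · subst hzx
          rw [Equiv.swap_apply_left, h1]
        · by_cases hzy : z = j
          · subst hzy
            rw [Equiv.swap_apply_right, h1]
          · rw [Equiv.swap_apply_of_ne_of_ne hzx hzy]
      · show v (Sum.inr (Equiv.swap i j z)) = _
        by_cases hzx : z = i
        · subst hzx
          rw [Equiv.swap_apply_left, h2]
        · by_cases hzy : z = j
          · subst hzy
            rw [Equiv.swap_apply_right, h2]
          · rw [Equiv.swap_apply_of_ne_of_ne hzx hzy]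
    · intro h
      have h1 := congrFun h (Sum.inl i)
      have h2 := congrFun h (Sum.inr i)
      have e1 : v (Sum.inl (Equiv.swap i j i)) = v (Sum.inl i) := h1
      have e2 : v (Sum.inr (Equiv.swap i j i)) = v (Sum.inr i) := h2
      rw [Equiv.swap_apply_left] at e1 e2
      exact ⟨e1.symm, e2.symm⟩
  have hsurj : Function.Surjective T := by
    rintro ⟨s, t⟩
    refine ⟨Pi.single (Sum.inl i) s + Pi.single (Sum.inr i) t, ?_⟩
    rw [hT]
    simp [Pi.single_apply, hij, hij.symm]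
  have h1 := LinearMap.finrank_range_add_finrank_ker T
  rw [hker, LinearMap.range_eq_top.2 hsurj, finrank_top, Module.finrank_prod, finrank_self,
    Module.finrank_fintype_fun_eq_card, card_plus] at h1
  omega

/-- The permutation of order four. -/
def rho (i j : Fin n) : Equiv.Perm (Fin n ⊕ Fin n) :=
  Equiv.sumCongr (Equiv.swap i j) (Equiv.swap i j) * Equiv.swap (Sum.inl i) (Sum.inr i)

theorem rho_inl_i {i j : Fin n} : rho i j (Sum.inl i) = Sum.inr j := by
  show Equiv.sumCongr _ _ (Equiv.swap _ _ _) = _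
  rw [Equiv.swap_apply_left]
  show Sum.inr (Equiv.swap i j i) = _
  rw [Equiv.swap_apply_left]

theorem rho_inr_i {i j : Fin n} : rho i j (Sum.inr i) = Sum.inl j := by
  show Equiv.sumCongr _ _ (Equiv.swap _ _ _) = _
  rw [Equiv.swap_apply_right]
  show Sum.inl (Equiv.swap i j i) = _
  rw [Equiv.swap_apply_left]

theorem rho_inl_j {i j : Fin n} (hij : i ≠ j) : rho i j (Sum.inl j) = Sum.inl i := by
  show Equiv.sumCongr _ _ (Equiv.swap _ _ _) = _
  rw [Equiv.swap_apply_of_ne_of_ne (by simpa using hij.symm) (by simp)]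
  show Sum.inl (Equiv.swap i j j) = _
  rw [Equiv.swap_apply_right]

theorem rho_inr_j {i j : Fin n} (hij : i ≠ j) : rho i j (Sum.inr j) = Sum.inr i := by
  show Equiv.sumCongr _ _ (Equiv.swap _ _ _) = _
  rw [Equiv.swap_apply_of_ne_of_ne (by simp) (by simpa using hij.symm)]
  show Sum.inr (Equiv.swap i j j) = _
  rw [Equiv.swap_apply_right]

theorem rho_inl {i j k : Fin n} (hi : k ≠ i) (hj : k ≠ j) : rho i j (Sum.inl k) = Sum.inl k := by
  show Equiv.sumCongr _ _ (Equiv.swap _ _ _) = _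
  rw [Equiv.swap_apply_of_ne_of_ne (by simpa using hi) (by simp)]
  show Sum.inl (Equiv.swap i j k) = _
  rw [Equiv.swap_apply_of_ne_of_ne hi hj]

theorem rho_inr {i j k : Fin n} (hi : k ≠ i) (hj : k ≠ j) : rho i j (Sum.inr k) = Sum.inr k := by
  show Equiv.sumCongr _ _ (Equiv.swap _ _ _) = _
  rw [Equiv.swap_apply_of_ne_of_ne (by simp) (by simpa using hi)]
  show Sum.inr (Equiv.swap i j k) = _
  rw [Equiv.swap_apply_of_ne_of_ne hi hj]

theorem rho_four {i j : Fin n} (hij : i ≠ j) (x : Fin n ⊕ Fin n) : rho i j (rho i j (rho i j (rho i j x))) = x := by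
  rcases x with k | k
  · by_cases hi : k = i
    · subst hi
      rw [rho_inl_i, rho_inr_j hij, rho_inr_i, rho_inl_j hij]
    · by_cases hj : k = j
      · subst hj
        rw [rho_inl_j hij, rho_inl_i, rho_inr_j hij, rho_inr_i]
      · rw [rho_inl hi hj, rho_inl hi hj, rho_inl hi hj, rho_inl hi hj]
  · by_cases hi : k = i
    · subst hi
      rw [rho_inr_i, rho_inl_j hij, rho_inl_i, rho_inr_j hij]
    · by_cases hj : k = j
      · subst hj
        rw [rho_inr_j hij, rho_inr_i, rho_inl_j hij, rho_inl_i]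
      · rw [rho_inr hi hj, rho_inr hi hj, rho_inr hi hj, rho_inr hi hj]

theorem quadPlus_rho (i j : Fin n) (v : Fin n ⊕ Fin n → F) :
    quadPlus n F (fun x => v (rho i j x)) = quadPlus n F v := by
  have h1 := quadPlus_gam i (fun x => v (Equiv.sumCongr (Equiv.swap i j) (Equiv.swap i j) x))
  rw [quadPlus_pair] at h1
  exact h1

theorem rho_notMem (hn : 5 ≤ n) {i j : Fin n} (hij : i ≠ j) : cpl (F := F) (rho i j) ∉ Om (quadPlus n F) := by
  have h1 : cpl (F := F) (rho i j) = cpl (Equiv.swap (Sum.inl i) (Sum.inr i)) *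
      cpl (Equiv.sumCongr (Equiv.swap i j) (Equiv.swap i j)) := rfl
  have hc : 5 ≤ Fintype.card (Fin n ⊕ Fin n) := by rw [card_plus]; omega
  have hev : Even (Fintype.card (Fin n ⊕ Fin n)) := by rw [card_plus]; exact even_two_mul n
  have h2 := cpl_mem (F := F) (quadPlus_gam i)
  have h3 := cpl_mem (F := F) (quadPlus_pair i j)
  rw [h1, mul_mem_Om_iff quadPlus_nondegenerate hc h2 h3]
  have h4 := gam_notMem (F := F) hn i
  have h5 : cpl (F := F) (Equiv.sumCongr (Equiv.swap i j) (Equiv.swap i j)) ∈ Om (quadPlus n F) := by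
    rw [mem_Om quadPlus_nondegenerate hc hev]
    refine ⟨h3, ?_⟩
    have h6 := finrank_pair (F := F) hij
    exact ⟨n - 1, by omega⟩
  exact fun h => h4 (h.2 h5)

/-- **(B), plus type.** -/
theorem plus (hn : 5 ≤ n) {X : Subgroup (Equiv.Perm (Fin n ⊕ Fin n → F))} (hX : Hyp (quadPlus n F) X)
    {σ : F ≃+* F} (h1 : ∃ x, σ x ≠ x) (h2 : ∀ x, σ (σ x) = x) {M : Equiv.Perm (Fin n ⊕ Fin n → F)} (hMX : M ∈ X)
    (hM : IsSS (quadPlus n F) σ 1 M) : False := by
  classical
  have hc : 5 ≤ Fintype.card (Fin n ⊕ Fin n) := by rw [card_plus]; omega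
  have hev : Even (Fintype.card (Fin n ⊕ Fin n)) := by rw [card_plus]; exact even_two_mul n
  have hQ : (polarBilin (quadPlus n F)).Nondegenerate := quadPlus_nondegenerate
  have : Nonempty (Fin n ⊕ Fin n) := ⟨Sum.inl ⟨0, by omega⟩⟩
  have hτ : IsSS (quadPlus n F) σ 1 (cps σ 1) := isSS_cps fun v => rfl
  -- the common argument
  have key : ∀ (m c : ℕ), Odd m → 3 ≤ m → ∀ hm : m ≤ n, ∀ ρ : Equiv.Perm (Fin n ⊕ Fin n),
      (∀ v : Fin n ⊕ Fin n → F, quadPlus n F (fun x => v (ρ x)) = quadPlus n F v) →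
      (∀ k : Fin m, ρ (Sum.inl (Fin.castLE hm k)) = Sum.inl (Fin.castLE hm k)) →
      (∀ k : Fin m, ρ (Sum.inr (Fin.castLE hm k)) = Sum.inr (Fin.castLE hm k)) →
      orderOf (cps σ ρ : Equiv.Perm (Fin n ⊕ Fin n → F)) = 2 ^ c → cps σ ρ ∈ X →
      ∃ l, Zs (Fintype.card F) l 0 m ∧ ∃ y ∈ Om (quadPlus n F), orderOf y = 2 ^ c * l ^ (0 + 1) := by
    intro m c hmo hm3 hm ρ hρ h3 h4 h5 h6
    exact exists_mul hQ hc hev hX h1 h2 hmo hm3 (frame_plus hm) (fun i => plus_inl _) (fun i => plus_inr _) h6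
      (isSS_cps hρ) (fun i => cps_fix σ (h3 i)) (fun i => cps_fix σ (h4 i)) h5
  -- the field automorphism is not in `X`
  have hτX : cps σ 1 ∉ X := by
    intro h
    have ho : orderOf (cps σ (1 : Equiv.Perm (Fin n ⊕ Fin n)) : Equiv.Perm (Fin n ⊕ Fin n → F)) = 2 ^ 1 := by
      rw [orderOf_cps_two h1 h2 (fun x => rfl), pow_one]
    rcases Nat.even_or_odd n with hne | hno
    · obtain ⟨l, hl, y, hy, hyo⟩ := key (n - 1) 1 (Nat.Even.sub_odd (by omega) hne odd_one) (by omega) (by omega) 1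
        (fun v => rfl) (fun k => rfl) (fun k => rfl) ho h
      exact no_two hQ (Or.inr (by rw [card_plus]; omega)) (Nat.Even.sub_odd (by omega) hne odd_one) hl hy
        (by rw [hyo, pow_one])
    · obtain ⟨l, hl, y, hy, hyo⟩ := key n 1 hno (by omega) le_rfl 1
        (fun v => rfl) (fun k => rfl) (fun k => rfl) ho h
      exact no_two hQ (Or.inl card_plus) hno hl hy (by rw [hyo, pow_one])
  rcases Nat.even_or_odd n with hne | hno
  · let i : Fin n := ⟨n - 1, by omega⟩
    have h3 : cps σ (Equiv.swap (Sum.inl i) (Sum.inr i)) ∈ X := by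
      rcases transfer hQ hc hX hMX hM hτ (cpl_mem (quadPlus_gam i)) (gam_notMem hn i) with h | h
      · exact absurd h hτX
      · exact h
    have hki : ∀ k : Fin (n - 1), Fin.castLE (Nat.sub_le n 1) k ≠ i := by
      intro k h
      have := congrArg Fin.val h
      have h4 : (k : ℕ) = n - 1 := this
      omega
    obtain ⟨l, hl, y, hy, hyo⟩ := key (n - 1) 1 (Nat.Even.sub_odd (by omega) hne odd_one) (by omega) (Nat.sub_le n 1)
      (Equiv.swap (Sum.inl i) (Sum.inr i)) (quadPlus_gam i)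
      (fun k => Equiv.swap_apply_of_ne_of_ne (by simpa using hki k) (by simp))
      (fun k => Equiv.swap_apply_of_ne_of_ne (by simp) (by simpa using hki k))
      (by rw [orderOf_cps_two h1 h2 (fun x => Equiv.swap_apply_self _ _ _), pow_one]) h3
    exact no_two hQ (Or.inr (by rw [card_plus]; omega)) (Nat.Even.sub_odd (by omega) hne odd_one) hl hy
      (by rw [hyo, pow_one])
  · let i : Fin n := ⟨n - 1, by omega⟩
    let j : Fin n := ⟨n - 2, by omega⟩
    have hij : i ≠ j := by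
      intro h
      have : n - 1 = n - 2 := congrArg Fin.val h
      omega
    have h3 : cps σ (rho i j) ∈ X := by
      rcases transfer hQ hc hX hMX hM hτ (cpl_mem (quadPlus_rho i j)) (rho_notMem hn hij) with h | h
      · exact absurd h hτX
      · exact h
    have hki : ∀ k : Fin (n - 2), Fin.castLE (Nat.sub_le n 2) k ≠ i := by
      intro k h
      have h4 : (k : ℕ) = n - 1 := congrArg Fin.val h
      omega
    have hkj : ∀ k : Fin (n - 2), Fin.castLE (Nat.sub_le n 2) k ≠ j := by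
      intro k h
      have h4 : (k : ℕ) = n - 2 := congrArg Fin.val h
      omega
    have hodd : Odd (n - 2) := Nat.Odd.sub_even (by omega) hno even_two
    obtain ⟨l, hl, y, hy, hyo⟩ := key (n - 2) 2 hodd (by omega) (Nat.sub_le n 2)
      (rho i j) (quadPlus_rho i j) (fun k => rho_inl (hki k) (hkj k)) (fun k => rho_inr (hki k) (hkj k))
      (by
        rw [orderOf_cps_four (F := F) h2 (rho_four hij) (i := Sum.inl i) (by rw [rho_inl_i, rho_inr_j hij]; simp)]
        norm_num) h3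
    exact no_four hQ (by rw [card_plus]; omega) hodd hl hy (by rw [hyo]; norm_num)

end Plus

end Cfsg.Agent.H231.OutB
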