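import Mathlib
import Cfsg.Agent.H231.OutB3

/-!
# Outer automorphisms of order two, characteristic two: minus type (helper231)

BLOCK E, piece E5 (B).
-/

set_option autoImplicit false
set_option linter.unusedVariables false
set_option linter.unusedSectionVars false

namespace Cfsg.Agent.H231.OutB

open Module Finset QuadraticMap Cfsg Cfsg.Agent.H375 Cfsg.Agent.H375.Odd Cfsg.Agent.H375.Out
open Cfsg.Agent.ClassicalGeometry Cfsg.Agent.ClassicalGeometry.OrthSemi Cfsg.Agent.LieClassical.OmegaReindex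
open Cfsg.Agent.LieClassical

/-! ### Fields -/

section Field

variable {F : Type*} [Field F] [Fintype F] [CharP F 2]

/-- An involutory automorphism is a power of the Frobenius automorphism. -/
theorem exists_frob {σ : F ≃+* F} (h1 : ∃ x, σ x ≠ x) (h2 : ∀ x, σ (σ x) = x) :
    ∃ j : ℕ, 0 < j ∧ Fintype.card F = 2 ^ (2 * j) ∧ ∀ x, σ x = x ^ 2 ^ j := by
  have : Fact (Nat.Prime 2) := ⟨Nat.prime_two⟩
  let _ : Algebra (ZMod 2) F := ZMod.algebra F 2
  let s : F →ₐ[ZMod 2] F := { σ.toRingHom with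
    commutes' := fun r => by
      show σ (algebraMap (ZMod 2) F r) = algebraMap (ZMod 2) F r
      have : (σ.toRingHom.comp (algebraMap (ZMod 2) F)) = algebraMap (ZMod 2) F := Subsingleton.elim _ _
      exact RingHom.congr_fun this r }
  obtain ⟨k, hk⟩ := (FiniteField.bijective_frobeniusAlgHom_pow (ZMod 2) F).2 s
  have hk' : ∀ a, σ a = a ^ 2 ^ (k : ℕ) := by
    intro a
    have h3 := DFunLike.congr_fun hk a
    simp only at h3
    rw [AlgHom.coe_pow, FiniteField.coe_frobeniusAlgHom, pow_iterate, ZMod.card] at h3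
    exact h3.symm
  have hcard : Fintype.card F = 2 ^ Module.finrank (ZMod 2) F := by
    have := Module.card_eq_pow_finrank (K := ZMod 2) (V := F)
    rwa [ZMod.card] at this
  have hk0 : 0 < (k : ℕ) := by
    rw [Nat.pos_iff_ne_zero]
    intro h0
    obtain ⟨x, hx⟩ := h1
    apply hx
    rw [hk', h0, pow_zero, pow_one]
  have h3 : (FiniteField.frobeniusAlgHom (ZMod 2) F) ^ (2 * (k : ℕ)) = 1 := by
    apply AlgHom.ext
    intro a
    rw [AlgHom.coe_pow, FiniteField.coe_frobeniusAlgHom, pow_iterate, ZMod.card]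
    have h3 := h2 a
    rw [hk', hk', ← pow_mul, ← pow_add] at h3
    rw [two_mul]
    exact h3
  have h4 : Module.finrank (ZMod 2) F ∣ 2 * (k : ℕ) := by
    have := orderOf_dvd_of_pow_eq_one h3
    rwa [FiniteField.orderOf_frobeniusAlgHom (ZMod 2) F] at this
  have h5 : (k : ℕ) < Module.finrank (ZMod 2) F := k.2
  refine ⟨k, hk0, ?_, hk'⟩
  rw [hcard]
  obtain ⟨c, hc⟩ := h4
  have h6 : c = 1 := by
    have : c ≠ 0 := by rintro rfl; omega
    by_contra hne
    have : 2 ≤ c := by omega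
    nlinarith
  rw [hc, h6, mul_one]

/-- The absolute trace of length `N`. -/
def tr (N : ℕ) (x : F) : F := ∑ i ∈ range N, x ^ 2 ^ i

theorem tr_sq (N : ℕ) (x : F) : tr N x ^ 2 + tr N x = x ^ 2 ^ N + x := by
  have h1 : tr N x ^ 2 = ∑ i ∈ range N, x ^ 2 ^ (i + 1) := by
    rw [tr, CharTwo.sum_sq]
    refine Finset.sum_congr rfl fun i _ => ?_
    rw [← pow_mul, pow_succ]
  have h2 := Finset.sum_range_succ (fun i => x ^ 2 ^ i) N
  have h3 := Finset.sum_range_succ' (fun i => x ^ 2 ^ i) N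
  rw [h3] at h2
  rw [h1, tr]
  have h4 : ∑ i ∈ range N, x ^ 2 ^ (i + 1) = ∑ i ∈ range N, x ^ 2 ^ i + x ^ 2 ^ N + x := by
    rw [← h2, pow_zero, pow_one, add_assoc, CharTwo.add_self_eq_zero, add_zero]
  rw [h4]
  have : ∑ i ∈ range N, x ^ 2 ^ i + x ^ 2 ^ N + x + ∑ i ∈ range N, x ^ 2 ^ i =
      (∑ i ∈ range N, x ^ 2 ^ i + ∑ i ∈ range N, x ^ 2 ^ i) + (x ^ 2 ^ N + x) := by ring
  rw [this, CharTwo.add_self_eq_zero, zero_add]

theorem tr_add (N : ℕ) (x y : F) : tr N (x + y) = tr N x + tr N y := by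
  have : Fact (Nat.Prime 2) := ⟨Nat.prime_two⟩
  rw [tr, tr, tr, ← Finset.sum_add_distrib]
  exact Finset.sum_congr rfl fun i _ => add_pow_char_pow x y 2 i

/-- **Additive Hilbert 90** over `𝔽₂`. -/
theorem tr_ne_zero {N : ℕ} (hN : 0 < N) (hF : Fintype.card F = 2 ^ N) {β : F} (hβ : ∀ x : F, x ^ 2 + x ≠ β) :
    tr N β ≠ 0 := by
  classical
  intro h0
  have hx : ∀ x : F, x ^ 2 ^ N = x := fun x => by rw [← hF, FiniteField.pow_card]
  let P : Polynomial F := ∑ i ∈ range N, Polynomial.X ^ 2 ^ i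
  have hP : ∀ x, P.eval x = tr N x := by
    intro x
    rw [tr, Polynomial.eval_finsetSum]
    simp
  have hPne : P ≠ 0 := by
    intro hP0
    have h1 : P.coeff 1 = 1 := by
      rw [Polynomial.finsetSum_coeff, Finset.sum_eq_single 0]
      · simp
      · intro i _ hi
        rw [Polynomial.coeff_X_pow, if_neg]
        have : 2 ≤ 2 ^ i := by
          calc 2 = 2 ^ 1 := rfl
            _ ≤ 2 ^ i := Nat.pow_le_pow_right two_pos (Nat.pos_of_ne_zero hi)
        omega
      · intro h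
        exact absurd (Finset.mem_range.2 hN) h
    rw [hP0, Polynomial.coeff_zero] at h1
    exact zero_ne_one h1
  have hdeg : P.natDegree ≤ 2 ^ (N - 1) := by
    refine Polynomial.natDegree_sum_le_of_forall_le _ _ fun i hi => ?_
    rw [Polynomial.natDegree_X_pow]
    exact Nat.pow_le_pow_right two_pos (by have := Finset.mem_range.1 hi; omega)
  let S : Finset F := Finset.univ.image (fun x : F => x ^ 2 + x)
  have hS : ∀ y ∈ S, tr N y = 0 := by
    intro y hy
    obtain ⟨x, -, rfl⟩ := Finset.mem_image.1 hy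
    have h1 : tr N (x ^ 2) = tr N x ^ 2 := by
      rw [tr, tr, CharTwo.sum_sq]
      refine Finset.sum_congr rfl fun i _ => ?_
      rw [← pow_mul, ← pow_mul, mul_comm]
    rw [tr_add, h1, tr_sq, hx, CharTwo.add_self_eq_zero]
  have hScard : 2 ^ N ≤ 2 * S.card := by
    have h1 := Finset.card_le_mul_card_image (s := (Finset.univ : Finset F)) (f := fun x : F => x ^ 2 + x) 2 (by
      intro y hy
      obtain ⟨x, -, rfl⟩ := Finset.mem_image.1 hy
      have h2 : (Finset.univ.filter fun z : F => z ^ 2 + z = x ^ 2 + x) ⊆ {x, x + 1} := by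
        intro z hz
        have h3 := (Finset.mem_filter.1 hz).2
        have h4 : (z - x) * (z - x - 1) = 0 := by
          have h5 : (2 : F) = 0 := CharTwo.two_eq_zero
          linear_combination h3 + (x - z * x + x ^ 2 - z) * h5
        rw [Finset.mem_insert, Finset.mem_singleton]
        rcases mul_eq_zero.1 h4 with h5 | h5
        · left; linear_combination h5
        · right; linear_combination h5
      exact (Finset.card_le_card h2).trans Finset.card_le_two)
    rwa [Finset.card_univ, hF] at h1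
  have hβS : β ∉ S := by
    intro h
    obtain ⟨x, -, hx⟩ := Finset.mem_image.1 h
    exact hβ x hx
  have h1 : insert β S ⊆ P.roots.toFinset := by
    intro y hy
    rw [Multiset.mem_toFinset, Polynomial.mem_roots hPne, Polynomial.IsRoot.def, hP]
    rcases Finset.mem_insert.1 hy with rfl | hy
    · exact h0
    · exact hS y hy
  have h2 := Finset.card_le_card h1
  rw [Finset.card_insert_of_notMem hβS] at h2
  have h3 := P.roots.toFinset_card_le
  have h4 := P.card_roots'
  have h5 : 2 ^ N = 2 * 2 ^ (N - 1) := by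
    rw [← pow_succ']
    congr 1
    omega
  omega

end Field

/-! ### Invariance of the Dickson invariant of the square -/

section Sq

variable {F : Type*} [Field F] [Fintype F] [CharP F 2] {ι : Type} [Fintype ι] [DecidableEq ι]
  {Q : QuadraticForm F (ι → F)}

theorem finrank_conj (M : Gam Q) (h : (ι → F) ≃ₗ[F] (ι → F)) :
    finrank F (bV (conjLin M h)) = finrank F (bV h) := by
  classical
  have e : bV h ≃ bV (conjLin M h) :=
    { toFun := fun v => ⟨M.1 v.1, by
        rw [mem_bV, conjLin_apply', mem_bV.1 v.2]⟩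
      invFun := fun v => ⟨M.1⁻¹ v.1, by
        rw [mem_bV]
        apply M.1.injective
        rw [← conjLin_apply', OrthSemi.apply_inv]
        exact mem_bV.1 v.2⟩
      left_inv := fun v => Subtype.ext (OrthSemi.inv_apply _ _)
      right_inv := fun v => Subtype.ext (OrthSemi.apply_inv _ _) }
  have h1 := Nat.card_congr e
  rw [Module.natCard_eq_pow_finrank (K := F) (V := bV h), Module.natCard_eq_pow_finrank (K := F) (V := bV (conjLin M h)),
    Nat.card_eq_fintype_card] at h1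
  exact (Nat.pow_right_injective (Fintype.one_lt_card (α := F)) h1).symm

/-- The square of a semilinear isometry (`σ ^ 2 = 1`) lies in `Ω` or in `O ∖ Ω`, independently of the isometry. -/
theorem sq_mem (hQ : (polarBilin Q).Nondegenerate) (h5 : 5 ≤ Fintype.card ι) (hev : Even (Fintype.card ι))
    {σ : F ≃+* F} {M N : Equiv.Perm (ι → F)}
    (hM : IsSS Q σ 1 M) (hN : IsSS Q σ 1 N) {g k : (ι → F) ≃ₗ[F] (ι → F)} (hg : lp F (ι → F) g = M * M)
    (hk : lp F (ι → F) k = N * N) (hgQ : g ∈ OQ (⇑Q)) (hgm : g ∈ Om Q) : k ∈ Om Q := by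
  obtain ⟨h, hh, hhM⟩ := exists_lin hN hM
  let M' : Gam Q := ⟨M, σ, 1, hM⟩
  have h1 : k = h * (conjLin M' h * g) := by
    apply lp_injective
    rw [map_mul, map_mul, hk, hg, ← hhM]
    apply Equiv.ext
    intro v
    show h (M (h (M v))) = h (M (h (M⁻¹ (M (M v)))))
    rw [OrthSemi.inv_apply]
  have hcQ : conjLin M' h ∈ OQ (⇑Q) := by
    intro v
    obtain ⟨v, rfl⟩ := M'.1.surjective v
    rw [conjLin_apply']
    show Q (M (h v)) = Q (M v)
    rw [hM.form, hM.form, hh v]
  have hc : conjLin M' h ∈ Om Q ↔ h ∈ Om Q := by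
    rw [mem_Om hQ h5 hev, mem_Om hQ h5 hev, finrank_conj]
    exact ⟨fun t => ⟨hh, t.2⟩, fun t => ⟨hcQ, t.2⟩⟩
  rw [h1, mul_mem_Om_iff hQ h5 hh ((OQ _).mul_mem hcQ hgQ), mul_mem_Om_iff hQ h5 hcQ hgQ, hc]
  tauto

/-- If some square of a `σ`-semilinear isometry is outside `Ω`, then `X` contains no `σ`-semilinear isometry. -/
theorem false_of_sq (hQ : (polarBilin Q).Nondegenerate) (h5 : 5 ≤ Fintype.card ι) (hev : Even (Fintype.card ι))
    {X : Subgroup (Equiv.Perm (ι → F))}
    (hG : ∀ g ∈ OQ (⇑Q), lp F (ι → F) g ∈ X → g ∈ Om Q) {σ : F ≃+* F} (h2 : ∀ x, σ (σ x) = x)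
    {M N : Equiv.Perm (ι → F)} (hMX : M ∈ X)
    (hM : IsSS Q σ 1 M) (hN : IsSS Q σ 1 N) {k : (ι → F) ≃ₗ[F] (ι → F)} (hk : lp F (ι → F) k = N * N)
    (hk' : k ∉ Om Q) : False := by
  have h3 := hM.mul hM
  have h4 : σ.trans σ = RingEquiv.refl F := by
    ext x
    exact h2 x
  rw [h4, map_one, one_mul] at h3
  obtain ⟨g, hg, hgM⟩ := exists_lin h3 (isSS_lp ((OQ _).one_mem))
  have h6 : lp F (ι → F) g = M * M := by rw [← hgM, map_one, mul_one]
  exact hk' (sq_mem hQ h5 hev hM hN h6 hk hg (hG g hg (by rw [h6]; exact X.mul_mem hMX hMX)))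

end Sq

/-! ### The minus form -/

section Minus

variable {F : Type*} [Field F] [Fintype F] [CharP F 2] {k : ℕ} {a b : F}

/-- The example. -/
def mex (σ : F ≃+* F) (c d : F) (v : (Fin k ⊕ Fin k) ⊕ Fin 2 → F) : (Fin k ⊕ Fin k) ⊕ Fin 2 → F :=
  Sum.elim (fun x => σ (v (Sum.inl x))) ![σ (v (Sum.inr 0)) + c * σ (v (Sum.inr 1)), d * σ (v (Sum.inr 1))]

theorem mex_inl (σ : F ≃+* F) (c d : F) (v : (Fin k ⊕ Fin k) ⊕ Fin 2 → F) (x : Fin k ⊕ Fin k) :
    mex σ c d v (Sum.inl x) = σ (v (Sum.inl x)) := rfl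

theorem mex_zero (σ : F ≃+* F) (c d : F) (v : (Fin k ⊕ Fin k) ⊕ Fin 2 → F) :
    mex σ c d v (Sum.inr 0) = σ (v (Sum.inr 0)) + c * σ (v (Sum.inr 1)) := rfl

theorem mex_one (σ : F ≃+* F) (c d : F) (v : (Fin k ⊕ Fin k) ⊕ Fin 2 → F) :
    mex σ c d v (Sum.inr 1) = d * σ (v (Sum.inr 1)) := rfl

theorem ext_minus {u v : (Fin k ⊕ Fin k) ⊕ Fin 2 → F} (h1 : ∀ x, u (Sum.inl x) = v (Sum.inl x))
    (h2 : u (Sum.inr 0) = v (Sum.inr 0)) (h3 : u (Sum.inr 1) = v (Sum.inr 1)) : u = v := by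
  funext x
  rcases x with x | x
  · exact h1 x
  · fin_cases x
    · exact h2
    · exact h3

theorem mex_mex {σ : F ≃+* F} (h2 : ∀ x, σ (σ x) = x) {c d : F} (hd : d * σ d = 1)
    (v : (Fin k ⊕ Fin k) ⊕ Fin 2 → F) :
    mex σ c d (mex σ c d v) = v + ((σ c + c * σ d) * v (Sum.inr 1)) • Pi.single (Sum.inr 0) 1 := by
  apply ext_minus
  · intro x
    rw [mex_inl, mex_inl, h2, Pi.add_apply, Pi.smul_apply, Pi.single_eq_of_ne (by simp), smul_zero, add_zero]
  · rw [mex_zero, mex_zero, mex_one, Pi.add_apply, Pi.smul_apply, Pi.single_eq_same, map_add, map_mul, map_mul, h2, h2,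
      smul_eq_mul]
    ring
  · rw [mex_one, mex_one, Pi.add_apply, Pi.smul_apply, Pi.single_eq_of_ne (by simp), smul_zero, add_zero, map_mul, h2]
    linear_combination (v (Sum.inr 1)) * hd

/-- **The example**: a semilinear isometry whose square is a reflection. -/
theorem exists_mex (hab : ∀ z₁ z₂ : F, z₁ ^ 2 + a * z₁ * z₂ + b * z₂ ^ 2 = 0 → z₁ = 0 ∧ z₂ = 0)
    {σ : F ≃+* F} (h1 : ∃ x, σ x ≠ x) (h2 : ∀ x, σ (σ x) = x) :
    ∃ N : Equiv.Perm ((Fin k ⊕ Fin k) ⊕ Fin 2 → F), IsSS (quadMinus k F a b) σ 1 N ∧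
      ∃ g : ((Fin k ⊕ Fin k) ⊕ Fin 2 → F) ≃ₗ[F] ((Fin k ⊕ Fin k) ⊕ Fin 2 → F), lp F _ g = N * N ∧
        finrank F (bV g) + 1 = 2 * (k + 1) := by
  classical
  obtain ⟨j, hj, hF, hσ⟩ := exists_frob h1 h2
  have ha : a ≠ 0 := by
    rintro rfl
    obtain ⟨t, ht⟩ := FiniteField.isSquare_of_char_two (ringChar.eq F 2) b
    have h3 := (hab t 1 (by
      rw [ht]
      have h5 : (2 : F) = 0 := CharTwo.two_eq_zero
      linear_combination (t ^ 2) * h5)).2
    exact one_ne_zero h3
  have hσa : σ a ≠ 0 := by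
    intro h
    exact ha (by rw [← h2 a, h, map_zero])
  set β := b / a ^ 2 with hβ
  have hβ' : ∀ x : F, x ^ 2 + x ≠ β := by
    intro x hx
    have h3 := (hab (a * x) 1 (by
      have h4 : b = a ^ 2 * (x ^ 2 + x) := by rw [hx, hβ]; field_simp
      have h5 : (2 : F) = 0 := CharTwo.two_eq_zero
      rw [h4]
      linear_combination (a ^ 2 * x ^ 2 + a ^ 2 * x) * h5)).2
    exact one_ne_zero h3
  have htr := tr_ne_zero (N := 2 * j) (by omega) hF hβ'
  set c' := tr j β with hc'
  have hc1 : c' ^ 2 + c' = σ β + β := by rw [hc', tr_sq, hσ]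
  have hc2 : σ c' + c' = tr (2 * j) β := by
    rw [hc', hσ, tr, tr, sum_pow_char_pow, two_mul, Finset.sum_range_add, add_comm]
    congr 1
    refine Finset.sum_congr rfl fun i _ => ?_
    rw [← pow_mul, ← pow_add, add_comm j i]
  set c := σ a * c' with hc
  set d := σ a / a with hd
  have hdd : d * σ d = 1 := by
    rw [hd, map_div₀, h2]
    field_simp
  have had : a * d = σ a := by rw [hd]; field_simp
  have hform : c ^ 2 + a * c * d + b * d ^ 2 = σ b := by
    have h5 : (2 : F) = 0 := CharTwo.two_eq_zero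
    have hb : b = a ^ 2 * β := by rw [hβ]; field_simp
    have hσb : σ b = σ a ^ 2 * σ β := by rw [hb, map_mul, map_pow]
    rw [hσb]
    have e1 : a * c * d = σ a * c := by rw [← had]; ring
    have e2 : b * d ^ 2 = σ a ^ 2 * β := by rw [hb, ← had]; ring
    rw [e1, e2, hc]
    linear_combination (σ a ^ 2) * hc1 + (σ a ^ 2 * β) * h5
  have hee : σ c + c * σ d = a * tr (2 * j) β := by
    rw [← hc2, hc, hd, map_mul, h2, map_div₀, h2]
    field_simp
  set e := σ c + c * σ d with he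
  have he0 : e ≠ 0 := by
    rw [hee]
    exact mul_ne_zero ha htr
  -- the square
  have hsq : ∀ v : (Fin k ⊕ Fin k) ⊕ Fin 2 → F, mex σ c d (mex σ c d v) = v + (e * v (Sum.inr 1)) • Pi.single (Sum.inr 0) 1 :=
    fun v => mex_mex h2 hdd v
  have hq4 : ∀ v : (Fin k ⊕ Fin k) ⊕ Fin 2 → F, mex σ c d (mex σ c d (mex σ c d (mex σ c d v))) = v := by
    intro v
    rw [hsq, hsq, Pi.add_apply, Pi.smul_apply, Pi.single_eq_of_ne (by simp), smul_zero, add_zero, add_assoc,
      add_self_V F, add_zero]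
  let N : Equiv.Perm ((Fin k ⊕ Fin k) ⊕ Fin 2 → F) := ⟨mex σ c d, fun v => mex σ c d (mex σ c d (mex σ c d v)), hq4, hq4⟩
  refine ⟨N, ⟨one_ne_zero, ?_, ?_, ?_⟩, ?_⟩
  · intro u v
    show mex σ c d (u + v) = mex σ c d u + mex σ c d v
    apply ext_minus
    · intro x
      exact map_add σ _ _
    · rw [mex_zero, Pi.add_apply, Pi.add_apply, Pi.add_apply, mex_zero, mex_zero, map_add, map_add]
      ring
    · rw [mex_one, Pi.add_apply, Pi.add_apply, mex_one, mex_one, map_add]
      ring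
  · intro t v
    show mex σ c d (t • v) = σ t • mex σ c d v
    apply ext_minus
    · intro x
      exact map_mul σ _ _
    · rw [mex_zero, Pi.smul_apply, Pi.smul_apply, Pi.smul_apply, mex_zero, smul_eq_mul, smul_eq_mul, map_mul, map_mul,
        smul_eq_mul]
      ring
    · rw [mex_one, Pi.smul_apply, Pi.smul_apply, mex_one, smul_eq_mul, map_mul, smul_eq_mul]
      ring
  · intro v
    show quadMinus k F a b (mex σ c d v) = 1 * σ (quadMinus k F a b v)
    rw [coe_quadMinus, quadFormMinus, quadFormMinus, one_mul, map_add, map_sum, map_add, map_add, map_pow, map_mul, map_mul,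
      map_mul, map_pow]
    simp only [mex_inl, mex_zero, mex_one, map_mul]
    have h5 : (2 : F) = 0 := CharTwo.two_eq_zero
    linear_combination (σ (v (Sum.inr 1)) ^ 2) * hform + (σ (v (Sum.inr 0)) * σ (v (Sum.inr 1))) * had +
      (c * σ (v (Sum.inr 0)) * σ (v (Sum.inr 1))) * h5
  · let g : ((Fin k ⊕ Fin k) ⊕ Fin 2 → F) ≃ₗ[F] ((Fin k ⊕ Fin k) ⊕ Fin 2 → F) :=
      { toFun := fun v => (N * N) v
        invFun := fun v => (N * N) v
        map_add' := fun u v => by
          show mex σ c d (mex σ c d (u + v)) = mex σ c d (mex σ c d u) + mex σ c d (mex σ c d v)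
          rw [hsq, hsq, hsq, Pi.add_apply, mul_add, add_smul]
          abel
        map_smul' := fun t v => by
          show mex σ c d (mex σ c d (t • v)) = t • mex σ c d (mex σ c d v)
          rw [hsq, hsq, Pi.smul_apply, smul_eq_mul, smul_add, smul_smul]
          congr 2
          ring
        left_inv := hq4
        right_inv := hq4 }
    refine ⟨g, by apply Equiv.ext; intro v; rfl, ?_⟩
    let T : ((Fin k ⊕ Fin k) ⊕ Fin 2 → F) →ₗ[F] F := LinearMap.proj (Sum.inr 1)
    have hker : LinearMap.ker T = bV g := by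
      ext v
      rw [LinearMap.mem_ker, mem_bV]
      show v (Sum.inr 1) = 0 ↔ mex σ c d (mex σ c d v) = v
      rw [hsq]
      constructor
      · intro h
        rw [h, mul_zero, zero_smul, add_zero]
      · intro h
        have h3 := congrFun h (Sum.inr 0)
        rw [Pi.add_apply, Pi.smul_apply, Pi.single_eq_same, smul_eq_mul, mul_one, add_eq_left] at h3
        rcases mul_eq_zero.1 h3 with h4 | h4
        · exact absurd h4 he0
        · exact h4
    have hsurj : Function.Surjective T := by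
      intro t
      refine ⟨Pi.single (Sum.inr 1) t, ?_⟩
      show (Pi.single (Sum.inr 1) t : (Fin k ⊕ Fin k) ⊕ Fin 2 → F) (Sum.inr 1) = t
      rw [Pi.single_eq_same]
    have h3 := LinearMap.finrank_range_add_finrank_ker T
    rw [hker, LinearMap.range_eq_top.2 hsurj, finrank_top, finrank_self, Module.finrank_fintype_fun_eq_card,
      Fintype.card_sum, Fintype.card_sum, Fintype.card_fin, Fintype.card_fin] at h3
    omega

/-- **(B), minus type.** -/
theorem minus {n : ℕ} (hn : 4 ≤ n) (hab : ∀ z₁ z₂ : F, z₁ ^ 2 + a * z₁ * z₂ + b * z₂ ^ 2 = 0 → z₁ = 0 ∧ z₂ = 0)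
    {X : Subgroup (Equiv.Perm ((Fin (n - 1) ⊕ Fin (n - 1)) ⊕ Fin 2 → F))}
    (hG : ∀ g ∈ OQ (⇑(quadMinus (n - 1) F a b)), lp F _ g ∈ X → g ∈ Om (quadMinus (n - 1) F a b))
    {σ : F ≃+* F} (h1 : ∃ x, σ x ≠ x) (h2 : ∀ x, σ (σ x) = x)
    {M : Equiv.Perm ((Fin (n - 1) ⊕ Fin (n - 1)) ⊕ Fin 2 → F)} (hMX : M ∈ X)
    (hM : IsSS (quadMinus (n - 1) F a b) σ 1 M) : False := by
  classical
  obtain ⟨N, hN, g, hg, hgd⟩ := exists_mex (k := n - 1) hab h1 h2
  have hc : Fintype.card ((Fin (n - 1) ⊕ Fin (n - 1)) ⊕ Fin 2) = 2 * n := by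
    rw [Fintype.card_sum, Fintype.card_sum, Fintype.card_fin, Fintype.card_fin]
    omega
  refine false_of_sq (quadMinus_nondegenerate hab) (by rw [hc]; omega) (by rw [hc]; exact even_two_mul n) hG h2 hMX hM hN hg ?_
  refine notMem_Om_of_odd (quadMinus_nondegenerate hab) (by rw [hc]; omega) (by rw [hc]; exact even_two_mul n) ?_
  exact ⟨n - 1, by omega⟩

end Minus

end Cfsg.Agent.H231.OutB
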