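import Mathlib
import Cfsg.Agent.H168.Uni.Zero

/-!
# Theorem (U), part (D): `StZero` for all odd `p` (helper231)

helper168's `Zm_step` reduces to `m = 1, 2`. The case `m = 2`, exponents `(a, b)`, `a < p`, `2 b < p`:

* special frame, `mn 0 = 2 (1 - t₀)`, `mn 1 = - (1 - t₀)² (1 - t₁)² / (t₀ t₁)`: constant term `± 2 ^ a C(a+2b, b) C(2b, b)`;
* product frame, `mn 0 = (A + A⁻¹) (B + B⁻¹)`, `mn 1 = - ((A + A⁻¹) - λ (B + B⁻¹))²` with `t₀ = A B`, `t₁ = A / B`.
-/

set_option autoImplicit false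
set_option linter.unusedSimpArgs false
set_option linter.unusedSectionVars false
set_option linter.unusedVariables false

namespace Cfsg.Agent.H231.UniZero

open QuadraticMap Cfsg.Agent.LieClassical.OrthCore Cfsg.Agent.LieClassical.OmegaReindex
  Cfsg.Agent.LieClassical.OrthFinite Cfsg.Agent.H45.Uni Cfsg.Agent.H168.Uni Finset

/-! ### Arithmetic -/

theorem choose_ne {p n k : ℕ} (hp : p.Prime) (hn : n < p) (hk : k ≤ n) : ¬ p ∣ n.choose k := by
  intro h
  have h1 := Nat.choose_mul_factorial_mul_factorial hk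
  have h2 : p ∣ n.factorial := by
    rw [← h1, mul_assoc]
    exact h.mul_right _
  exact absurd ((hp.dvd_factorial).1 h2) (by omega)

theorem choose_ne' {p a b : ℕ} (hp : p.Prime) (ha : a < p) (hb : 2 * b < p) (h : a + 2 * b < p ∨ p ≤ a + b) :
    ¬ p ∣ (a + 2 * b).choose b := by
  rcases h with h | h
  · exact choose_ne hp h (by omega)
  · have := Fact.mk hp
    have h1 := Choose.choose_modEq_choose_mod_mul_choose_div_nat (n := a + 2 * b) (k := b) (p := p)
    have h2 : (a + 2 * b) % p = a + 2 * b - p := by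
      rw [Nat.mod_eq_sub_mod (by omega), Nat.mod_eq_of_lt (by omega)]
    have h3 : (a + 2 * b) / p = 1 := by
      apply Nat.div_eq_of_lt_le <;> omega
    have h4 : b % p = b := Nat.mod_eq_of_lt (by omega)
    have h5 : b / p = 0 := Nat.div_eq_of_lt (by omega)
    rw [h2, h3, h4, h5, Nat.choose_zero_right, mul_one] at h1
    intro h6
    have h7 : p ∣ (a + 2 * b - p).choose b := (Nat.modEq_zero_iff_dvd).1 (h1.symm.trans ((Nat.modEq_zero_iff_dvd).2 h6))
    exact choose_ne hp (by omega) (by omega) h7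

variable {m : ℕ} {k : Type*} [Field k]

theorem cast_ne' {p : ℕ} [CharP k p] {z : ℕ} (h : ¬ p ∣ z) : (z : k) ≠ 0 := fun h0 =>
  h ((CharP.cast_eq_zero_iff k p z).1 h0)

/-! ### Zero coefficients of sums -/

theorem hasZ_sum {ι : Type*} (S : Finset ι) (c : ι → k) (μ : ι → Fin m → ℤ) :
    HasZ (fun t => ∑ i ∈ S, c i * chi (μ i) t) (∑ i ∈ S, if μ i = 0 then c i else 0) := by
  classical
  induction S using Finset.induction_on with
  | empty =>
    unfold HasZ
    have : (fun t : Fin m → kˣ => ∑ i ∈ (∅ : Finset ι), c i * chi (μ i) t) -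
        (fun _ => ∑ i ∈ (∅ : Finset ι), if μ i = 0 then c i else 0) = 0 := by
      funext t; simp
    rw [this]
    exact Submodule.zero_mem _
  | insert j S hj ih =>
    unfold HasZ at *
    have : (fun t : Fin m → kˣ => ∑ i ∈ insert j S, c i * chi (μ i) t) -
        (fun _ => ∑ i ∈ insert j S, if μ i = 0 then c i else 0) =
        (c j • (chi (μ j) : (Fin m → kˣ) → k) - fun _ => if μ j = 0 then c j else 0) +
        ((fun t : Fin m → kˣ => ∑ i ∈ S, c i * chi (μ i) t) - fun _ => ∑ i ∈ S, if μ i = 0 then c i else 0) := by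
      funext t
      simp only [Pi.sub_apply, Pi.add_apply, Pi.smul_apply, smul_eq_mul, Finset.sum_insert hj]
      ring
    rw [this]
    refine Submodule.add_mem _ ?_ ih
    by_cases h : μ j = 0
    · rw [if_pos h, h, chi_zero]
      have : c j • (1 : (Fin m → kˣ) → k) - (fun _ => c j) = 0 := by
        funext t; simp
      rw [this]
      exact Submodule.zero_mem _
    · rw [if_neg h]
      have : c j • (chi (μ j) : (Fin m → kˣ) → k) - (fun _ => (0 : k)) = c j • chi (μ j) := by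
        funext t; simp
      rw [this]
      exact Submodule.smul_mem _ _ (chi_mem h)

theorem hasZ_of_eq {f g : (Fin m → kˣ) → k} {c : k} (h : HasZ f c) (hg : ∀ t, g t = f t) : HasZ g c := by
  have : g = f := funext hg
  rwa [this]

/-! ### `m = 1` -/

theorem Zm_one_gen {p : ℕ} [CharP k p] (hp : p.Prime) (n : Fin 1 → ℕ) (h : 2 * n 0 < p) : Zm 1 k n := by
  classical
  set b := n 0 with hb
  refine ⟨_, _, _, _, _, _, ((2 * b).choose b : k), Bs_one, Bs_one, cast_ne' (choose_ne hp h (by omega)), ?_⟩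
  have key := hasZ_sum (k := k) (m := 1) (range (2 * b + 1))
    (fun i => (-1) ^ b * ((-1) ^ i * ((2 * b).choose i : k))) (fun i => ![(i : ℤ) - b])
  have e : ∑ i ∈ range (2 * b + 1), (if (![(i : ℤ) - b] : Fin 1 → ℤ) = 0 then
      (-1) ^ b * ((-1) ^ i * ((2 * b).choose i : k)) else 0) = ((2 * b).choose b : k) := by
    rw [Finset.sum_eq_single b]
    · rw [if_pos, ← mul_assoc, ← pow_add, ← two_mul, pow_mul]
      · norm_num
      · funext j
        simp
    · intro i _ hi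
      rw [if_neg]
      intro h0
      have := congrFun h0 0
      simp at this
      omega
    · intro h0
      exact absurd (Finset.mem_range.2 (by omega)) h0
  rw [e] at key
  refine hasZ_of_eq key fun t => ?_
  rw [Fin.prod_univ_one, mn_base1]
  have ht := (t 0).ne_zero
  have h1 : ev k L1 t = -((1 + -(t 0 : k)) ^ 2 * ((t 0 : k))⁻¹) := by
    simp [ev, L1, chi]
    field_simp
    ring
  have h2 : ev k L1 t ^ b = (-1) ^ b * ((1 + -(t 0 : k)) ^ (2 * b) * ((t 0 : k))⁻¹ ^ b) := by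
    rw [h1, neg_pow, mul_pow, ← pow_mul]
  rw [← hb, h2, add_pow, Finset.sum_mul, Finset.mul_sum, ← Finset.sum_range_reflect]
  refine Finset.sum_congr rfl fun i hi => ?_
  have hi' : i ≤ 2 * b := by have := Finset.mem_range.1 hi; omega
  have e1 : 2 * b + 1 - 1 - i = 2 * b - i := by omega
  have e2 : 2 * b - (2 * b - i) = i := by omega
  rw [e1, e2, one_pow, one_mul, Nat.choose_symm hi', neg_pow]
  have e3 : chi ![(i : ℤ) - b] t = (t 0 : k) ^ i * ((t 0 : k))⁻¹ ^ b := by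
    simp [chi, zpow_sub₀ ht]
    field_simp
  rw [e3]
  ring

/-! ### `m = 2`, the special frame -/

def sU (k : Type*) [Field k] : Fin 2 → Ix 2 → k := ![mkv 1 ![2, 1] ![0, -1], mkv 0 ![1, 1] ![1, -1]]
def sU' (k : Type*) [Field k] : Fin 2 → Ix 2 → k := ![mkv 0 ![-1, 0] ![0, 1], mkv 0 ![1, 0] ![0, 0]]
def sV (k : Type*) [Field k] : Fin 2 → Ix 2 → k := ![mkv 1 ![1, 0] ![-1, 0], mkv 0 ![1, -1] ![1, 1]]
def sV' (k : Type*) [Field k] : Fin 2 → Ix 2 → k := ![mkv 0 ![0, 0] ![1, 1], mkv 0 ![0, 0] ![0, -1]]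

theorem Bs_sU : Bs (mkv 1 ![2, 0] ![0, -2] : Ix 2 → k) (sU k) (sU' k) := by
  constructor
  · rw [Q_apply]; simp [mkv]
  · intro i
    rw [polar_quadOdd]; fin_cases i <;> simp [mkv, sU]
  · intro i
    rw [polar_quadOdd]; fin_cases i <;> simp [mkv, sU']
  · intro i
    rw [Q_apply]; fin_cases i <;> simp [mkv, sU]
  · intro i
    rw [Q_apply]; fin_cases i <;> simp [mkv, sU']
  · intro i j
    rw [polar_quadOdd]; fin_cases i <;> fin_cases j <;> simp [mkv, sU] <;> ring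
  · intro i j
    rw [polar_quadOdd]; fin_cases i <;> fin_cases j <;> simp [mkv, sU']
  · intro i j
    rw [polar_quadOdd]; fin_cases i <;> fin_cases j <;> simp [mkv, sU, sU']

theorem Bs_sV : Bs (mkv 1 ![0, 0] ![-2, -2] : Ix 2 → k) (sV k) (sV' k) := by
  constructor
  · rw [Q_apply]; simp [mkv]
  · intro i
    rw [polar_quadOdd]; fin_cases i <;> simp [mkv, sV]
  · intro i
    rw [polar_quadOdd]; fin_cases i <;> simp [mkv, sV']
  · intro i
    rw [Q_apply]; fin_cases i <;> simp [mkv, sV]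
  · intro i
    rw [Q_apply]; fin_cases i <;> simp [mkv, sV']
  · intro i j
    rw [polar_quadOdd]; fin_cases i <;> fin_cases j <;> simp [mkv, sV] <;> ring
  · intro i j
    rw [polar_quadOdd]; fin_cases i <;> fin_cases j <;> simp [mkv, sV']
  · intro i j
    rw [polar_quadOdd]; fin_cases i <;> fin_cases j <;> simp [mkv, sV, sV']

theorem mn_s0 (t : Fin 2 → kˣ) : mn t (sV k) (sU k) 0 = 2 * (1 - t 0) := by
  unfold mn
  refine (Matrix.det_fin_one _).trans ?_
  change polar (quadOdd 2 k) (mkv 1 ![1, 0] ![-1, 0]) (tor t (mkv 1 ![2, 1] ![0, -1])) = _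
  rw [polar_quadOdd]
  simp only [tor_z, tor_e, tor_f, mkv_z, mkv_e, mkv_f, Fin.sum_univ_two]
  simp
  try ring

theorem mn_s1 (t : Fin 2 → kˣ) : mn t (sV k) (sU k) 1 =
    -((1 - t 0) ^ 2 * (1 - t 1) ^ 2 * ((t 0 : k)⁻¹ * (t 1 : k)⁻¹)) := by
  unfold mn
  refine (Matrix.det_fin_two _).trans ?_
  change polar (quadOdd 2 k) (mkv 1 ![1, 0] ![-1, 0]) (tor t (mkv 1 ![2, 1] ![0, -1])) *
    polar (quadOdd 2 k) (mkv 0 ![1, -1] ![1, 1]) (tor t (mkv 0 ![1, 1] ![1, -1])) -
    polar (quadOdd 2 k) (mkv 1 ![1, 0] ![-1, 0]) (tor t (mkv 0 ![1, 1] ![1, -1])) *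
    polar (quadOdd 2 k) (mkv 0 ![1, -1] ![1, 1]) (tor t (mkv 1 ![2, 1] ![0, -1])) = _
  rw [polar_quadOdd, polar_quadOdd, polar_quadOdd, polar_quadOdd]
  simp only [tor_z, tor_e, tor_f, mkv_z, mkv_e, mkv_f, Fin.sum_univ_two]
  have h0 := (t 0).ne_zero
  have h1 := (t 1).ne_zero
  simp
  field_simp
  ring

/-- binomial theorem -/
theorem one_sub_pow (x : k) (N : ℕ) : (1 - x) ^ N = ∑ i ∈ range (N + 1), (-1) ^ i * (N.choose i : k) * x ^ i := by
  rw [sub_eq_add_neg, add_comm, add_pow]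
  refine Finset.sum_congr rfl fun i _ => ?_
  rw [one_pow, neg_pow]
  ring

theorem chi_two (t : Fin 2 → kˣ) (x y : ℤ) : chi (k := k) ![x, y] t = (t 0 : k) ^ x * (t 1 : k) ^ y := by
  simp [chi]

theorem Zm_special {p : ℕ} [CharP k p] (hp : p.Prime) (hp2 : p ≠ 2) (n : Fin 2 → ℕ) (h0 : n 0 < p) (h1 : 2 * n 1 < p)
    (h : n 0 + 2 * n 1 < p ∨ p ≤ n 0 + n 1) : Zm 2 k n := by
  classical
  set a := n 0 with ha
  set b := n 1 with hb
  have h2 : (2 : k) ≠ 0 := by
    have : ((2 : ℕ) : k) ≠ 0 := cast_ne' (p := p) (fun h => hp2 ((Nat.prime_dvd_prime_iff_eq hp Nat.prime_two).1 h))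
    exact_mod_cast this
  have hc : 2 ^ a * (-1) ^ b * (((-1) ^ b * ((a + 2 * b).choose b : k)) * ((-1) ^ b * ((2 * b).choose b : k))) ≠ (0 : k) := by
    refine mul_ne_zero (mul_ne_zero (pow_ne_zero _ h2) (pow_ne_zero _ (by simp)))
      (mul_ne_zero (mul_ne_zero (pow_ne_zero _ (by simp)) ?_) (mul_ne_zero (pow_ne_zero _ (by simp)) ?_))
    · exact cast_ne' (choose_ne' hp h0 h1 h)
    · exact cast_ne' (choose_ne hp h1 (by omega))
  refine ⟨_, _, _, _, _, _, _, Bs_sU, Bs_sV, hc, ?_⟩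
  have key := hasZ_sum (k := k) (m := 2) (range (a + 2 * b + 1) ×ˢ range (2 * b + 1))
    (fun i => 2 ^ a * (-1) ^ b * (((-1) ^ i.1 * ((a + 2 * b).choose i.1 : k)) * ((-1) ^ i.2 * ((2 * b).choose i.2 : k))))
    (fun i => ![(i.1 : ℤ) - b, (i.2 : ℤ) - b])
  have e : ∑ i ∈ range (a + 2 * b + 1) ×ˢ range (2 * b + 1), (if (![(i.1 : ℤ) - b, (i.2 : ℤ) - b] : Fin 2 → ℤ) = 0 then
      2 ^ a * (-1) ^ b * (((-1) ^ i.1 * ((a + 2 * b).choose i.1 : k)) * ((-1) ^ i.2 * ((2 * b).choose i.2 : k))) else 0) =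
      2 ^ a * (-1) ^ b * (((-1) ^ b * ((a + 2 * b).choose b : k)) * ((-1) ^ b * ((2 * b).choose b : k))) := by
    rw [Finset.sum_eq_single (b, b)]
    · rw [if_pos]
      funext j
      fin_cases j <;> simp
    · rintro ⟨i, j⟩ _ hij
      rw [if_neg]
      intro h0
      have h3 := congrFun h0 0
      have h4 := congrFun h0 1
      simp at h3 h4
      apply hij
      rw [Prod.mk.injEq]
      omega
    · intro h0
      exact absurd (Finset.mem_product.2 ⟨Finset.mem_range.2 (by omega), Finset.mem_range.2 (by omega)⟩) h0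
  rw [e] at key
  refine hasZ_of_eq key fun t => ?_
  rw [Fin.prod_univ_two, mn_s0, mn_s1, ← ha, ← hb]
  have ht0 := (t 0).ne_zero
  have ht1 := (t 1).ne_zero
  have e1 : (2 * (1 - (t 0 : k))) ^ a * (-((1 - (t 0 : k)) ^ 2 * (1 - (t 1 : k)) ^ 2 * ((t 0 : k)⁻¹ * (t 1 : k)⁻¹))) ^ b =
      2 ^ a * (-1) ^ b * (((1 - (t 0 : k)) ^ (a + 2 * b) * (t 0 : k)⁻¹ ^ b) * ((1 - (t 1 : k)) ^ (2 * b) * (t 1 : k)⁻¹ ^ b)) := by
    rw [neg_pow, mul_pow, mul_pow, mul_pow, mul_pow, pow_add, ← pow_mul, ← pow_mul]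
    ring
  rw [e1, one_sub_pow, one_sub_pow, Finset.sum_mul, Finset.sum_mul, Finset.mul_sum, Finset.sum_product]
  refine Finset.sum_congr rfl fun i _ => ?_
  rw [Finset.sum_mul, Finset.mul_sum, Finset.mul_sum]
  refine Finset.sum_congr rfl fun j _ => ?_
  rw [chi_two, zpow_sub₀ ht0, zpow_sub₀ ht1, zpow_natCast, zpow_natCast, zpow_natCast, zpow_natCast, inv_pow, inv_pow]
  field_simp

/-! ### `m = 2`, the product frame -/

def pU (k : Type*) [Field k] : Fin 2 → Ix 2 → k := ![mkv 0 ![1, 1] ![1, -1], mkv 1 ![0, 1] ![2, -1]]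
def pU' (k : Type*) [Field k] : Fin 2 → Ix 2 → k := ![mkv 0 ![0, 0] ![1, 0], mkv 0 ![0, 0] ![-1, 1]]
def pV (l : k) : Fin 2 → Ix 2 → k := ![mkv 0 ![1, -1] ![1, 1], mkv l ![0, -1] ![l ^ 2 + 1, l ^ 2]]
def pV' (k : Type*) [Field k] : Fin 2 → Ix 2 → k := ![mkv 0 ![0, 0] ![1, 0], mkv 0 ![0, 0] ![-1, -1]]

theorem Bs_pU : Bs (mkv 1 ![0, 0] ![2, -2] : Ix 2 → k) (pU k) (pU' k) := by
  constructor
  · rw [Q_apply]; simp [mkv]
  · intro i
    rw [polar_quadOdd]; fin_cases i <;> simp [mkv, pU]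
  · intro i
    rw [polar_quadOdd]; fin_cases i <;> simp [mkv, pU']
  · intro i
    rw [Q_apply]; fin_cases i <;> simp [mkv, pU]
  · intro i
    rw [Q_apply]; fin_cases i <;> simp [mkv, pU']
  · intro i j
    rw [polar_quadOdd]; fin_cases i <;> fin_cases j <;> simp [mkv, pU] <;> ring
  · intro i j
    rw [polar_quadOdd]; fin_cases i <;> fin_cases j <;> simp [mkv, pU']
  · intro i j
    rw [polar_quadOdd]; fin_cases i <;> fin_cases j <;> simp [mkv, pU, pU']

theorem Bs_pV (l : k) : Bs (mkv 1 ![0, 0] ![2 * l, 2 * l] : Ix 2 → k) (pV l) (pV' k) := by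
  constructor
  · rw [Q_apply]; simp [mkv]
  · intro i
    rw [polar_quadOdd]; fin_cases i <;> simp [mkv, pV]
  · intro i
    rw [polar_quadOdd]; fin_cases i <;> simp [mkv, pV']
  · intro i
    rw [Q_apply]; fin_cases i <;> simp [mkv, pV]
  · intro i
    rw [Q_apply]; fin_cases i <;> simp [mkv, pV']
  · intro i j
    rw [polar_quadOdd]; fin_cases i <;> fin_cases j <;> simp [mkv, pV] <;> ring
  · intro i j
    rw [polar_quadOdd]; fin_cases i <;> fin_cases j <;> simp [mkv, pV']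
  · intro i j
    rw [polar_quadOdd]; fin_cases i <;> fin_cases j <;> simp [mkv, pV, pV']

theorem mn_p0 (l : k) (t : Fin 2 → kˣ) {A B : k} (hA : A ≠ 0) (hB : B ≠ 0) (h0 : (t 0 : k) = A * B)
    (h1 : (t 1 : k) = A / B) : mn t (pV l) (pU k) 0 = (A + A⁻¹) * (B + B⁻¹) := by
  unfold mn
  refine (Matrix.det_fin_one _).trans ?_
  change polar (quadOdd 2 k) (mkv 0 ![1, -1] ![1, 1]) (tor t (mkv 0 ![1, 1] ![1, -1])) = _
  rw [polar_quadOdd]
  simp only [tor_z, tor_e, tor_f, mkv_z, mkv_e, mkv_f, Fin.sum_univ_two]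
  simp [h0, h1]
  field_simp
  ring

theorem mn_p1 (l : k) (t : Fin 2 → kˣ) {A B : k} (hA : A ≠ 0) (hB : B ≠ 0) (h0 : (t 0 : k) = A * B)
    (h1 : (t 1 : k) = A / B) : mn t (pV l) (pU k) 1 = -((A + A⁻¹) - l * (B + B⁻¹)) ^ 2 := by
  unfold mn
  refine (Matrix.det_fin_two _).trans ?_
  change polar (quadOdd 2 k) (mkv 0 ![1, -1] ![1, 1]) (tor t (mkv 0 ![1, 1] ![1, -1])) *
    polar (quadOdd 2 k) (mkv l ![0, -1] ![l ^ 2 + 1, l ^ 2]) (tor t (mkv 1 ![0, 1] ![2, -1])) -
    polar (quadOdd 2 k) (mkv 0 ![1, -1] ![1, 1]) (tor t (mkv 1 ![0, 1] ![2, -1])) *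
    polar (quadOdd 2 k) (mkv l ![0, -1] ![l ^ 2 + 1, l ^ 2]) (tor t (mkv 0 ![1, 1] ![1, -1])) = _
  rw [polar_quadOdd, polar_quadOdd, polar_quadOdd, polar_quadOdd]
  simp only [tor_z, tor_e, tor_f, mkv_z, mkv_e, mkv_f, Fin.sum_univ_two]
  simp [h0, h1]
  field_simp
  ring

/-- `(A + A⁻¹) ^ N` with a longer range -/
theorem add_inv_pow {A : k} (hA : A ≠ 0) {N T : ℕ} (hT : N ≤ T) :
    (A + A⁻¹) ^ N = ∑ i ∈ range (T + 1), (N.choose i : k) * A ^ (2 * (i : ℤ) - N) := by
  have h1 : (A + A⁻¹) ^ N = ∑ i ∈ range (N + 1), (N.choose i : k) * A ^ (2 * (i : ℤ) - N) := by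
    rw [add_pow]
    refine Finset.sum_congr rfl fun i hi => ?_
    have hi' : i ≤ N := by have := Finset.mem_range.1 hi; omega
    have h2 : A ^ i * A⁻¹ ^ (N - i) = A ^ (2 * (i : ℤ) - N) := by
      rw [inv_pow, ← zpow_natCast, ← zpow_natCast, ← zpow_neg, ← zpow_add₀ hA]
      congr 1
      push_cast [Nat.cast_sub hi']
      ring
    rw [h2, mul_comm]
  rw [h1]
  refine Finset.sum_subset (fun i hi => Finset.mem_range.2 (by have := Finset.mem_range.1 hi; omega)) fun i _ hi => ?_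
  rw [Nat.choose_eq_zero_of_lt (by
    have : ¬ i < N + 1 := fun h => hi (Finset.mem_range.2 h)
    omega), Nat.cast_zero, zero_mul]

theorem zpow_AB {A B : k} (hA : A ≠ 0) (hB : B ≠ 0) (x y : ℤ) :
    (A * B) ^ x * (A / B) ^ y = A ^ (x + y) * B ^ (x - y) := by
  rw [mul_zpow, div_zpow, zpow_add₀ hA, zpow_sub₀ hB]
  ring

theorem Zm_prod [IsAlgClosed k] {p : ℕ} [CharP k p] (hp : p.Prime) (hp2 : p ≠ 2) (n : Fin 2 → ℕ) (h0 : n 0 + n 1 < p)
    (h1 : 2 * n 1 < p) (hb0 : 0 < n 1) : Zm 2 k n := by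
  classical
  set a := n 0 with ha
  set b := n 1 with hb
  have hodd := hp.odd_of_ne_two hp2
  -- the exponent `s`
  obtain ⟨s, x, y, hs, hx, hy, hx1, hy1⟩ : ∃ s x y : ℕ, s ≤ 2 * b ∧ a + 2 * b - s = 2 * x ∧ a + s = 2 * y ∧
      2 * x < p ∧ 2 * y < p := by
    rcases Nat.even_or_odd (a + b) with he | ho
    · obtain ⟨c, hc⟩ := he
      exact ⟨b, c, c, by omega, by omega, by omega, by omega, by omega⟩
    · obtain ⟨c, hc⟩ := ho
      obtain ⟨d, hd⟩ := hodd
      exact ⟨b + 1, c, c + 1, by omega, by omega, by omega, by omega, by omega⟩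
  -- the coefficients
  let γ : ℕ → ℕ → ℕ → k := fun r i j =>
    (-1) ^ b * ((2 * b).choose r : k) * ((-1) ^ r * (((a + 2 * b - r).choose i : k) * ((a + r).choose j : k)))
  let μ : ℕ → ℕ → ℕ → Fin 2 → ℤ := fun r i j => ![(i : ℤ) + j - a - b, (i : ℤ) - j + r - b]
  let T := a + 2 * b
  let P : Polynomial k := ∑ r ∈ range (2 * b + 1),
    Polynomial.C (∑ i ∈ range (T + 1), ∑ j ∈ range (T + 1), if μ r i j = 0 then γ r i j else 0) * Polynomial.X ^ r
  have hPs : P.coeff s ≠ 0 := by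
    have e1 : P.coeff s = ∑ i ∈ range (T + 1), ∑ j ∈ range (T + 1), if μ s i j = 0 then γ s i j else 0 := by
      rw [Polynomial.finsetSum_coeff, Finset.sum_eq_single s]
      · rw [Polynomial.coeff_C_mul_X_pow, if_pos rfl]
      · intro r _ hr
        rw [Polynomial.coeff_C_mul_X_pow, if_neg (Ne.symm hr)]
      · intro h
        exact absurd (Finset.mem_range.2 (by omega)) h
    have e2 : ∑ i ∈ range (T + 1), ∑ j ∈ range (T + 1), (if μ s i j = 0 then γ s i j else 0) = γ s x y := by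
      rw [Finset.sum_eq_single x]
      · rw [Finset.sum_eq_single y]
        · rw [if_pos]
          funext j
          fin_cases j
          · show (x : ℤ) + y - a - b = 0
            omega
          · show (x : ℤ) - y + s - b = 0
            omega
        · intro j _ hj
          rw [if_neg]
          intro h
          have h3 : (x : ℤ) + j - a - b = 0 := congrFun h 0
          omega
        · intro h
          exact absurd (Finset.mem_range.2 (by omega)) h
      · intro i _ hi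
        apply Finset.sum_eq_zero
        intro j _
        rw [if_neg]
        intro h
        have h3 : (i : ℤ) + j - a - b = 0 := congrFun h 0
        have h4 : (i : ℤ) - j + s - b = 0 := congrFun h 1
        omega
      · intro h
        exact absurd (Finset.mem_range.2 (by omega)) h
    rw [e1, e2]
    refine mul_ne_zero (mul_ne_zero (pow_ne_zero _ (by simp)) (cast_ne' (choose_ne hp h1 hs)))
      (mul_ne_zero (pow_ne_zero _ (by simp)) (mul_ne_zero (cast_ne' (choose_ne hp ?_ ?_)) (cast_ne' (choose_ne hp ?_ ?_))))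
    all_goals omega
  have hP : P ≠ 0 := by
    intro h
    rw [h, Polynomial.coeff_zero] at hPs
    exact hPs rfl
  obtain ⟨l, hl⟩ : ∃ l : k, P.eval l ≠ 0 := by
    by_contra hcon
    push Not at hcon
    have : Infinite k := IsAlgClosed.instInfinite
    exact hP (Polynomial.funext fun r => by rw [hcon, Polynomial.eval_zero])
  refine ⟨_, _, _, _, _, _, _, Bs_pU, Bs_pV l, hl, ?_⟩
  have key := hasZ_sum (k := k) (m := 2) (range (2 * b + 1) ×ˢ (range (T + 1) ×ˢ range (T + 1)))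
    (fun i => γ i.1 i.2.1 i.2.2 * l ^ i.1) (fun i => μ i.1 i.2.1 i.2.2)
  have e : ∑ i ∈ range (2 * b + 1) ×ˢ (range (T + 1) ×ˢ range (T + 1)),
      (if μ i.1 i.2.1 i.2.2 = 0 then γ i.1 i.2.1 i.2.2 * l ^ i.1 else 0) = P.eval l := by
    rw [Finset.sum_product, Polynomial.eval_finsetSum]
    refine Finset.sum_congr rfl fun r _ => ?_
    rw [Polynomial.eval_mul, Polynomial.eval_C, Polynomial.eval_pow, Polynomial.eval_X, Finset.sum_product,
      Finset.sum_mul]
    refine Finset.sum_congr rfl fun i _ => ?_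
    rw [Finset.sum_mul]
    refine Finset.sum_congr rfl fun j _ => ?_
    split_ifs
    · rfl
    · rw [zero_mul]
  rw [e] at key
  refine hasZ_of_eq key fun t => ?_
  have ht0 := (t 0).ne_zero
  have ht1 := (t 1).ne_zero
  obtain ⟨A, hA⟩ := IsAlgClosed.exists_pow_nat_eq ((t 0 : k) * t 1) two_pos
  have hA0 : A ≠ 0 := by
    rintro rfl
    rw [zero_pow two_ne_zero] at hA
    exact mul_ne_zero ht0 ht1 hA.symm
  set B := (t 0 : k) / A with hB
  have hB0 : B ≠ 0 := div_ne_zero ht0 hA0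
  have hAB : (t 0 : k) = A * B := by rw [hB]; field_simp
  have hAB' : (t 1 : k) = A / B := by
    rw [hB]
    field_simp
    rw [hA]
    ring
  rw [Fin.prod_univ_two, mn_p0 l t hA0 hB0 hAB hAB', mn_p1 l t hA0 hB0 hAB hAB', ← ha, ← hb]
  have e1 : ((A + A⁻¹) * (B + B⁻¹)) ^ a * (-((A + A⁻¹) - l * (B + B⁻¹)) ^ 2) ^ b =
      ∑ r ∈ range (2 * b + 1), (-1) ^ b * ((2 * b).choose r : k) * ((-1) ^ r * l ^ r) *
        ((A + A⁻¹) ^ (a + 2 * b - r) * (B + B⁻¹) ^ (a + r)) := by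
    rw [neg_pow, ← pow_mul, mul_pow, sub_eq_add_neg, add_pow (A + A⁻¹) (-(l * (B + B⁻¹))) (2 * b), Finset.mul_sum,
      Finset.mul_sum,
      ← Finset.sum_range_reflect]
    refine Finset.sum_congr rfl fun r hr => ?_
    have hr' : r ≤ 2 * b := by have := Finset.mem_range.1 hr; omega
    have e2 : 2 * b + 1 - 1 - r = 2 * b - r := by omega
    have e3 : 2 * b - (2 * b - r) = r := by omega
    have e4 : a + 2 * b - r = a + (2 * b - r) := by omega
    rw [e2, e3, Nat.choose_symm hr', neg_pow (l * (B + B⁻¹)), mul_pow l, e4, pow_add, pow_add]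
    ring
  rw [e1, Finset.sum_product]
  refine Finset.sum_congr rfl fun r hr => ?_
  have hr' : r ≤ 2 * b := by have := Finset.mem_range.1 hr; omega
  rw [add_inv_pow hA0 (T := T) (show a + 2 * b - r ≤ T by omega), add_inv_pow hB0 (T := T) (show a + r ≤ T by omega),
    Finset.sum_mul_sum, Finset.mul_sum, Finset.sum_product]
  refine Finset.sum_congr rfl fun i _ => ?_
  rw [Finset.mul_sum]
  refine Finset.sum_congr rfl fun j _ => ?_
  show _ = (-1) ^ b * ((2 * b).choose r : k) * ((-1) ^ r * (((a + 2 * b - r).choose i : k) * ((a + r).choose j : k))) *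
    l ^ r * chi ![(i : ℤ) + j - a - b, (i : ℤ) - j + r - b] t
  rw [chi_two, hAB, hAB', zpow_AB hA0 hB0]
  have e5 : (i : ℤ) + j - a - b + ((i : ℤ) - j + r - b) = 2 * (i : ℤ) - ((a + 2 * b - r : ℕ) : ℤ) := by omega
  have e6 : (i : ℤ) + j - a - b - ((i : ℤ) - j + r - b) = 2 * (j : ℤ) - ((a + r : ℕ) : ℤ) := by omega
  rw [e5, e6]
  ring

/-! ### The statements -/

theorem Zm_two_gen [IsAlgClosed k] {p : ℕ} [CharP k p] (hp : p.Prime) (hp2 : p ≠ 2) (n : Fin 2 → ℕ) (h0 : n 0 < p)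
    (h1 : 2 * n 1 < p) : Zm 2 k n := by
  by_cases hb : n 1 = 0
  · exact Zm_special hp hp2 n h0 h1 (Or.inl (by omega))
  · by_cases h : n 0 + n 1 < p
    · exact Zm_prod hp hp2 n h h1 (by omega)
    · exact Zm_special hp hp2 n h0 h1 (Or.inr (by omega))

theorem Zm_gen [IsAlgClosed k] {p : ℕ} [CharP k p] (hp : p.Prime) (hp2 : p ≠ 2) :
    ∀ (m : ℕ) (n : Fin m → ℕ), (∀ j, aa n j < p) → Zm m k n := by
  have h2 : (2 : k) ≠ 0 := by
    have : ((2 : ℕ) : k) ≠ 0 := cast_ne' (p := p) (fun h => hp2 ((Nat.prime_dvd_prime_iff_eq hp Nat.prime_two).1 h))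
    exact_mod_cast this
  intro m
  induction m using Nat.strong_induction_on with
  | _ m ih =>
    match m, ih with
    | 0, _ => exact fun n _ => Zm_zero n
    | 1, _ => exact fun n h => Zm_one_gen hp n (h 0)
    | 2, _ => exact fun n h => Zm_two_gen hp hp2 n (h 0) (h 1)
    | r + 3, ih =>
      intro n h
      apply Zm_step h2 n
      apply ih (r + 1) (by omega)
      intro j
      have h1 := h j.succ.succ
      unfold aa at *
      simp only [Fin.val_succ] at *
      split_ifs at * <;> omega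

/-- **(D), all odd `p`**: the zero weight occurs in every restricted module of type `B_m`. -/
theorem stZero [IsAlgClosed k] {p m : ℕ} [CharP k p] (hp : p.Prime) (hp2 : p ≠ 2)
    (hO : ∀ g ∈ O (quadOdd m k), ∃ g' ∈ E (quadOdd m k), ∃ ε : k, ε ≠ 0 ∧ ∀ v, g' v = ε • g v) : StZero p m k := by
  intro n hn
  have h2 : (2 : k) ≠ 0 := by
    have : ((2 : ℕ) : k) ≠ 0 := cast_ne' (p := p) (fun h => hp2 ((Nat.prime_dvd_prime_iff_eq hp Nat.prime_two).1 h))
    exact_mod_cast this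
  exact stZero_of_Zm h2 hO n (Zm_gen hp hp2 m n hn)

end Cfsg.Agent.H231.UniZero
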