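import Cfsg.Agent.H231.Rel
import Cfsg.Agent.H227.Weak2

/-!
# The weak closure `K°` of a weakly closed `p`-subgroup and `O^p(K°)`
-/

set_option autoImplicit false
set_option linter.unusedSectionVars false

namespace Cfsg.Agent.H231

open Subgroup Cfsg H230 H227.Weak
open scoped commutatorElement

variable {G : Type*} [Group G] [Finite G] {p : ℕ} [Fact p.Prime]

section wc

variable {Q : Subgroup G} (hQ : IsPGroup p Q) (hwc : IsWeaklyClosedSubgroup p Q)
  {K : Subgroup G} (hQK : Q ≤ K)

include hQ hwc hQK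

theorem wClos_le : weakClosure Q K ≤ K := iSup_le fun g => g.2

theorem le_wClos : Q ≤ weakClosure Q K := by
  have h1 : Q.map (MulAut.conj (1 : G)).toMonoidHom ≤ K := by
    have : Q.map (MulAut.conj (1 : G)).toMonoidHom = Q := cj_one Q
    rw [this]; exact hQK
  have h2 := le_iSup (fun g : {g : G // Q.map (MulAut.conj g).toMonoidHom ≤ K} =>
      Q.map (MulAut.conj (g : G)).toMonoidHom) ⟨1, h1⟩
  have : Q.map (MulAut.conj (1 : G)).toMonoidHom = Q := cj_one Q
  refine le_trans ?_ h2
  rw [this]

theorem cj_le_wClos {k : G} (hk : k ∈ K) : cj k Q ≤ weakClosure Q K := by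
  rw [weakClosure_eq hQ hwc hQK]
  exact le_iSup (fun k : K => cj (k : G) Q) ⟨k, hk⟩

/-- `K° ≤ X` as soon as `Q ≤ X` and `K` normalizes `X`. -/
theorem wClos_le_of_normalizer {X : Subgroup G} (hQX : Q ≤ X) (hK : K ≤ normalizer (X : Set G)) :
    weakClosure Q K ≤ X := by
  rw [weakClosure_eq hQ hwc hQK]
  refine iSup_le fun k => ?_
  have h1 := cj_mono (k : G) hQX
  rwa [cj_eq_self_iff.2 (hK k.2)] at h1

/-- every element normalizing `K` normalizes `K°` -/
theorem normalizer_le_normalizer_wClos :
    normalizer (K : Set G) ≤ normalizer ((weakClosure Q K : Subgroup G) : Set G) := by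
  have key : ∀ g ∈ normalizer (K : Set G), cj g (weakClosure Q K) ≤ weakClosure Q K := by
    intro g hg
    rw [cj, weakClosure, Subgroup.map_iSup]
    refine iSup_le fun x => ?_
    have h1 : (Q.map (MulAut.conj (x : G)).toMonoidHom).map (MulAut.conj g).toMonoidHom =
        Q.map (MulAut.conj (g * (x : G))).toMonoidHom := cj_cj g x Q
    rw [h1]
    have h2 : Q.map (MulAut.conj (g * (x : G))).toMonoidHom ≤ K := by
      rw [← h1]
      have := Subgroup.map_mono (f := (MulAut.conj g).toMonoidHom) x.2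
      have h3 : K.map (MulAut.conj g).toMonoidHom = K := cj_eq_self_iff.2 hg
      rwa [h3] at this
    exact le_iSup (fun g : {g : G // Q.map (MulAut.conj g).toMonoidHom ≤ K} =>
      Q.map (MulAut.conj (g : G)).toMonoidHom) ⟨g * x, h2⟩
  intro g hg
  rw [← cj_eq_self_iff]
  apply le_antisymm (key g hg)
  rw [← cj_le_cj_iff (g := g⁻¹), cj_inv_cj]
  exact key g⁻¹ (inv_mem hg)

theorem le_normalizer_wClos : K ≤ normalizer ((weakClosure Q K : Subgroup G) : Set G) :=
  le_normalizer.trans (normalizer_le_normalizer_wClos hQ hwc hQK)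

/-- `(K°)° = K°` -/
theorem wClos_wClos : weakClosure Q (weakClosure Q K) = weakClosure Q K := by
  apply le_antisymm (iSup_le fun g => g.2)
  refine iSup_le fun g => ?_
  have h2 : Q.map (MulAut.conj (g : G)).toMonoidHom ≤ weakClosure Q K :=
    le_iSup (fun g : {g : G // Q.map (MulAut.conj g).toMonoidHom ≤ K} =>
      Q.map (MulAut.conj (g : G)).toMonoidHom) g
  exact le_iSup (fun g : {g : G // Q.map (MulAut.conj g).toMonoidHom ≤ weakClosure Q K} =>
      Q.map (MulAut.conj (g : G)).toMonoidHom) ⟨g, h2⟩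

/-- `K° ≤ X` as soon as `Q ≤ X` and `K°` normalizes `X`. -/
theorem wClos_le_of_normalizer' {X : Subgroup G} (hQX : Q ≤ X)
    (hK : weakClosure Q K ≤ normalizer (X : Set G)) : weakClosure Q K ≤ X := by
  have h1 := wClos_le_of_normalizer hQ hwc (le_wClos hQ hwc hQK) hQX hK
  rwa [wClos_wClos hQ hwc hQK] at h1

/-- `K° = O^p(K°) Q` -/
theorem wClos_eq : resOf p (weakClosure Q K) ⊔ Q = weakClosure Q K := by
  set A := weakClosure Q K with hA
  have hQA : Q ≤ A := le_wClos hQ hwc hQK
  apply le_antisymm (sup_le (resOf_le p A) hQA)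
  refine wClos_le_of_normalizer' hQ hwc hQK le_sup_right ?_
  rw [← hA]
  obtain ⟨T, hT, hQT⟩ := exists_isSylowOf_ge hQA hQ
  have h1 : T ≤ normalizer (Q : Set G) := le_normalizer_of_isPGroup hwc hT.isPGroup hQT
  have h2 : T ≤ normalizer ((resOf p A : Subgroup G) : Set G) :=
    hT.le.trans (le_normalizer_resOf p A)
  have h3 : T ≤ normalizer ((resOf p A ⊔ Q : Subgroup G) : Set G) := le_normalizer_sup h2 h1
  calc A = resOf p A ⊔ T := hT.resOf_sup.symm
    _ ≤ _ := sup_le (le_sup_left.trans le_normalizer) h3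

/-- `O^p(K°) = [O^p(K°), Q]` -/
theorem commutator_resOf_wClos :
    ⁅resOf p (weakClosure Q K), Q⁆ = resOf p (weakClosure Q K) := by
  set A := weakClosure Q K with hA
  have hQA : Q ≤ A := le_wClos hQ hwc hQK
  have h0 : A ≤ normalizer ((resOf p A : Subgroup G) : Set G) := le_normalizer_resOf p A
  set C := ⁅resOf p A, Q⁆ with hC
  have h1 : C ≤ resOf p A := commutator_le_of_le_normalizer (hQA.trans h0)
  apply le_antisymm h1
  have hn1 : resOf p A ≤ normalizer (C : Set G) := le_normalizer_commutator_left _ _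
  have hn2 : Q ≤ normalizer (C : Set G) := le_normalizer_commutator_right _ _
  have hn3 : A ≤ normalizer ((C ⊔ Q : Subgroup G) : Set G) := by
    calc A = resOf p A ⊔ Q := (wClos_eq hQ hwc hQK).symm
      _ ≤ _ := by
        refine sup_le ?_ (le_sup_right.trans le_normalizer)
        -- `resOf p A` normalizes `C ⊔ Q` as `[Q, resOf] = C`
        apply le_normalizer_of_commutator_le
        refine sup_commutator_le (P := C ⊔ Q) (A := C) (B := Q) (le_sup_left.trans le_normalizer)
          (le_sup_right.trans le_normalizer) ?_ ?_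
        · exact (commutator_le_of_le_normalizer hn1).trans le_sup_left
        · rw [commutator_comm]; exact le_sup_left
  have h2 : A ≤ C ⊔ Q := wClos_le_of_normalizer' hQ hwc hQK le_sup_right hn3
  exact resOf_le_of_sup_eq hQ hn2 h2

end wc

end Cfsg.Agent.H231
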